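import Groth.Agent.FlatStrata.Main
import Groth.Agent.S2427
import Groth.Prelude.Def_FGA
import Groth.Agent.Ega2Proj.RelAmpleCoprod

/-!
# The flattening stratification on projective space
-/

set_option autoImplicit false

universe u

open CategoryTheory Limits AlgebraicGeometry

namespace Groth.FlatStrata

/-- The map of projective spaces over `φ` is a base change. -/
theorem isPullback_projMap (n : ℕ) {T S : Scheme.{u}} (φ : T ⟶ S) :
    IsPullback (FGA.projMap n φ) (CohB1.ProjSpaceOver.toBase n T) (CohB1.ProjSpaceOver.toBase n S) φ := by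
  have h₂ := IsPullback.of_hasPullback (CohB1.ProjSpace.toSpec n (ULift.{u} ℤ))
    (specULiftZIsTerminal.from S)
  refine IsPullback.of_right ?_ (pullback.lift_snd _ _ _) h₂
  have e1 : FGA.projMap n φ ≫ pullback.fst (CohB1.ProjSpace.toSpec n (ULift.{u} ℤ))
      (specULiftZIsTerminal.from S) = pullback.fst (CohB1.ProjSpace.toSpec n (ULift.{u} ℤ))
        (specULiftZIsTerminal.from T) :=
    (pullback.lift_fst _ _ _).trans (Category.comp_id _)
  rw [e1, show φ ≫ specULiftZIsTerminal.from S = specULiftZIsTerminal.from T from
    specULiftZIsTerminal.hom_ext _ _]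
  exact IsPullback.of_hasPullback _ _

/-- `O(1)` is ample relative to the projection of projective space. -/
theorem isRelAmple_twistOne (n : ℕ) (S : Scheme.{u}) :
    RelAmple.IsRelAmple (CohB1.ProjSpaceOver.toBase n S) (Twist.twistOver n S 1) := by
  have h := Groth.Agent.S2427.isRelAmple_twistOver n (𝟙 (CohB1.ProjSpaceOver n S))
  rw [Category.id_comp] at h
  exact Ega2Proj.isRelAmple_of_iso ((Scheme.Modules.pullbackId _).app _) h

end Groth.FlatStrata
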