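import Groth.Agent.FlatStrata.Semicont
import Groth.Agent.FlatStrata.ProjSpace
import Groth.Agent.HilbStab.BC.Euler
import Groth.Agent.PnCoh.OverAffine
import Groth.Agent.S2426
import Groth.Agent.S2427
import Groth.Prelude.Def_Curv2

/-!
# Hilbert polynomials of the fibres and the rank functions of the flattening stratification
-/

set_option autoImplicit false

universe u

open CategoryTheory Limits AlgebraicGeometry TopologicalSpace Opposite
open scoped TensorProduct
open Groth.CohBase hiding res res_res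
open Groth.PicAux

namespace Groth.FlatStrata

section Fibre

variable {X S : Scheme.{u}} (f : X ⟶ S) {F L : X.Modules} {N : ℕ} {H : Set (ℕ → ℕ)}

theorem isField_Γ_spec_residueField (s : S) :
    IsField Γ(Spec (S.residueField s), (⊤ : (Spec (S.residueField s)).Opens)) :=
  MulEquiv.isField (Field.toIsField (S.residueField s))
    (Scheme.ΓSpecIso (S.residueField s)).commRingCatIsoToRingEquiv.toMulEquiv

theorem top_le_preimage_fromSpecResidueField {s : S} {V : S.Opens} (hs : s ∈ V) :
    (⊤ : (Spec (S.residueField s)).Opens) ≤ S.fromSpecResidueField s ⁻¹ᵁ V := fun x _ => by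
  change S.fromSpecResidueField s x ∈ V
  rw [Scheme.fromSpecResidueField_apply]
  exact hs

/-- A function is nonzero at a point iff the point lies in its basic open. -/
theorem appLE_fromSpecResidueField_ne_zero_iff {V : S.Opens} {t : S} (ht : t ∈ V) (g : Γ(S, V)) :
    (S.fromSpecResidueField t).appLE V ⊤ (top_le_preimage_fromSpecResidueField ht) g ≠ 0 ↔
      t ∈ S.basicOpen g := by
  let ι := S.fromSpecResidueField t
  have key := Scheme.basicOpen_appLE ι ⊤ V (top_le_preimage_fromSpecResidueField ht) g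
  have hι : ∀ x, ι x = t := fun x => Scheme.fromSpecResidueField_apply t x
  constructor
  · intro hne
    let := (isField_Γ_spec_residueField t).toField
    rw [Scheme.basicOpen_of_isUnit _ (show IsUnit (ι.appLE V ⊤
      (top_le_preimage_fromSpecResidueField ht) g) from IsUnit.mk0 _ hne)] at key
    have hm : IsLocalRing.closedPoint (S.residueField t) ∈
        (⊤ : (Spec (S.residueField t)).Opens) ⊓ ι ⁻¹ᵁ S.basicOpen g := key.le trivial
    have h2 : ι (IsLocalRing.closedPoint (S.residueField t)) ∈ S.basicOpen g := hm.2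
    rwa [hι] at h2
  · intro hmem h0
    have hm : IsLocalRing.closedPoint (S.residueField t) ∈
        (⊤ : (Spec (S.residueField t)).Opens) ⊓ ι ⁻¹ᵁ S.basicOpen g :=
      ⟨trivial, by change ι _ ∈ S.basicOpen g; rw [hι]; exact hmem⟩
    rw [← key, show ι.appLE V ⊤ _ g = 0 from h0, Scheme.basicOpen_zero] at hm
    exact hm

/-- The rank at a point is the dimension of the base changed sections. -/
theorem finrank_tensor_of_hasRank [IsProper f] [IsLocallyNoetherian S] (hF : Coh.IsCoh F)
    (hL : PicF.IsInvertible L) {V : S.Opens} (hV : IsAffineOpen V) {s : S} (hs : s ∈ V)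
    {h : ℕ → ℕ} (hh : HasRank f F L N h (S.fromSpecResidueField s)) (d : ℕ) :
    letI : ((f ⁻¹ᵁ V : X.Opens) : Scheme.{u}).Over (Spec (CommRingCat.of Γ(S, V))) :=
      ⟨preimageToSpec f⟩
    letI := ((S.fromSpecResidueField s).appLE V ⊤
      (top_le_preimage_fromSpecResidueField hs)).hom.toAlgebra
    Module.finrank Γ(Spec (S.residueField s), ⊤) (Γ(Spec (S.residueField s), ⊤) ⊗[Γ(S, V)]
      secA Γ(S, V) (tw (F.restrict (f ⁻¹ᵁ V).ι) (L.restrict (f ⁻¹ᵁ V).ι) (N + d)) ⊤) = h d := by
  let : ((f ⁻¹ᵁ V : X.Opens) : Scheme.{u}).Over (Spec (CommRingCat.of Γ(S, V))) :=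
    ⟨preimageToSpec f⟩
  let ι := S.fromSpecResidueField s
  let := (ι.appLE V ⊤ (top_le_preimage_fromSpecResidueField hs)).hom.toAlgebra
  let := (isField_Γ_spec_residueField s).toField
  have := (isCoh_pushTw f hF hL (N + d)).1
  obtain ⟨E⟩ := nonempty_chart_sections f ι F L (N + d) hV
    (isAffineOpen_top (Spec (S.residueField s))) (top_le_preimage_fromSpecResidueField hs)
  have hfree := LocFree.isFinLocFree_of_rank (hh d)
  let x : Spec (S.residueField s) := IsLocalRing.closedPoint _
  have h1 := LocFree.rankAtStalk_sections hfree (isAffineOpen_top (Spec (S.residueField s)))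
    (x := x) trivial
  rw [LocFree.finrank_stalk (hh d), Module.rankAtStalk_eq_finrank_of_free] at h1
  exact E.finrank_eq.trans h1

/-- The cohomology of high twists on a fibre is concentrated in degree zero, where its dimension is
the rank. -/
theorem finrank_HH_fibre_tw [IsProper f] [IsLocallyNoetherian S] (hF : Coh.IsCoh F)
    (hL : PicF.IsInvertible L) {s : S}
    (hcov : ∃ V : S.Opens, IsAffineOpen V ∧ s ∈ V ∧ ∃ H : Set (ℕ → ℕ),
      letI : ((f ⁻¹ᵁ V : X.Opens) : Scheme.{u}).Over (Spec (CommRingCat.of Γ(S, V))) :=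
        ⟨preimageToSpec f⟩
      ∀ (K : Type u) [Field K] [Algebra Γ(S, V) K],
        GoodPt Γ(S, V) (F.restrict (f ⁻¹ᵁ V).ι) (L.restrict (f ⁻¹ᵁ V).ι) N H K)
    {h : ℕ → ℕ} (hh : HasRank f F L N h (S.fromSpecResidueField s))
    {Z : Scheme.{u}} [Z.Over (Spec (CommRingCat.of (S.residueField s)))] {g' : Z ⟶ X}
    (sq : IsPullback g' (Z ↘ Spec (CommRingCat.of (S.residueField s))) f
      (S.fromSpecResidueField s)) (d p : ℕ) :
    Module.finrank (S.residueField s)
      (Coh.HH Z ((Scheme.Modules.pullback g').obj (tw F L (N + d))) p) =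
        if p = 0 then h d else 0 := by
  obtain ⟨V, hV, hs, H, hgood⟩ := hcov
  let κ := S.residueField s
  let T := Spec κ
  let π : Z ⟶ T := Z ↘ Spec (CommRingCat.of κ)
  have : IsProper (Z ↘ Spec (CommRingCat.of κ)) := MorphismProperty.of_isPullback sq ‹IsProper f›
  have := CohFin.compactSpace_of_proper (A := κ) π
  have := CohFin.isSeparated_of_proper (A := κ) π
  let : ((f ⁻¹ᵁ V : X.Opens) : Scheme.{u}).Over (Spec (CommRingCat.of Γ(S, V))) :=
    ⟨preimageToSpec f⟩
  let : ((π ⁻¹ᵁ ⊤ : Z.Opens) : Scheme.{u}).Over (Spec (CommRingCat.of Γ(T, (⊤ : T.Opens)))) :=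
    ⟨preimageToSpec π⟩
  let := ((S.fromSpecResidueField s).appLE V ⊤
    (top_le_preimage_fromSpecResidueField hs)).hom.toAlgebra
  let := (isField_Γ_spec_residueField s).toField
  let : Algebra κ Γ(T, (⊤ : T.Opens)) := (Scheme.ΓSpecIso κ).inv.hom.toAlgebra
  have h₀ : IsBC (A := κ) (A' := Γ(T, (⊤ : T.Opens))) (π ⁻¹ᵁ (⊤ : T.Opens)).ι := by
    have h := isPullback_preimageToSpec π (isAffineOpen_top T)
    rw [IsAffineOpen.fromSpec_top, Scheme.isoSpec_Spec_inv] at h
    exact h
  obtain ⟨r, hr, ⟨er⟩⟩ := exists_chart f sq (tw F L (N + d)) hV (isAffineOpen_top T)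
    (top_le_preimage_fromSpecResidueField hs)
  obtain ⟨hbc, hvan⟩ :=
    (hgood Γ(T, (⊤ : T.Opens)) _ r hr).1 (N + d) (Nat.le_add_right N d)
  let θ := (Scheme.Modules.pullback r).mapIso
      (nonempty_restrict_tw F L (f ⁻¹ᵁ V) (N + d)).some.symm ≪≫ er ≪≫
    (Scheme.Modules.restrictFunctorIsoPullback (π ⁻¹ᵁ (⊤ : T.Opens)).ι).app
      ((Scheme.Modules.pullback g').obj (tw F L (N + d)))
  have := (isCoh_pullback g' (isCoh_tw hF hL (N + d))).1
  have h1 := (haIsoEquiv (A := Γ(T, (⊤ : T.Opens)))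
    (preimageToSpec π (V := ⊤)) θ p).finrank_eq
  refine (HilbStab.BC.finrank_HH_baseChange h₀ _ p).symm.trans (h1.symm.trans ?_)
  split_ifs with hp
  · subst hp
    refine (finrank_HH_zero (K := Γ(T, (⊤ : T.Opens))) _).trans ?_
    exact (LinearEquiv.ofBijective _ hbc).finrank_eq.symm.trans
      (finrank_tensor_of_hasRank f hF hL hV hs hh d)
  · have : Subsingleton (CohFin.HA (preimageToSpec π (V := ⊤)) ((Scheme.Modules.pullback r).obj
        (tw (F.restrict (f ⁻¹ᵁ V).ι) (L.restrict (f ⁻¹ᵁ V).ι) (N + d))) p) :=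
      hvan p (Nat.one_le_iff_ne_zero.2 hp)
    exact Module.finrank_zero_of_subsingleton

/-- On the fibre the Euler characteristics of high twists are the ranks. -/
theorem eulerCharLE_eq_rank {K : Type u} [Field K] {Z : Scheme.{u}}
    [Z.Over (Spec (CommRingCat.of K))] {E : Z.Modules} {r : ℕ}
    (h : ∀ p : ℕ, Module.finrank K (Coh.HH Z E p) = if p = 0 then r else 0) (n : ℕ) :
    FGA.eulerCharLE K Z E n = r := by
  unfold FGA.eulerCharLE
  rw [Finset.sum_eq_single 0 (fun p _ hp => by rw [h p, if_neg hp]; simp) (by simp), h 0]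
  simp

/-- Isomorphic modules have the same Euler characteristic. -/
theorem eulerCharLE_congr {K : Type u} [Field K] {Z : Scheme.{u}}
    [Z.Over (Spec (CommRingCat.of K))] {E E' : Z.Modules} (e : E ≅ E') (n : ℕ) :
    FGA.eulerCharLE K Z E n = FGA.eulerCharLE K Z E' n := by
  unfold FGA.eulerCharLE
  refine Finset.sum_congr rfl fun p _ => ?_
  have h : Module.finrank K (Coh.HH Z E p) = Module.finrank K (Coh.HH Z E' p) :=
    (haIsoEquiv (Z ↘ Spec (CommRingCat.of K)) e p).finrank_eq
  rw [h]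

/-- The rank cannot go up on a neighbourhood of a point. -/
theorem exists_open_rank_le [IsProper f] [IsLocallyNoetherian S] (hF : Coh.IsCoh F)
    (hL : PicF.IsInvertible L) {s : S} {h : ℕ → ℕ}
    (hh : HasRank f F L N h (S.fromSpecResidueField s)) (d : ℕ) :
    ∃ O : S.Opens, s ∈ O ∧ ∀ (t : S) (h' : ℕ → ℕ), t ∈ O →
      HasRank f F L N h' (S.fromSpecResidueField t) → h' d ≤ h d := by
  obtain ⟨V, hV, hs, -⟩ := exists_isAffineOpen_mem_and_subset (x := s) (U := (⊤ : S.Opens)) trivial
  let : ((f ⁻¹ᵁ V : X.Opens) : Scheme.{u}).Over (Spec (CommRingCat.of Γ(S, V))) :=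
    ⟨preimageToSpec f⟩
  let alg : ∀ t : S, t ∈ V →
      Algebra Γ(S, V) Γ(Spec (S.residueField t), (⊤ : (Spec (S.residueField t)).Opens)) :=
    fun t ht => ((S.fromSpecResidueField t).appLE V ⊤
      (top_le_preimage_fromSpecResidueField ht)).hom.toAlgebra
  have hb : ∀ (t : S) (ht : t ∈ V) (g : Γ(S, V)),
      (alg t ht).algebraMap g ≠ 0 ↔ t ∈ S.basicOpen g :=
    fun t ht g => appLE_fromSpecResidueField_ne_zero_iff ht g
  let M := secA Γ(S, V) (tw (F.restrict (f ⁻¹ᵁ V).ι) (L.restrict (f ⁻¹ᵁ V).ι) (N + d)) ⊤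
  have : IsNoetherianRing Γ(S, V) := IsLocallyNoetherian.component_noetherian ⟨V, hV⟩
  have : IsProper (((f ⁻¹ᵁ V : X.Opens) : Scheme.{u}) ↘ Spec (CommRingCat.of Γ(S, V))) :=
    MorphismProperty.of_isPullback (isPullback_preimageToSpec f hV) ‹IsProper f›
  have : IsLocallyNoetherian X := LocallyOfFiniteType.isLocallyNoetherian f
  have : Module.Finite Γ(S, V) M := finite_secA_top _
    (QCohMod.isCoh_of_iso (nonempty_restrict_tw F L (f ⁻¹ᵁ V) (N + d)).some
      (CohFin.isCoh_restrict (isCoh_tw hF hL (N + d)) _))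
  let := alg s hs
  let := (isField_Γ_spec_residueField s).toField
  obtain ⟨g, hg, hle⟩ := exists_finrank_tensor_le (A := Γ(S, V)) M
    Γ(Spec (S.residueField s), (⊤ : (Spec (S.residueField s)).Opens))
  refine ⟨S.basicOpen g, (hb s hs g).1 hg, fun t h' ht hh' => ?_⟩
  have htV : t ∈ V := S.basicOpen_le g ht
  let := alg t htV
  let := (isField_Γ_spec_residueField t).toField
  have h1 := hle Γ(Spec (S.residueField t), (⊤ : (Spec (S.residueField t)).Opens))
    ((hb t htV g).2 ht)
  exact ((finrank_tensor_of_hasRank f hF hL hV htV hh' d).ge.trans h1).trans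
    (finrank_tensor_of_hasRank f hF hL hV hs hh d).le

end Fibre

section ProjSpace

variable (n : ℕ) {S : Scheme.{u}}

/-- Twisting sheaves pull back to twisting sheaves. -/
theorem nonempty_pullback_projMap_twist {T : Scheme.{u}} (φ : T ⟶ S) (m : ℤ) :
    Nonempty ((Scheme.Modules.pullback (FGA.projMap n φ)).obj (Twist.twistOver n S m) ≅
      Twist.twistOver n T m) :=
  ⟨(Scheme.Modules.pullbackComp (FGA.projMap n φ) _).app _ ≪≫
    (Scheme.Modules.pullbackCongr ((pullback.lift_fst _ _ _).trans (Category.comp_id _))).app _⟩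

/-- The Euler characteristics of the twists on a fibre of projective space form a polynomial. -/
theorem exists_fibre_poly (F : (CohB1.ProjSpaceOver n S).Modules) (hF : Coh.IsCoh F)
    (K : Type u) [Field K] (σ : Spec (CommRingCat.of K) ⟶ S) (Z : Scheme.{u})
    [Z.Over (Spec (CommRingCat.of K))] (g' : Z ⟶ CohB1.ProjSpaceOver n S)
    (sq : IsPullback g' (Z ↘ Spec (CommRingCat.of K)) (CohB1.ProjSpaceOver.toBase n S) σ) :
    ∃ P : Polynomial ℚ, ∀ m : ℤ, (FGA.eulerCharLE K Z (CohB1.tensorMod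
      ((Scheme.Modules.pullback g').obj F)
      ((Scheme.Modules.pullback g').obj (Twist.twistOver n S m))) n : ℚ) = P.eval (m : ℚ) := by
  have := Groth.Variety2.isProper_projSpaceOver_toBase n S
  let π := Z ↘ Spec (CommRingCat.of K)
  have : IsProper π := MorphismProperty.of_isPullback sq ‹_›
  have := CohFin.compactSpace_of_proper π
  have := CohFin.isSeparated_of_proper π
  let PK := CohB1.ProjSpace n K
  let : PK.Over (Spec (CommRingCat.of K)) := ⟨CohB1.ProjSpace.toSpec n K⟩
  let q₀ : PK ⟶ CohB1.ProjSpaceOver n S := (PnCoh.overIso n K).hom ≫ FGA.projMap n σ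
  have hq₀ : IsPullback q₀ (CohB1.ProjSpace.toSpec n K) (CohB1.ProjSpaceOver.toBase n S) σ := by
    refine (isPullback_projMap n σ).of_iso (PnCoh.overIso n K).symm (Iso.refl _) (Iso.refl _)
      (Iso.refl _) ?_ ?_ ?_ ?_ <;> simp [q₀, Iso.eq_inv_comp]
  let q : PK ≅ Z := IsPullback.isoIsPullback _ _ hq₀ sq
  have hqg : q.hom ≫ g' = q₀ := IsPullback.isoIsPullback_hom_fst _ _ hq₀ sq
  have hqπ : q.hom ≫ π = CohB1.ProjSpace.toSpec n K :=
    IsPullback.isoIsPullback_hom_snd _ _ hq₀ sq
  have hbc : IsBC (A := K) (A' := K) q.hom := by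
    change IsPullback q.hom _ _ (Spec.map (CommRingCat.ofHom (algebraMap K K)))
    rw [Algebra.algebraMap_self, CommRingCat.ofHom_id, Spec.map_id]
    refine IsPullback.of_horiz_isIso ⟨?_⟩
    exact hqπ.trans (Category.comp_id _).symm
  let F' := (Scheme.Modules.pullback q₀).obj F
  obtain ⟨P, hP⟩ := Agent.S2426.result K n PK (𝟙 _) (Category.id_comp _) F' (isCoh_pullback q₀ hF)
  refine ⟨P, fun m => ?_⟩
  rw [← hP m]
  let E := CohB1.tensorMod ((Scheme.Modules.pullback g').obj F)
      ((Scheme.Modules.pullback g').obj (Twist.twistOver n S m))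
  have := (isCoh_pullback g' hF).1
  have := isQCoh_of_isInvertible
    (isInvertible_pullback g' (Groth.KTheory.RegSheaf.isInvertible_twistOver n S m))
  have : E.IsQuasicoherent := QCohMod.isQCoh_tensorMod
  obtain ⟨a⟩ := nonempty_pullback_projMap_twist n σ m
  obtain ⟨b⟩ := PnCoh.nonempty_pullback_overIso_twist n K m
  let θ : (Scheme.Modules.pullback q.hom).obj E ≅
      CohB1.tensorMod F' ((Scheme.Modules.pullback (𝟙 PK)).obj (Twist.twistProjSpace n K m)) :=
    (exists_pullback_tensorMod q.hom _ _).choose ≪≫ PicGrp.tensorModIso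
      ((Scheme.Modules.pullbackComp q.hom g').app F ≪≫ (Scheme.Modules.pullbackCongr hqg).app F)
      ((Scheme.Modules.pullbackComp q.hom g').app _ ≪≫ (Scheme.Modules.pullbackCongr hqg).app _ ≪≫
        ((Scheme.Modules.pullbackComp (PnCoh.overIso n K).hom (FGA.projMap n σ)).app _).symm ≪≫
        (Scheme.Modules.pullback (PnCoh.overIso n K).hom).mapIso a ≪≫ b ≪≫
        ((Scheme.Modules.pullbackId PK).app _).symm)
  simp only [FGA.eulerCharLE, Int.cast_sum, Int.cast_mul, Int.cast_pow, Int.cast_neg, Int.cast_one,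
    Int.cast_natCast]
  refine Finset.sum_congr rfl fun j _ => ?_
  have h1 := HilbStab.BC.finrank_HH_baseChange hbc E j
  have h2 : Module.finrank K (Coh.HH PK ((Scheme.Modules.pullback q.hom).obj E) j) = _ :=
    (haIsoEquiv (PK ↘ Spec (CommRingCat.of K)) θ j).finrank_eq
  have h3 : ∀ (W : Type u) [AddCommGroup W] [Module K W],
      (Module.length K W).toNat = Module.finrank K W := fun W _ _ => by
    by_cases hW : Module.Finite K W
    · rw [Module.length_eq_finrank]; rfl
    · rw [Module.finrank_of_not_finite hW, Module.length_eq_rank, Cardinal.toENat_eq_top.2]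
      · rfl
      · exact not_lt.1 fun hlt => hW (Module.rank_lt_aleph0_iff.1 hlt)
  rw [h3, ← h1]
  exact congrArg (fun x : ℕ => (-1 : ℚ) ^ j * (x : ℚ)) h2

/-- Powers of `O(1)` as twists, on a fibre. -/
theorem nonempty_pullback_tw_twistOne {Z : Scheme.{u}} (g' : Z ⟶ CohB1.ProjSpaceOver n S)
    (F : (CohB1.ProjSpaceOver n S).Modules) (k : ℕ) :
    Nonempty ((Scheme.Modules.pullback g').obj (tw F (Twist.twistOver n S 1) k) ≅
      CohB1.tensorMod ((Scheme.Modules.pullback g').obj F)
        ((Scheme.Modules.pullback g').obj (Twist.twistOver n S (k : ℤ)))) := by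
  obtain ⟨a⟩ := Agent.S2427.nonempty_tensorPow_twistOver n S k
  exact ⟨(Scheme.Modules.pullback g').mapIso (PicGrp.tensorModIso (Iso.refl F) a) ≪≫
    (exists_pullback_tensorMod g' F _).choose⟩

end ProjSpace

end Groth.FlatStrata
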