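import Groth.Agent.HilbStab.Scalar
import Groth.Agent.PicAux.PullTensor
import Groth.Agent.PicAux.Powers
import Groth.Agent.Inter.Twist
import Groth.Agent.Chow.VeryAmplePn
import Groth.Agent.PnCoh.AmpleVanishing
import Groth.Agent.PnCoh.SectionsExact
import Groth.Agent.QCohMod.PullbackQCoh
import Groth.Agent.QCohMod.Coherent

/-!
# Twists by powers of an invertible module
-/

set_option autoImplicit false

universe u

open CategoryTheory Limits AlgebraicGeometry
open Groth.PicAux

namespace Groth.FlatStrata

variable {X X' : Scheme.{u}}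

/-- The twist of `F` by the `d`-th power of `L`. -/
noncomputable abbrev tw (F L : X.Modules) (d : ℕ) : X.Modules :=
  CohB1.tensorMod F (CohB1.tensorPow L d)

theorem isCoh_tw {F L : X.Modules} (hF : Coh.IsCoh F) (hL : PicF.IsInvertible L) (d : ℕ) :
    Coh.IsCoh (tw F L d) :=
  RefRank.isCoh_tensorMod hF (Inter.isCoh_of_isInvertible (isInvertible_tensorPow hL d))

theorem isQCoh_tw {F L : X.Modules} [F.IsQuasicoherent] (hL : PicF.IsInvertible L) (d : ℕ) :
    (tw F L d).IsQuasicoherent :=
  have := isQCoh_of_isInvertible (isInvertible_tensorPow hL d)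
  QCohMod.isQCoh_tensorMod

/-- Inverse images commute with twists. -/
theorem nonempty_pullback_tw (g : X' ⟶ X) (F L : X.Modules) (d : ℕ) :
    Nonempty ((Scheme.Modules.pullback g).obj (tw F L d) ≅
      tw ((Scheme.Modules.pullback g).obj F) ((Scheme.Modules.pullback g).obj L) d) :=
  ⟨(exists_pullback_tensorMod g F _).choose ≪≫
    PicGrp.tensorModIso (Iso.refl _) (pullback_tensorPow g L d).some⟩

theorem isCoh_pullback (g : X' ⟶ X) {F : X.Modules} (hF : Coh.IsCoh F) :
    Coh.IsCoh ((Scheme.Modules.pullback g).obj F) :=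
  haveI := hF.1
  ⟨QCohMod.isQCoh_pullback_obj g F, QCohMod.isFT_pullback g F hF.2⟩

/-- For a map `φ`, high twists of the kernel and of the image have no higher cohomology. -/
theorem exists_subsingleton_kernel {R : Type u} [CommRing R] [IsNoetherianRing R]
    (f : X ⟶ Spec (CommRingCat.of R)) [IsProper f] {L : X.Modules} (hL : CohB1.IsAmple L)
    {F G : X.Modules} (φ : F ⟶ G) (hF : Coh.IsCoh F) [G.IsQuasicoherent] :
    ∃ N : ℕ, ∀ d : ℕ, N ≤ d → ∀ q : ℕ, 0 < q → Subsingleton (Coh.HH X
      (kernel ((DCoh.tensorRightMod (CohB1.tensorPow L d)).map φ)) q) := by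
  have : IsLocallyNoetherian X := LocallyOfFiniteType.isLocallyNoetherian f
  obtain ⟨N, hN⟩ := PnCoh.exists_subsingleton_of_isAmple f hL (kernel φ)
    (QCohMod.isCoh_kernel φ hF)
  refine ⟨N, fun d hd q hq => ?_⟩
  have := isEquivalence_tensorRightMod_of_isInvertible (isInvertible_tensorPow hL.1 d)
  exact PnCoh.subsingleton_HH_of_iso f
    (PreservesKernel.iso (DCoh.tensorRightMod (CohB1.tensorPow L d)) φ) (hN d hd q hq)

/-- An exact pair stays exact after twisting. -/
theorem exact_twist {L : X.Modules} (hL : PicF.IsInvertible L) (d : ℕ) (D : ShortComplex X.Modules)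
    (hD : D.Exact) : (D.map (DCoh.tensorRightMod (CohB1.tensorPow L d))).Exact := by
  have := isEquivalence_tensorRightMod_of_isInvertible (isInvertible_tensorPow hL d)
  exact hD.map _

end Groth.FlatStrata
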