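import Groth.Agent.FlatStrata.Canonical
import Groth.Agent.CohFin.Linear
import Groth.Agent.CohFin.ProjFinite

/-!
# Flat modules without higher cohomology
-/

set_option autoImplicit false

universe u

open CategoryTheory Limits AlgebraicGeometry TopologicalSpace Opposite
open scoped TensorProduct
open Groth.CohBase

namespace Groth.FlatStrata

variable {A A' : Type u} [CommRing A] [CommRing A'] [Algebra A A'] {X X' : Scheme.{u}}
  [X.Over (Spec (CommRingCat.of A))] [X'.Over (Spec (CommRingCat.of A'))] {g : X' ⟶ X}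
  (F : X.Modules) [F.IsQuasicoherent] [CompactSpace X] [X.IsSeparated]

/-- All cokernels in positive degree of the Čech complex are flat. -/
theorem flat_Qc_of_vanish (hfl : FlatMod.IsFlatOver (X ↘ Spec (CommRingCat.of A)) F)
    (hH : ∀ p : ℕ, 1 ≤ p → Subsingleton (Coh.HH X F p)) (G : GoodCover X) (i : ℤ) (hi : 1 ≤ i) :
    Module.Flat A (CxRank.Qc (cxA A G.U F) i) := by
  let L := cxA A G.U F
  have : ∀ i, Module.Flat A (L.X i) := flat_cxA A G.U F fun x => flat_secA A F hfl (G.affine x)
  obtain ⟨b, hb⟩ := exists_isZero_T A G F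
  refine CxRank.flat_Qc_of_flat_Hk' L b hb 1 (fun i hi => ?_) i hi
  obtain ⟨p, rfl⟩ : ∃ p : ℕ, i = p := ⟨i.toNat, by omega⟩
  have := hH p (by omega)
  have : Subsingleton (CxRank.Hk L (p : ℤ)) :=
    ((CxRank.tOneEquiv L (p : ℤ)).symm.trans (selfLinIso A G F p)).toEquiv.subsingleton
  infer_instance

/-- Higher cohomology stays zero after any base change. -/
theorem subsingleton_HH_bc_of_vanish (hsq : IsBC (A := A) (A' := A') g)
    (hfl : FlatMod.IsFlatOver (X ↘ Spec (CommRingCat.of A)) F)
    (hH : ∀ p : ℕ, 1 ≤ p → Subsingleton (Coh.HH X F p)) (p : ℕ) (hp : 1 ≤ p) :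
    Subsingleton (Coh.HH X' ((Scheme.Modules.pullback g).obj F) p) := by
  obtain ⟨G⟩ := exists_goodCover X
  let L := cxA A G.U F
  have : ∀ i, Module.Flat A (L.X i) := flat_cxA A G.U F fun x => flat_secA A F hfl (G.affine x)
  obtain ⟨t⟩ := CxRank.nonempty_tEquiv_tensor L (p : ℤ)
    (flat_Qc_of_vanish F hfl hH G _ (by omega)) (ModuleCat.of A A')
  obtain ⟨ε, -⟩ := exists_bcEquiv hsq F G p
  have := hH p hp
  have : Subsingleton (CxRank.Hk L (p : ℤ)) :=
    ((CxRank.tOneEquiv L (p : ℤ)).symm.trans (selfLinIso A G F p)).toEquiv.subsingleton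
  exact (ε.symm.trans t.toAddEquiv).toEquiv.subsingleton

/-- The global sections are flat. -/
theorem flat_secA_top_of_vanish (hfl : FlatMod.IsFlatOver (X ↘ Spec (CommRingCat.of A)) F)
    (hH : ∀ p : ℕ, 1 ≤ p → Subsingleton (Coh.HH X F p)) : Module.Flat A (secA A F ⊤) := by
  obtain ⟨G⟩ := exists_goodCover X
  let L := cxA A G.U F
  have : ∀ i, Module.Flat A (L.X i) := flat_cxA A G.U F fun x => flat_secA A F hfl (G.affine x)
  have := flat_Qc_of_vanish F hfl hH G (((0 : ℕ) : ℤ) + 1) (by simp)
  have hr : LinearMap.range (CxRank.dq L ((0 : ℕ) : ℤ)) = LinearMap.range (cxD A G.U F 0) := by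
    rw [CxRank.range_dq, cxA_d]
    rfl
  have : Module.Flat A (cxC A G.U F 0) := inferInstanceAs (Module.Flat A (L.X 0))
  have : Module.Flat A (cxC A G.U F 1) := inferInstanceAs (Module.Flat A (L.X 1))
  have : Module.Flat A (cxC A G.U F 1 ⧸ LinearMap.range (cxD A G.U F 0)) :=
    Module.Flat.of_linearEquiv ((Submodule.quotEquivOfEq _ _ hr.symm).trans
      (CxRank.cokerDqEquiv L ((0 : ℕ) : ℤ)))
  have := Groth.FlatCxBase.flat_range_of_flat_quot (cxD A G.U F 0)
  have := Groth.FlatCxBase.flat_ker_of_flat_range (cxD A G.U F 0)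
  obtain ⟨h₁, h₂⟩ := aug_exact (A := A) F G
  exact Module.Flat.of_linearEquiv ((LinearEquiv.ofInjective _ h₁).trans
    (LinearEquiv.ofEq _ _ (LinearMap.exact_iff.1 h₂).symm))

omit [F.IsQuasicoherent] [CompactSpace X] [X.IsSeparated] in
/-- Global sections of a coherent module on a proper scheme are finite. -/
theorem finite_secA_top [IsNoetherianRing A] [IsProper (X ↘ Spec (CommRingCat.of A))]
    (hF : Coh.IsCoh F) : Module.Finite A (secA A F ⊤) := by
  let f := X ↘ Spec (CommRingCat.of A)
  have : Module.Finite A (CohFin.HA f F 0) := CohFin.hFin_of_proper CohFin.projFinite 0 X f F hF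
  let e : CohFin.HA f F 0 ≃ₗ[A] secA A F ⊤ :=
    { CohFin.equivSections f F with
      map_smul' := fun a x => (CohFin.equivSections_smul f F a x).trans (by
        change _ = toSec A (⊤ : X.Opens) a • (show Γ(F, (⊤ : X.Opens)) from _)
        congr 1
        exact (QCohMod.resFun_self _).symm) }
  exact Module.Finite.equiv e

omit [F.IsQuasicoherent] [CompactSpace X] [X.IsSeparated] in
/-- Degree zero cohomology and global sections have the same dimension. -/
theorem finrank_HH_zero {K : Type u} [Field K] {Z : Scheme.{u}}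
    [Z.Over (Spec (CommRingCat.of K))] (E : Z.Modules) :
    Module.finrank K (Coh.HH Z E 0) = Module.finrank K (secA K E ⊤) := by
  let f := Z ↘ Spec (CommRingCat.of K)
  let e : CohFin.HA f E 0 ≃ₗ[K] secA K E ⊤ :=
    { CohFin.equivSections f E with
      map_smul' := fun a x => (CohFin.equivSections_smul f E a x).trans (by
        change _ = toSec K (⊤ : Z.Opens) a • (show Γ(E, (⊤ : Z.Opens)) from _)
        congr 1
        exact (QCohMod.resFun_self _).symm) }
  exact e.finrank_eq

end Groth.FlatStrata
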