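import Groth.Agent.FlatStrata.Model
import Groth.Agent.FlatMorOne.FlatStageGlobal
import Groth.Agent.SpectralTopology.NoethSystem
import Mathlib.CategoryTheory.Filtered.Basic

/-!
# Flat Noetherian models of finitely presented modules on projective space
-/

set_option autoImplicit false

universe u

open CategoryTheory Limits AlgebraicGeometry TopologicalSpace Opposite
open Groth.CohBase hiding res res_res
open Groth.PicAux

namespace Groth.FlatStrata

/-- Composition of inverse images along maps of projective spaces. -/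
theorem projMap_comp (m : ℕ) {R S T : Scheme.{u}} (φ : R ⟶ S) (ψ : S ⟶ T) :
    FGA.projMap m φ ≫ FGA.projMap m ψ = FGA.projMap m (φ ≫ ψ) := by
  unfold FGA.projMap
  exact pullback.map_comp ..

/-- Coherent modules on locally Noetherian schemes are finitely presented. -/
theorem isFP_of_isCoh {X : Scheme.{u}} [IsLocallyNoetherian X] {M : X.Modules} (hM : Coh.IsCoh M) :
    CohB1.IsFP M := by
  have := hM.1
  refine LocFree.isFP_of_affine_cover _ fun x => ?_
  obtain ⟨U, hU, hx⟩ := Groth.QCohMod.exists_affine_mem x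
  have := IsLocallyNoetherian.component_noetherian ⟨U, hU⟩
  have := (QCohMod.isFT_iff M).1 hM.2 U hU
  exact ⟨U, hU, hx, Module.finitePresentation_of_finite _ _⟩

open Groth.SpectralTopology in
/-- Flatness of a pullback of a coherent module on projective space over a finitely generated ring
descends to a Noetherian ring. -/
theorem exists_flat_stage {A₀ A : Type u} [CommRing A₀] [IsNoetherianRing A₀] [CommRing A]
    (hft : Algebra.FiniteType ℤ A₀) (φ₀ : A₀ →+* A) (m : ℕ)
    (G₀ : (CohB1.ProjSpaceOver m (Spec (CommRingCat.of A₀))).Modules) (hG₀ : Coh.IsCoh G₀)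
    (hfl : FlatMod.IsFlatOver (CohB1.ProjSpaceOver.toBase m (Spec (CommRingCat.of A)))
      ((Scheme.Modules.pullback (FGA.projMap m (Spec.map (CommRingCat.ofHom φ₀)))).obj G₀)) :
    ∃ (A₁ : Type u) (_ : CommRing A₁) (_ : IsNoetherianRing A₁) (α : A₀ →+* A₁) (φ : A₁ →+* A),
      φ.comp α = φ₀ ∧
      FlatMod.IsFlatOver (CohB1.ProjSpaceOver.toBase m (Spec (CommRingCat.of A₁)))
        ((Scheme.Modules.pullback (FGA.projMap m (Spec.map (CommRingCat.ofHom α)))).obj G₀) := by
  let R := CommRingCat.of A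
  have : IsFiltered (FGSub R) := @isFiltered_of_directed_le_nonempty _ _
    ⟨fun s t => ⟨⟨s.1 ⊔ t.1, s.2.sup t.2⟩, le_sup_left (a := s.1), le_sup_right (a := s.1)⟩⟩
    ⟨⟨⊥, Subalgebra.fg_bot⟩⟩
  let φa : A₀ →ₐ[ℤ] R := φ₀.toIntAlgHom
  let i₀ : (FGSub R)ᵒᵖ := op ⟨φa.range, by
    rw [← Algebra.map_top]
    exact hft.out.map φa⟩
  let S₀ := (fgSchemes R).obj i₀
  have : IsNoetherian S₀ := isNoetherian_fgSchemes R i₀
  let S := Spec (CommRingCat.of A)
  let S' := Spec (CommRingCat.of A₀)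
  let ρ : S₀ ⟶ S' := Spec.map (CommRingCat.ofHom φa.rangeRestrict.toRingHom)
  let σ : S ⟶ S₀ := (fgCone R).π.app i₀
  have hσ : σ ≫ ρ = Spec.map (CommRingCat.ofHom φ₀) := by
    change Spec.map _ ≫ Spec.map _ = _
    rw [← Spec.map_comp]
    rfl
  -- the module over the image of `A₀`
  let P₀ := CohB1.ProjSpaceOver m S₀
  let F₀ := (Scheme.Modules.pullback (FGA.projMap m ρ)).obj G₀
  have hc₀ : Coh.IsCoh F₀ := by
    have : IsProper (CohB1.ProjSpaceOver.toBase m S₀) :=
      Groth.Variety2.isProper_projSpaceOver_toBase m S₀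
    have : IsLocallyNoetherian P₀ :=
      LocallyOfFiniteType.isLocallyNoetherian (CohB1.ProjSpaceOver.toBase m S₀)
    exact isCoh_pullback _ hG₀
  have := hc₀.1
  let π₀ := CohB1.ProjSpaceOver.toBase m S₀
  have : IsProper π₀ := Groth.Variety2.isProper_projSpaceOver_toBase m S₀
  have : IsLocallyNoetherian P₀ := LocallyOfFiniteType.isLocallyNoetherian π₀
  have hF₀ : CohB1.IsFP F₀ := isFP_of_isCoh hc₀
  have : LocallyOfFinitePresentation π₀ := by
    rw [HasRingHomProperty.iff_appLE (P := @LocallyOfFinitePresentation)]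
    intro U V e'
    have := IsLocallyNoetherian.component_noetherian U
    exact RingHom.FinitePresentation.of_finiteType.1 (π₀.finiteType_appLE U.2 V.2 e')
  have : LocallyOfFinitePresentation (π₀ ≫ 𝟙 S₀) := by
    rw [Category.comp_id]
    infer_instance
  have : QuasiCompact (π₀ ≫ 𝟙 S₀) := by rw [Category.comp_id]; infer_instance
  have e₀ : (Scheme.Modules.pullback (FGA.projMap m σ)).obj F₀ ≅
      (Scheme.Modules.pullback (FGA.projMap m (Spec.map (CommRingCat.ofHom φ₀)))).obj G₀ :=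
    (Scheme.Modules.pullbackComp _ _).app G₀ ≪≫
      (Scheme.Modules.pullbackCongr (by rw [projMap_comp, hσ])).app G₀
  have hfl₀ : FlatMod.IsFlatOver (CohB1.ProjSpaceOver.toBase m S)
      ((Scheme.Modules.pullback (FGA.projMap m σ)).obj F₀) := fun x =>
    (FlatMorOne.isFlatOverAt_congr _ e₀ x).2 (hfl x)
  have : ∀ (a b : (FGSub R)ᵒᵖ) (w : a ⟶ b), IsAffineHom ((fgSchemes R).map w) :=
    fun a b w => isAffineHom_fgSchemes R a b w
  obtain ⟨i, ψ, hi⟩ := FlatMorOne.exists_stage_isFlatOver (D := fgSchemes R) (c := fgCone R)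
    π₀ (𝟙 S₀) (isLimitFgCone R) F₀ hF₀ (g := 𝟙 (fgCone R).pt) IsPullback.of_id_snd
    (isPullback_projMap m σ) hfl₀
  let τ : (fgSchemes R).obj i ⟶ S₀ := (fgSchemes R).map ψ
  let S₁ := (fgSchemes R).obj i
  have : IsNoetherian S₁ := isNoetherian_fgSchemes R i
  let P₁ := CohB1.ProjSpaceOver m S₁
  let π₁ := CohB1.ProjSpaceOver.toBase m S₁
  have : IsProper π₁ := Groth.Variety2.isProper_projSpaceOver_toBase m S₁
  have : IsLocallyNoetherian P₁ := LocallyOfFiniteType.isLocallyNoetherian π₁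
  let F₁ := (Scheme.Modules.pullback (FGA.projMap m τ)).obj F₀
  have hflat₁ : FlatMod.IsFlatOver π₁ F₁ := by
    have hsq := isPullback_projMap m τ
    let vX : P₁ ⟶ pullback (π₀ ≫ 𝟙 S₀) τ :=
      pullback.lift (FGA.projMap m τ) π₁ (by rw [Category.comp_id]; exact hsq.w)
    let vY : S₁ ⟶ pullback (𝟙 S₀) τ := pullback.lift τ (𝟙 _) (by simp)
    intro x
    refine FlatMorOne.isFlatOverAt_of_square F₀ (vX := vX) (vY := vY) ?_ (pullback.lift_fst _ _ _)
      x (hi _)
    refine IsPullback.of_right ?_ ?_ (FlatMorOne.isPullback_stageHom π₀ (𝟙 S₀) ψ)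
    · rw [pullback.lift_fst, pullback.lift_fst]
      exact hsq
    · apply pullback.hom_ext
      · simp only [Category.assoc, pullback.lift_fst, vY, vX]
        erw [pullback.lift_fst, pullback.lift_fst_assoc]
        exact hsq.w
      · simp only [Category.assoc, pullback.lift_snd, vY, vX, Category.comp_id]
        exact (congrArg (_ ≫ ·) (pullback.lift_snd _ _ _)).trans (pullback.lift_snd _ _ _)
  have hN : IsNoetherianRing i.unop.1 := by
    have : Algebra.FiniteType ℤ i.unop.1 := i.unop.1.fg_iff_finiteType.1 i.unop.2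
    exact Algebra.FiniteType.isNoetherianRing ℤ _
  let α : A₀ →+* i.unop.1 :=
    (Subalgebra.inclusion (leOfHom ψ.unop)).toRingHom.comp φa.rangeRestrict.toRingHom
  have hα : τ ≫ ρ = Spec.map (CommRingCat.ofHom α) := by
    change Spec.map _ ≫ Spec.map _ = _
    rw [← Spec.map_comp]
    rfl
  refine ⟨i.unop.1, inferInstance, hN, α, i.unop.1.val.toRingHom, RingHom.ext fun _ => rfl,
    fun x => ?_⟩
  refine (FlatMorOne.isFlatOverAt_congr _ ?_ x).1 (hflat₁ x)
  exact (Scheme.Modules.pullbackComp _ _).app G₀ ≪≫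
    (Scheme.Modules.pullbackCongr ((projMap_comp m τ ρ).trans (congrArg (FGA.projMap m) hα))).app G₀

/-- Flat finitely presented modules on projective space come from flat coherent modules over
Noetherian rings. -/
theorem exists_flat_model {A : Type u} [CommRing A] (m : ℕ)
    (G : (CohB1.ProjSpaceOver m (Spec (CommRingCat.of A))).Modules)
    [G.IsQuasicoherent] (hG : CohB1.IsFP G)
    (hfl : FlatMod.IsFlatOver (CohB1.ProjSpaceOver.toBase m (Spec (CommRingCat.of A))) G) :
    ∃ (A₁ : Type u) (_ : CommRing A₁) (_ : IsNoetherianRing A₁) (φ : A₁ →+* A)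
      (G₁ : (CohB1.ProjSpaceOver m (Spec (CommRingCat.of A₁))).Modules),
      Coh.IsCoh G₁ ∧
      FlatMod.IsFlatOver (CohB1.ProjSpaceOver.toBase m (Spec (CommRingCat.of A₁))) G₁ ∧
      Nonempty ((Scheme.Modules.pullback
        (FGA.projMap m (Spec.map (CommRingCat.ofHom φ)))).obj G₁ ≅ G) := by
  obtain ⟨A₀, _, _, φ₀, G₀, hft, hG₀, ⟨e⟩⟩ := exists_model m G hG
  obtain ⟨A₁, _, _, α, φ, hc, hfl₁⟩ := exists_flat_stage hft φ₀ m G₀ hG₀
    fun x => (FlatMorOne.isFlatOverAt_congr _ e x).2 (hfl x)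
  let π₁ := CohB1.ProjSpaceOver.toBase m (Spec (CommRingCat.of A₁))
  have : IsProper π₁ := Groth.Variety2.isProper_projSpaceOver_toBase m _
  refine ⟨A₁, inferInstance, inferInstance, φ, _, isCoh_pullback _ hG₀, hfl₁,
    ⟨(Scheme.Modules.pullbackComp _ _).app G₀ ≪≫ (Scheme.Modules.pullbackCongr ?_).app G₀ ≪≫ e⟩⟩
  rw [projMap_comp, ← Spec.map_comp, ← CommRingCat.ofHom_comp, hc]

end Groth.FlatStrata
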