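import Groth.Agent.Flatmor4.OverRep

/-!
# Gluing subschemes defined by universal properties
-/

set_option autoImplicit false

universe u

open CategoryTheory Limits AlgebraicGeometry Opposite

namespace Groth.FlatStrata

variable {S : Scheme.{u}} (P : ∀ T : Scheme.{u}, (T ⟶ S) → Prop)
  (hcomp : ∀ (T T' : Scheme.{u}) (h : T' ⟶ T) (g : T ⟶ S), P T g → P T' (h ≫ g))

/-- The subfunctor of the final functor given by a stable condition. -/
noncomputable def condFunctor : (Over S)ᵒᵖ ⥤ Type u where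
  obj T := ULift.{u} (PLift (P T.unop.left T.unop.hom))
  map {T T'} g := ↾fun a => ⟨⟨by
    have h := hcomp _ _ g.unop.left _ a.down.down
    rwa [Over.w g.unop] at h⟩⟩
  map_id T := by ext a; rfl
  map_comp g h := by ext a; rfl

include hcomp in
/-- A local condition which is locally cut out by immersions of finite presentation is cut out by an
immersion of finite presentation. -/
theorem exists_immersion_of_local
    (hloc : ∀ (T : Scheme.{u}) (g : T ⟶ S) (𝒰 : Scheme.OpenCover.{u} T),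
      (∀ i, P (𝒰.X i) (𝒰.f i ≫ g)) → P T g)
    (hex : ∀ x : S, ∃ V : S.Opens, x ∈ V ∧ ∃ (W : Scheme.{u}) (e : W ⟶ V),
      IsImmersion e ∧ QuasiCompact e ∧ LocallyOfFinitePresentation e ∧
      ∀ (T : Scheme.{u}) (g : T ⟶ V), (∃ h : T ⟶ W, h ≫ e = g) ↔ P T (g ≫ V.ι)) :
    ∃ (W : Scheme.{u}) (i : W ⟶ S), IsImmersion i ∧ QuasiCompact i ∧
      LocallyOfFinitePresentation i ∧
      ∀ (T : Scheme.{u}) (g : T ⟶ S), (∃ h : T ⟶ W, h ≫ i = g) ↔ P T g := by
  classical
  choose V hxV Wl e he₁ he₂ he₃ huniv using hex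
  let F := condFunctor P hcomp
  have hsub : ∀ T, Subsingleton (F.obj T) := fun T =>
    inferInstanceAs (Subsingleton (ULift.{u} (PLift (P T.unop.left T.unop.hom))))
  let D : Flatmor4.OverRep.Atlas F :=
    { ι := (S : Type u)
      H := fun x => Over.mk (e x ≫ (V x).ι)
      Z := fun x => ⟨⟨(huniv x _ (e x)).1 ⟨𝟙 _, Category.id_comp _⟩⟩⟩
      loc := fun x {T} _ => T.hom ⁻¹ᵁ V x
      loc_map := fun x {T T'} g _ => by rw [← Over.w g]; rfl
      loc_self := fun x => top_le_iff.1 fun w _ => (e x w).2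
      univ := fun x T a ha => by
        let g₀ : T.left ⟶ V x := IsOpenImmersion.lift (V x).ι T.hom (by
          rintro _ ⟨t, rfl⟩
          exact (Scheme.Opens.range_ι _).ge (ha.ge (Set.mem_univ t) :))
        have hg₀ : g₀ ≫ (V x).ι = T.hom := IsOpenImmersion.lift_fac _ _ _
        obtain ⟨h, hh⟩ := (huniv x _ g₀).2 (hg₀ ▸ a.down.down)
        refine ⟨Over.homMk h ?_, Subsingleton.elim _ _, fun t _ => ?_⟩
        · exact (Category.assoc _ _ _).symm.trans ((congrArg (· ≫ (V x).ι) hh).trans hg₀)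
        · have : IsImmersion (e x ≫ (V x).ι) := inferInstance
          ext
          rw [← cancel_mono (e x ≫ (V x).ι)]
          exact (Over.w t).trans (((Category.assoc _ _ _).symm.trans
            ((congrArg (· ≫ (V x).ι) hh).trans hg₀)).symm)
      cover := fun T _ t => ⟨T.hom t, hxV _⟩ }
  obtain ⟨R⟩ := Flatmor4.OverRep.Atlas.representable D fun T 𝒰 a ha => by
    refine ⟨⟨⟨hloc _ _ 𝒰 fun i => (a i).down.down⟩⟩, fun i => Subsingleton.elim _ _,
      fun _ _ => Subsingleton.elim _ _⟩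
  obtain ⟨W, ⟨E⟩⟩ := R
  let W' := W
  have hiff : ∀ (T : Scheme.{u}) (g : T ⟶ S), (∃ h : T ⟶ W.left, h ≫ W.hom = g) ↔ P T g := by
    intro T g
    constructor
    · rintro ⟨h, rfl⟩
      exact (E.homEquiv (Over.homMk h : Over.mk (h ≫ W.hom) ⟶ W)).down.down
    · intro hg
      let t : Over.mk g ⟶ W := E.homEquiv.symm ⟨⟨hg⟩⟩
      exact ⟨t.left, Over.w t⟩
  have huniq : ∀ {T : Scheme.{u}} (a b : T ⟶ W.left), a ≫ W.hom = b ≫ W.hom → a = b := by
    intro T a b hab
    have : (Over.homMk a : Over.mk (a ≫ W.hom) ⟶ W) = Over.homMk b hab.symm :=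
      E.homEquiv.injective (Subsingleton.elim _ _)
    exact congr_arg (fun m : Over.mk (a ≫ W.hom) ⟶ W => m.left) this
  have key : ∀ Q : MorphismProperty Scheme.{u}, IsZariskiLocalAtTarget Q →
      (∀ x, Q (e x)) → Q W.hom := by
    intro Q hQ hQe
    refine hQ.of_iSup_eq_top (P := Q) V (top_le_iff.1 fun s _ =>
      TopologicalSpace.Opens.mem_iSup.2 ⟨s, hxV s⟩) fun x => ?_
    obtain ⟨k, hk⟩ := (huniv x _ (W.hom ∣_ V x)).2 (by
      rw [morphismRestrict_ι]
      exact hcomp _ _ _ _ ((hiff _ W.hom).1 ⟨𝟙 _, Category.id_comp _⟩))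
    obtain ⟨j, hj⟩ := (hiff _ (e x ≫ (V x).ι)).2 ((huniv x _ _).1 ⟨𝟙 _, Category.id_comp _⟩)
    let j' : Wl x ⟶ (W.hom ⁻¹ᵁ V x : W.left.Opens) :=
      IsOpenImmersion.lift (W.hom ⁻¹ᵁ V x).ι j (by
        rintro _ ⟨w, rfl⟩
        rw [Scheme.Opens.range_ι]
        change W.hom (j w) ∈ V x
        rw [← Scheme.Hom.comp_apply, hj]
        exact (e x w).2)
    have hj' : j' ≫ W.hom ∣_ V x = e x := by
      rw [← cancel_mono (V x).ι, Category.assoc, morphismRestrict_ι,
        IsOpenImmersion.lift_fac_assoc, hj]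
    have : Mono (W.hom ∣_ V x) := ⟨fun a b hab => by
      rw [← cancel_mono (W.hom ⁻¹ᵁ V x).ι]
      apply huniq
      simp only [Category.assoc, ← morphismRestrict_ι]
      rw [reassoc_of% hab]⟩
    let q : (W.hom ⁻¹ᵁ V x : W.left.Opens).toScheme ≅ Wl x :=
      { hom := k
        inv := j'
        hom_inv_id := by rw [← cancel_mono (W.hom ∣_ V x), Category.assoc, hj', hk, Category.id_comp]
        inv_hom_id := by rw [← cancel_mono (e x), Category.assoc, hk, hj', Category.id_comp] }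
    have : IsIso k := ⟨j', q.hom_inv_id, q.inv_hom_id⟩
    have := (MorphismProperty.cancel_left_of_respectsIso Q k (e x)).2 (hQe x)
    rwa [hk] at this
  exact ⟨W.left, W.hom, key @IsImmersion inferInstance he₁, key @QuasiCompact inferInstance he₂,
    key @LocallyOfFinitePresentation inferInstance he₃, hiff⟩

end Groth.FlatStrata
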