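import Groth.Agent.FlatStrata.StageSections
import Groth.Agent.FlatStrata.Twist
import Groth.Agent.FlatStrata.Hilbert
import Groth.Agent.FlatTwist.Relative
import Groth.Agent.Misc13.ProjFactor
import Groth.Agent.FBaseGeom.AssTensor
import Groth.Agent.Ega2Proj.SpansFinite
import Groth.Agent.QCohMod.ExtendFP
import Groth.Agent.PnCoh.Cohomology
import Groth.Agent.PropsBasic.LocFree
import Groth.Agent.LocCohBase.HomExtend
import Groth.Agent.S2427
import Mathlib.RingTheory.FiniteType

/-!
# Noetherian models of finitely presented modules on projective space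
-/

set_option autoImplicit false

universe u

open CategoryTheory Limits AlgebraicGeometry TopologicalSpace Opposite
open Groth.CohBase hiding res res_res
open Groth.PicAux

namespace Groth.FlatStrata

attribute [local instance] Abelian.hasFiniteBiproducts

/-- Twists of finitely presented modules by invertible modules are finitely presented. -/
theorem isFP_tensorMod_of_isInvertible {X : Scheme.{u}} {G L : X.Modules} [G.IsQuasicoherent]
    (hG : CohB1.IsFP G) (hL : PicF.IsInvertible L) : CohB1.IsFP (CohB1.tensorMod G L) := by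
  have := isQCoh_of_isInvertible hL
  have : (CohB1.tensorMod G L).IsQuasicoherent := QCohMod.isQCoh_tensorMod
  refine LocFree.isFP_of_affine_cover _ fun x => ?_
  obtain ⟨U, e, hU, hxU, he⟩ := exists_affine_gen_mem hL x
  have := Groth.PropsBasic.FPSections.finitePresentation_sections G hG hU
  let T : Γ(G, U) →ₗ[Γ(X, U)] Γ(CohB1.tensorMod G L, U) :=
    { toFun := fun t => tmulSec t (Groth.PicAux.res L (le_refl U) e)
      map_add' := fun a b => tmulSec_add_left a b _
      map_smul' := fun a b => tmulSec_smul_left _ b _ }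
  exact ⟨U, hU, hxU, Module.FinitePresentation.of_equiv
    (LinearEquiv.ofBijective T (FlatTwist.tmulSec_bijective he G le_rfl))⟩

/-- A twist of a finite free module is a finite sum of copies of the twisting module. -/
theorem nonempty_freeMod_tensor {X : Scheme.{u}} {T : X.Modules} (hT : PicF.IsInvertible T)
    (a : ℕ) :
    Nonempty (CohB1.tensorMod (FlatMod.freeMod X a) T ≅ ⨁ fun _ : Fin a => T) := by
  have := isEquivalence_tensorRightMod_of_isInvertible hT
  exact ⟨PreservesCoproduct.iso (DCoh.tensorRightMod T) (fun _ : Fin a => Coh.structureModule X) ≪≫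
      Sigma.mapIso (fun _ => (exists_braiding (Coh.structureModule X) T).choose ≪≫
        SecTwist.unitorR T) ≪≫
      (biproduct.isoCoproduct _).symm⟩

/-- The base ring `ℤ`, in the universe `u`. -/
abbrev Zu : Type u := ULift.{u} ℤ

section Zalg

variable (A : Type u) [CommRing A]

/-- The algebra structure over `ℤ`. -/
@[reducible] noncomputable def zuAlgebra : Algebra Zu.{u} A :=
  ((Int.castRingHom A).comp (ULift.ringEquiv (R := ℤ)).toRingHom).toAlgebra

end Zalg

/-- The pullback functor is additive. -/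
theorem additive_pullback {X Y : Scheme.{u}} (f : X ⟶ Y) : (Scheme.Modules.pullback f).Additive :=
  haveI := preservesBinaryBiproducts_of_preservesBinaryCoproducts (Scheme.Modules.pullback f)
  Functor.additive_of_preservesBinaryBiproducts _

/-- The inverse image of the map given by a section. -/
theorem pullUnit_homOfSection {X Y : Scheme.{u}} (q : X ⟶ Y) {M : Y.Modules} {N : X.Modules}
    (θ : (Scheme.Modules.pullback q).obj M ⟶ N) (t : Γ(M, (⊤ : Y.Opens))) (s : Γ(N, (⊤ : X.Opens)))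
    (h : θ.app ⊤ (pullSec q M t) = s) :
    (Scheme.Modules.pullback q).map (homOfSection t) ≫ θ = pullUnit q ≫ homOfSection s := by
  have := isIso_pullUnit q
  rw [← cancel_epi (inv (pullUnit q)), IsIso.inv_hom_id_assoc]
  refine hom_structure_ext ?_
  have h1 : (inv (pullUnit q)).app ⊤ (oneSec X ⊤) = pullSec q _ (oneSec Y ⊤) := by
    rw [show oneSec X ⊤ = (pullUnit q).app (q ⁻¹ᵁ (⊤ : Y.Opens)) (pullSec q _ (oneSec Y ⊤)) from
      (pullbackObjUnit_oneSec q).symm]
    exact congr(($(IsIso.hom_inv_id (pullUnit q))).app ⊤ (pullSec q _ (oneSec Y ⊤)))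
  rw [homOfSection_one, ← h, Scheme.Modules.Hom.comp_app, Scheme.Modules.Hom.comp_app,
    ConcreteCategory.comp_apply, ConcreteCategory.comp_apply, h1]
  refine congrArg (θ.app ⊤) ?_
  exact (pullSec_map q (homOfSection t) (oneSec Y ⊤)).trans (by rw [homOfSection_one])

/-- Cokernels of matrices of sections commute with inverse images. -/
theorem nonempty_pullback_cokernel_matrix {X Y : Scheme.{u}} (q : X ⟶ Y) {a b : ℕ} {M : Y.Modules}
    {N : X.Modules} (θ : (Scheme.Modules.pullback q).obj M ≅ N)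
    (φ : FlatMod.freeMod X b ⟶ ⨁ fun _ : Fin a => N) (t : Fin b → Fin a → Γ(M, (⊤ : Y.Opens)))
    (ht : ∀ j i, θ.hom.app ⊤ (pullSec q M (t j i)) =
      (Sigma.ι (fun _ : Fin b => Coh.structureModule X) j ≫ φ ≫ biproduct.π _ i).app ⊤ (oneSec X ⊤)) :
    Nonempty ((Scheme.Modules.pullback q).obj (cokernel (Sigma.desc (fun j : Fin b =>
      biproduct.lift fun i : Fin a => homOfSection (t j i)) :
        FlatMod.freeMod Y b ⟶ ⨁ fun _ : Fin a => M)) ≅ cokernel φ) := by
  have := additive_pullback q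
  have := isIso_pullUnit q
  let F := Scheme.Modules.pullback q
  let e₁ : F.obj (FlatMod.freeMod Y b) ≅ FlatMod.freeMod X b :=
    PreservesCoproduct.iso F (fun _ : Fin b => Coh.structureModule Y) ≪≫
      Sigma.mapIso fun _ => asIso (pullUnit q)
  let e₂ : F.obj (⨁ fun _ : Fin a => M) ≅ ⨁ fun _ : Fin a => N :=
    F.mapBiproduct (fun _ : Fin a => M) ≪≫ biproduct.mapIso fun _ => θ
  refine ⟨PreservesCokernel.iso F _ ≪≫ cokernel.mapIso _ φ e₁ e₂ ?_⟩
  have he₁ : ∀ j, F.map (Sigma.ι (fun _ : Fin b => Coh.structureModule Y) j) ≫ e₁.hom =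
      pullUnit q ≫ Sigma.ι (fun _ : Fin b => Coh.structureModule X) j := fun j => by
    have h : F.map (Sigma.ι (fun _ : Fin b => Coh.structureModule Y) j) =
        Sigma.ι (fun _ : Fin b => F.obj (Coh.structureModule Y)) j ≫
          (PreservesCoproduct.iso F fun _ : Fin b => Coh.structureModule Y).inv := by
      rw [PreservesCoproduct.inv_hom, ι_comp_sigmaComparison]
    rw [h, Category.assoc]
    simp only [e₁, Iso.trans_hom, Iso.inv_hom_id_assoc, Sigma.mapIso]
    exact Sigma.ι_map (fun _ : Fin b => pullUnit q) j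
  have he₂ : ∀ i, e₂.hom ≫ biproduct.π (fun _ : Fin a => N) i =
      F.map (biproduct.π (fun _ : Fin a => M) i) ≫ θ.hom := fun i => by
    simp [e₂]
    erw [biproduct.lift_π_assoc]
    rfl
  rw [← cancel_epi (PreservesCoproduct.iso F (fun _ : Fin b => Coh.structureModule Y)).inv]
  refine Sigma.hom_ext _ _ fun j => biproduct.hom_ext _ _ fun i => ?_
  rw [PreservesCoproduct.inv_hom, ι_comp_sigmaComparison_assoc, ι_comp_sigmaComparison_assoc,
    Category.assoc, Category.assoc, Category.assoc, Category.assoc, he₂,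
    ← Category.assoc (F.map (Sigma.ι _ j)) e₁.hom, he₁, ← Functor.map_comp_assoc, Sigma.ι_desc,
    ← Functor.map_comp_assoc, biproduct.lift_π, pullUnit_homOfSection q θ.hom _ _ (ht j i),
    Category.assoc]
  congr 1
  refine hom_structure_ext ?_
  rw [homOfSection_one]

/-- Base change of the sections of `O(k)`, `k ≥ 0`, from projective space over `ℤ`. -/
theorem bcBij_twistProjSpace (m k : ℕ) {B : Type u} [CommRing B] [Algebra Zu.{u} B] {P : Scheme.{u}}
    [P.Over (Spec (CommRingCat.of B))] {g : P ⟶ CohB1.ProjSpace m Zu.{u}}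
    (hbc : letI : (CohB1.ProjSpace m Zu.{u}).Over (Spec (CommRingCat.of Zu.{u})) :=
        ⟨CohB1.ProjSpace.toSpec m Zu.{u}⟩
      IsBC (A := Zu.{u}) (A' := B) g) :
    letI : (CohB1.ProjSpace m Zu.{u}).Over (Spec (CommRingCat.of Zu.{u})) :=
        ⟨CohB1.ProjSpace.toSpec m Zu.{u}⟩
    BCBij hbc (Twist.twistProjSpace m Zu.{u} (k : ℤ)) := by
  let PZ := CohB1.ProjSpace m Zu.{u}
  let : PZ.Over (Spec (CommRingCat.of Zu.{u})) := ⟨CohB1.ProjSpace.toSpec m Zu.{u}⟩
  let TZ := Twist.twistProjSpace m Zu.{u} (k : ℤ)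
  have : TZ.IsQuasicoherent := Ega2Proj.isQuasicoherent_twist _ _
  have : Smooth (CohB1.ProjSpace.toSpec m Zu.{u}) := Misc13.ProjFactor.smooth_projSpace_toSpec m
  have : Flat (PZ ↘ Spec (CommRingCat.of Zu.{u})) :=
    inferInstanceAs (Flat (CohB1.ProjSpace.toSpec m Zu.{u}))
  have : IsProper (PZ ↘ Spec (CommRingCat.of Zu.{u})) := inferInstanceAs (IsProper (CohB1.ProjSpace.toSpec m Zu.{u}))
  have := CohFin.compactSpace_of_proper (PZ ↘ Spec (CommRingCat.of Zu.{u}))
  have := CohFin.isSeparated_of_proper (PZ ↘ Spec (CommRingCat.of Zu.{u}))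
  refine bcBij_of_vanish hbc TZ ?_ fun q hq =>
    PnCoh.subsingleton_HH_twist (k : ℤ) q (by omega) (by omega)
  have hT : PicF.IsInvertible TZ :=
    Ega2Proj.isInvertible_twist (PnCoh.irrelevant_le_span_deg_one m Zu.{u}) _
  have : (Coh.structureModule PZ).IsQuasicoherent :=
    isQCoh_of_isInvertible (Ega2Proj.isInvertible_structure PZ)
  intro z
  exact (FlatMorOne.isFlatOverAt_congr _
    ((exists_braiding (Coh.structureModule PZ) TZ).choose ≪≫ SecTwist.unitorR TZ) z).1
    (FlatTwist.isFlatOver_tensorMod hT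
      (FBaseGeom.isFlatOver_structureModule (PZ ↘ Spec (CommRingCat.of Zu.{u}))) z)

section StageMatrix

variable {R A : Type u} [CommRing R] [CommRing A] [Algebra R A] {X X₂ : Scheme.{u}}
  [X.Over (Spec (CommRingCat.of R))] [X₂.Over (Spec (CommRingCat.of A))] {g : X₂ ⟶ X}

/-- A matrix of sections of an inverse image comes from a finitely generated subalgebra. -/
theorem exists_stage_matrix (hsq : IsBC (A := R) (A' := A) g) (T : X.Modules) (hb : BCBij hsq T)
    {a b : ℕ} (φ : FlatMod.freeMod X₂ b ⟶ ⨁ fun _ : Fin a => (Scheme.Modules.pullback g).obj T) :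
    ∃ B : Subalgebra R A, B.FG ∧ ∀ (X₁ : Scheme.{u}) [X₁.Over (Spec (CommRingCat.of B))]
      (p : X₁ ⟶ X) (q : X₂ ⟶ X₁) (_ : IsBC (A := R) (A' := B) p) (_ : IsBC (A := B) (A' := A) q)
      (_ : q ≫ p = g),
      ∃ φ₁ : FlatMod.freeMod X₁ b ⟶ ⨁ fun _ : Fin a => (Scheme.Modules.pullback p).obj T,
        Nonempty ((Scheme.Modules.pullback q).obj (cokernel φ₁) ≅ cokernel φ) := by
  obtain ⟨B, hBfg, hB⟩ := exists_stage_sections hsq T hb fun x : Fin b × Fin a =>
    (Sigma.ι (fun _ : Fin b => Coh.structureModule X₂) x.1 ≫ φ ≫ biproduct.π _ x.2).app ⊤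
      (oneSec X₂ ⊤)
  refine ⟨B, hBfg, fun X₁ _ p q h₁ h₂ e => ?_⟩
  choose t ht using hB X₁ p q h₁ h₂ e
  exact ⟨_, nonempty_pullback_cokernel_matrix q
    (((Scheme.Modules.pullbackComp q p) ≪≫ Scheme.Modules.pullbackCongr e).app T) φ
    (fun j i => t (j, i)) fun j i => ht (j, i)⟩

end StageMatrix

variable {A : Type u} [CommRing A]

/-- A twist of a finitely presented module on projective space is the cokernel of a matrix of
sections of a twisting sheaf. -/
theorem exists_presentation (m : ℕ) (G : (CohB1.ProjSpaceOver m (Spec (CommRingCat.of A))).Modules)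
    [G.IsQuasicoherent] (hG : CohB1.IsFP G) :
    ∃ (a b d k : ℕ) (φ : FlatMod.freeMod (CohB1.ProjSpaceOver m (Spec (CommRingCat.of A))) b ⟶
        ⨁ fun _ : Fin a => Twist.twistOver m (Spec (CommRingCat.of A)) (k : ℤ)),
      Nonempty (cokernel φ ≅ CohB1.tensorMod
        (CohB1.tensorMod G (Twist.twistOver m (Spec (CommRingCat.of A)) (d : ℤ)))
        (Twist.twistOver m (Spec (CommRingCat.of A)) (k : ℤ))) := by
  classical
  let S := Spec (CommRingCat.of A)
  let P := CohB1.ProjSpaceOver m S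
  let : P.Over (Spec (CommRingCat.of A)) := ⟨CohB1.ProjSpaceOver.toBase m S⟩
  have : IsProper (CohB1.ProjSpaceOver.toBase m S) := Groth.Variety2.isProper_projSpaceOver_toBase m S
  have : CompactSpace P := CohFin.compactSpace_of_proper (CohB1.ProjSpaceOver.toBase m S)
  have hamp : CohB1.IsAmple (Twist.twistOver m S 1) := by
    let U := CohB1.ProjSpaceOver.toBase m S ⁻¹ᵁ (⊤ : S.Opens)
    have h := (isRelAmple_twistOne m S).2 ⟨⊤, isAffineOpen_top _⟩
    let ι' : P ⟶ (U : Scheme.{u}) := P.topIso.inv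
    refine Ega2Proj.isAmple_of_iso ?_ (Chow.isAmple_pullback_of_isAffineHom ι' h)
    exact (Scheme.Modules.pullback ι').mapIso
        ((Scheme.Modules.restrictFunctorIsoPullback U.ι).app _) ≪≫
      (Scheme.Modules.pullbackComp ι' U.ι).app _ ≪≫
      (Scheme.Modules.pullbackCongr (show ι' ≫ U.ι = 𝟙 P from P.topIso.inv_hom_id)).app _ ≪≫
      (Scheme.Modules.pullbackId P).app _
  have hTi : ∀ k : ℤ, PicF.IsInvertible (Twist.twistOver m S k) :=
    KTheory.RegSheaf.isInvertible_twistOver m S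
  have hTq : ∀ k : ℤ, (Twist.twistOver m S k).IsQuasicoherent :=
    fun k => isQCoh_of_isInvertible (hTi k)
  -- a twist of `G` is spanned by sections
  obtain ⟨d, hd⟩ := Ega2Proj.exists_spans_twist hamp G (Groth.PropsBasic.LocFree.isFT_of_isFP _ hG)
  obtain ⟨ed⟩ := Agent.S2427.nonempty_tensorPow_twistOver m S d
  let G₁ := CohB1.tensorMod G (Twist.twistOver m S (d : ℤ))
  have := hTq (d : ℤ)
  have : G₁.IsQuasicoherent := QCohMod.isQCoh_tensorMod
  have hG₁ : CohB1.IsFT G₁ :=
    QCohMod.isFT_tensorMod (Groth.PropsBasic.LocFree.isFT_of_isFP _ hG) (Ega2Proj.isFT_of_isInvertible (hTi _))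
  have hG₁' : CohB1.IsFP G₁ := isFP_tensorMod_of_isInvertible hG (hTi _)
  obtain ⟨a, p, hp⟩ := Ega2Proj.exists_epi_freeMod_of_spans G₁ hG₁
    ((hd d le_rfl).of_iso (PicGrp.tensorModIso (Iso.refl G) ed))
  have : (FlatMod.freeMod P a).IsQuasicoherent := LocCohBase.HomExtend.isQCoh_freeMod a
  have hK : CohB1.IsFT (kernel p) := (QCohMod.isFT_iff _).2 fun U hU => by
    have := Groth.PropsBasic.FPSections.finitePresentation_sections G₁ hG₁' hU
    have := (QCohMod.isFT_iff _).1 (Groth.PropsBasic.LocFree.isFT_of_isFP _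
      (LocFree.isFP (LocFree.isFinLocFree_freeMod P a))) U hU
    exact QCohMod.finite_kernel_sections p (QCohMod.app_surjective_of_epi p hU)
  -- a twist of the relations is spanned by sections
  obtain ⟨k, hk⟩ := Ega2Proj.exists_spans_twist hamp (kernel p) hK
  obtain ⟨ek⟩ := Agent.S2427.nonempty_tensorPow_twistOver m S k
  let T := Twist.twistOver m S (k : ℤ)
  let R := DCoh.tensorRightMod T
  have := hTq (k : ℤ)
  have := isEquivalence_tensorRightMod_of_isInvertible (hTi (k : ℤ))
  have : (R.obj (kernel p)).IsQuasicoherent := QCohMod.isQCoh_tensorMod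
  obtain ⟨b, ψ, hψ⟩ := Ega2Proj.exists_epi_freeMod_of_spans (R.obj (kernel p))
    (QCohMod.isFT_tensorMod hK (Ega2Proj.isFT_of_isInvertible (hTi _)))
    ((hk k le_rfl).of_iso (PicGrp.tensorModIso (Iso.refl _) ek))
  -- the presentation by a matrix of sections
  let α : R.obj (FlatMod.freeMod P a) ≅ ⨁ fun _ : Fin a => T :=
    (nonempty_freeMod_tensor (hTi (k : ℤ)) a).some
  let φ : FlatMod.freeMod P b ⟶ ⨁ fun _ : Fin a => T := ψ ≫ R.map (kernel.ι p) ≫ α.hom
  let eφ : cokernel φ ≅ R.obj G₁ :=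
    cokernelEpiComp ψ _ ≪≫ cokernelCompIsIso (R.map (kernel.ι p)) α.hom ≪≫
      (PreservesCokernel.iso R (kernel.ι p)).symm ≪≫
      R.mapIso ((cokernelIsCokernel (kernel.ι p)).coconePointUniqueUpToIso
        (Abelian.epiIsCokernelOfKernel (KernelFork.ofι (kernel.ι p) (kernel.condition p))
          (kernelIsKernel p)))
  refine ⟨a, b, d, k, φ, ⟨eφ⟩⟩

/-- Cokernels of matrices of sections of twisting sheaves, twisted, are coherent. -/
theorem isCoh_cokernel_matrix {Y : Scheme.{u}} [IsLocallyNoetherian Y] {T T' : Y.Modules}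
    (hT : PicF.IsInvertible T) (hT' : PicF.IsInvertible T') {a b : ℕ}
    (ψ : FlatMod.freeMod Y b ⟶ ⨁ fun _ : Fin a => T) :
    Coh.IsCoh (CohB1.tensorMod (cokernel ψ) T') := by
  have : (FlatMod.freeMod Y b).IsQuasicoherent := LocCohBase.HomExtend.isQCoh_freeMod b
  have : (FlatMod.freeMod Y a).IsQuasicoherent := LocCohBase.HomExtend.isQCoh_freeMod a
  have hbi : Coh.IsCoh (⨁ fun _ : Fin a => T) :=
    QCohMod.isCoh_of_iso (nonempty_freeMod_tensor hT a).some
      (RefRank.isCoh_tensorMod ⟨this, Groth.PropsBasic.LocFree.isFT_of_isFP _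
        (LocFree.isFP (LocFree.isFinLocFree_freeMod Y a))⟩ (Inter.isCoh_of_isInvertible hT))
  exact RefRank.isCoh_tensorMod (QCohMod.isCoh_cokernel _ hbi) (Inter.isCoh_of_isInvertible hT')

/-- Untwisting. -/
theorem nonempty_untwist (m : ℕ) (S : Scheme.{u}) (G : (CohB1.ProjSpaceOver m S).Modules) (d k : ℤ) :
    Nonempty (CohB1.tensorMod (CohB1.tensorMod (CohB1.tensorMod G (Twist.twistOver m S d))
      (Twist.twistOver m S k)) (Twist.twistOver m S (-(d + k))) ≅ G) := by
  obtain ⟨f₂⟩ := KTheory.RegSheaf.nonempty_twistOver_add m S d k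
  obtain ⟨f₃⟩ := KTheory.RegSheaf.nonempty_twistOver_add m S (d + k) (-(d + k))
  rw [add_neg_cancel] at f₃
  obtain ⟨f₄⟩ := KTheory.RegSheaf.nonempty_structure_of_idem
    (KTheory.RegSheaf.isInvertible_twistOver m S 0)
    (by simpa using KTheory.RegSheaf.nonempty_twistOver_add m S 0 0)
  exact ⟨PicGrp.tensorModIso ((exists_associator G _ _).choose ≪≫
      PicGrp.tensorModIso (Iso.refl G) f₂) (Iso.refl _) ≪≫
    (exists_associator G _ _).choose ≪≫
    PicGrp.tensorModIso (Iso.refl G) (f₃ ≪≫ f₄) ≪≫ SecTwist.unitorR G⟩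

/-- Finitely presented modules on projective space come from Noetherian rings. -/
theorem exists_model (m : ℕ) (G : (CohB1.ProjSpaceOver m (Spec (CommRingCat.of A))).Modules)
    [G.IsQuasicoherent] (hG : CohB1.IsFP G) :
    ∃ (A₀ : Type u) (_ : CommRing A₀) (_ : IsNoetherianRing A₀) (φ : A₀ →+* A)
      (G₀ : (CohB1.ProjSpaceOver m (Spec (CommRingCat.of A₀))).Modules),
      Algebra.FiniteType ℤ A₀ ∧ Coh.IsCoh G₀ ∧ Nonempty ((Scheme.Modules.pullback
        (FGA.projMap m (Spec.map (CommRingCat.ofHom φ)))).obj G₀ ≅ G) := by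
  classical
  let := zuAlgebra A
  obtain ⟨a, b, d, k, φ, ⟨eφ⟩⟩ := exists_presentation m G hG
  let S := Spec (CommRingCat.of A)
  let P := CohB1.ProjSpaceOver m S
  let : P.Over (Spec (CommRingCat.of A)) := ⟨CohB1.ProjSpaceOver.toBase m S⟩
  let T := Twist.twistOver m S (k : ℤ)
  have hTi : ∀ k : ℤ, PicF.IsInvertible (Twist.twistOver m S k) :=
    KTheory.RegSheaf.isInvertible_twistOver m S
  -- sections over `ℤ`
  let PZ := CohB1.ProjSpace m Zu.{u}
  let : PZ.Over (Spec (CommRingCat.of Zu.{u})) := ⟨CohB1.ProjSpace.toSpec m Zu.{u}⟩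
  let g : P ⟶ PZ := pullback.fst _ _
  have hbc : IsBC (A := Zu.{u}) (A' := A) g := by
    change IsPullback g _ _ (Spec.map (CommRingCat.ofHom (algebraMap Zu.{u} A)))
    rw [show Spec.map (CommRingCat.ofHom (algebraMap Zu.{u} A)) = specULiftZIsTerminal.from S from
      specULiftZIsTerminal.hom_ext _ _]
    exact IsPullback.of_hasPullback _ _
  let TZ := Twist.twistProjSpace m Zu.{u} (k : ℤ)
  have : TZ.IsQuasicoherent := Ega2Proj.isQuasicoherent_twist _ _
  have hb : BCBij hbc TZ := bcBij_twistProjSpace m k hbc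
  obtain ⟨B, hBfg, hB⟩ := exists_stage_matrix hbc TZ hb φ
  have : Algebra.FiniteType Zu.{u} B := B.fg_iff_finiteType.1 hBfg
  have : IsNoetherianRing Zu.{u} :=
    isNoetherianRing_of_ringEquiv ℤ (ULift.ringEquiv (R := ℤ)).symm
  have hBn : IsNoetherianRing B := Algebra.FiniteType.isNoetherianRing Zu.{u} B
  let S₀ := Spec (CommRingCat.of B)
  let P₀ := CohB1.ProjSpaceOver m S₀
  let : P₀.Over (Spec (CommRingCat.of B)) := ⟨CohB1.ProjSpaceOver.toBase m S₀⟩
  let σ : S ⟶ S₀ := Spec.map (CommRingCat.ofHom (algebraMap B A))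
  let q : P ⟶ P₀ := FGA.projMap m σ
  let g₀ : P₀ ⟶ PZ := pullback.fst _ _
  have h₁ : IsBC (A := Zu.{u}) (A' := B) g₀ := by
    change IsPullback g₀ _ _ (Spec.map (CommRingCat.ofHom (algebraMap Zu.{u} B)))
    rw [show Spec.map (CommRingCat.ofHom (algebraMap Zu.{u} B)) = specULiftZIsTerminal.from S₀ from
      specULiftZIsTerminal.hom_ext _ _]
    exact IsPullback.of_hasPullback _ _
  have h₂ : IsBC (A := B) (A' := A) q := isPullback_projMap m σ
  have e : q ≫ g₀ = g := (pullback.lift_fst _ _ _).trans (Category.comp_id _)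
  obtain ⟨φ₁, ⟨eC⟩⟩ := hB P₀ g₀ q h₁ h₂ e
  let C₀ := cokernel φ₁
  let G₀ := CohB1.tensorMod C₀ (Twist.twistOver m S₀ (-((d : ℤ) + k)))
  have : IsProper (CohB1.ProjSpaceOver.toBase m S₀) :=
    Groth.Variety2.isProper_projSpaceOver_toBase m S₀
  have : IsLocallyNoetherian P₀ :=
    LocallyOfFiniteType.isLocallyNoetherian (CohB1.ProjSpaceOver.toBase m S₀)
  refine ⟨B, inferInstance, hBn, algebraMap B A, G₀, ?_, ?_, ?_⟩
  · have : Algebra.FiniteType ℤ Zu.{u} := Algebra.FiniteType.of_surjective (Algebra.ofId ℤ Zu.{u})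
      fun x => ⟨x.down, ULift.ext _ _ (by simp)⟩
    have h1 : ((algebraMap Zu.{u} B).comp (algebraMap ℤ Zu.{u})).FiniteType :=
      (RingHom.finiteType_algebraMap.2 ‹Algebra.FiniteType Zu.{u} B›).comp
        (RingHom.finiteType_algebraMap.2 ‹Algebra.FiniteType ℤ Zu.{u}›)
    rw [RingHom.ext_int ((algebraMap Zu.{u} B).comp (algebraMap ℤ Zu.{u})) (algebraMap ℤ B)] at h1
    exact RingHom.finiteType_algebraMap.1 h1
  · exact isCoh_cokernel_matrix (KTheory.RegSheaf.isInvertible_twistOver m S₀ _)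
      (KTheory.RegSheaf.isInvertible_twistOver m S₀ _) _
  · obtain ⟨f₁⟩ := nonempty_pullback_projMap_twist m σ (-((d : ℤ) + k))
    obtain ⟨u⟩ := nonempty_untwist m S G (d : ℤ) (k : ℤ)
    exact ⟨(exists_pullback_tensorMod q C₀ _).choose ≪≫ PicGrp.tensorModIso (eC ≪≫ eφ) f₁ ≪≫ u⟩

end Groth.FlatStrata
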