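import Groth.Agent.FlatStrata.Compose
import Groth.Agent.FlatStrata.Twist
import Mathlib.LinearAlgebra.TensorProduct.Quotient

/-!
# Base change of global sections of high twists along closed immersions of the base
-/

set_option autoImplicit false

universe u

open CategoryTheory Limits AlgebraicGeometry TopologicalSpace Opposite
open scoped TensorProduct
open Groth.CohBase hiding res res_res
open Groth.PicAux

namespace Groth.FlatStrata

section Algebra

variable {A B : Type u} [CommRing A] [CommRing B] [Algebra A B] {M : Type u} [AddCommGroup M]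
  [Module A M]

/-- A tensor with a cyclic algebra is an elementary tensor. -/
theorem exists_one_tmul (hs : Function.Surjective (algebraMap A B)) (z : B ⊗[A] M) :
    ∃ m : M, z = 1 ⊗ₜ m := by
  induction z using TensorProduct.induction_on with
  | zero => exact ⟨0, by simp⟩
  | tmul b m =>
    obtain ⟨a, rfl⟩ := hs b
    exact ⟨a • m, by rw [TensorProduct.tmul_smul, TensorProduct.smul_tmul', Algebra.smul_def,
      mul_one]⟩
  | add p q hp hq =>
    obtain ⟨m, rfl⟩ := hp
    obtain ⟨n, rfl⟩ := hq
    exact ⟨m + n, by rw [TensorProduct.tmul_add]⟩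

/-- For a quotient by one element, `1 ⊗ m = 0` means that `m` is a multiple of it. -/
theorem exists_eq_smul_of_one_tmul_eq_zero (hs : Function.Surjective (algebraMap A B)) {a : A}
    (hk : RingHom.ker (algebraMap A B) = Ideal.span {a}) {m : M}
    (h : (1 : B) ⊗ₜ[A] m = 0) : ∃ m' : M, a • m' = m := by
  let I := Ideal.span ({a} : Set A)
  let e : (A ⧸ I) ≃ₐ[A] B :=
    (Ideal.quotientEquivAlgOfEq A hk.symm).trans
      (Ideal.quotientKerAlgEquivOfSurjective (f := Algebra.ofId A B) hs)
  let θ : (A ⧸ I) ⊗[A] M ≃ₗ[A] B ⊗[A] M := LinearEquiv.rTensor M e.toLinearEquiv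
  have h1 : θ ((1 : A ⧸ I) ⊗ₜ[A] m) = 0 := by
    simp only [θ, LinearEquiv.rTensor_tmul, AlgEquiv.toLinearEquiv_apply, map_one]
    exact h
  rw [LinearEquiv.map_eq_zero_iff] at h1
  have h2 := congrArg (TensorProduct.quotTensorEquivQuotSMul M I) h1
  rw [map_zero, ← map_one (Ideal.Quotient.mk I), TensorProduct.quotTensorEquivQuotSMul_mk_tmul,
    one_smul, Submodule.Quotient.mk_eq_zero, Submodule.ideal_span_singleton_smul,
    Submodule.mem_smul_pointwise_iff_exists] at h2
  obtain ⟨m', -, hm'⟩ := h2
  exact ⟨m', hm'⟩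

end Algebra

variable {A B : Type u} [CommRing A] [CommRing B] [Algebra A B] {X X₁ : Scheme.{u}}
  [X.Over (Spec (CommRingCat.of A))] [X₁.Over (Spec (CommRingCat.of B))] {g : X₁ ⟶ X}
  (hsq : IsBC (A := A) (A' := B) g)

include hsq

lemma bcLin_affine_bijective (M : X.Modules) [M.IsQuasicoherent] {W : X.Opens}
    (hW : IsAffineOpen W) : Function.Bijective (bcLin hsq M W) :=
  (bcSec_bijective hsq M hW).comp (TensorProduct.comm A B (secA A M W)).bijective

/-- Sections killed by the inverse image are multiples of the equation, on affine opens. -/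
lemma exists_toSec_smul_of_pullSec_eq_zero (hs : Function.Surjective (algebraMap A B)) {a : A}
    (hk : RingHom.ker (algebraMap A B) = Ideal.span {a}) (M : X.Modules) [M.IsQuasicoherent]
    {W : X.Opens} (hW : IsAffineOpen W) (s : Γ(M, W)) (h : pullSec g M s = 0) :
    ∃ m : Γ(M, W), toSec A W a • m = s := by
  have h1 : bcLin hsq M W (1 ⊗ₜ (show secA A M W from s)) = 0 := (bcLin_one_tmul hsq M W s).trans h
  exact exists_eq_smul_of_one_tmul_eq_zero hs hk
    ((bcLin_affine_bijective hsq M hW).1 (h1.trans (map_zero _).symm))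

/-- Base change of global sections along a quotient by one element, under exactness of the
multiplication on global sections. -/
theorem bcBij_of_exact [CompactSpace X] [X.IsSeparated] (hs : Function.Surjective (algebraMap A B))
    {a : A} (hk : RingHom.ker (algebraMap A B) = Ideal.span {a}) (M Q : X.Modules)
    [M.IsQuasicoherent] [Q.IsQuasicoherent] (π : M ⟶ Q)
    (w : HilbStab.scalar (Coh.toGlobal (X ↘ Spec (CommRingCat.of A)) a) M ≫ π = 0)
    (hD : (ShortComplex.mk _ π w).Exact)
    (hex : Function.Exact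
      ((HilbStab.scalar (Coh.toGlobal (X ↘ Spec (CommRingCat.of A)) a) M).app ⊤) (π.app ⊤))
    (hsurj : Function.Surjective (π.app ⊤)) : BCBij hsq M := by
  obtain ⟨G⟩ := exists_goodCover X
  let c := Coh.toGlobal (X ↘ Spec (CommRingCat.of A)) a
  let φ := HilbStab.scalar c M
  have hφ : ∀ (W : X.Opens) (s : Γ(M, W)), φ.app W s = toSec A W a • s :=
    fun W s => HilbStab.scalar_app c M W s
  have hkill : ∀ (W : X.Opens) (s : Γ(M, W)), pullSec g M (toSec A W a • s) = 0 := fun W s => by
    have h0 : algebraMap A B a = 0 := by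
      rw [← RingHom.mem_ker, hk]; exact Ideal.mem_span_singleton_self a
    rw [pullSec_smul, app_toSec hsq, h0, map_zero, zero_smul]
  have hπ : ∀ (W : X.Opens) (s : Γ(M, W)), π.app W (toSec A W a • s) = 0 := fun W s => by
    rw [← hφ]
    exact congr(($w).app W s)
  have haff : ∀ i : G.ι, IsAffineOpen (G.U i) := fun i => by
    have h := G.affine (fun _ : Fin 1 => i)
    rwa [tupOpen, inter_one] at h
  have hker : ∀ (W : X.Opens), IsAffineOpen W → ∀ s : Γ(M, W), pullSec g M s = 0 →
      π.app W s = 0 := fun W hW s h => by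
    obtain ⟨m, rfl⟩ := exists_toSec_smul_of_pullSec_eq_zero hsq hs hk M hW s h
    exact hπ W m
  have hcov : ∀ x : X, ∃ i, x ∈ G.U i := fun x => Opens.mem_iSup.1 (G.hcov.ge (Opens.mem_top x))
  refine ⟨(injective_iff_map_eq_zero _).2 fun z hz => ?_, fun t => ?_⟩
  · obtain ⟨s, rfl⟩ := exists_one_tmul hs z
    have h0 : pullSec g M (show Γ(M, (⊤ : X.Opens)) from s) = 0 :=
      (bcLin_one_tmul hsq M ⊤ s).symm.trans hz
    have hπs : π.app ⊤ (show Γ(M, (⊤ : X.Opens)) from s) = 0 := by
      refine CohTwo.eq_of_local Q _ _ fun x _ => ?_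
      obtain ⟨i, hi⟩ := hcov x
      refine ⟨G.U i, le_top, hi, ?_⟩
      rw [← CohTwo.app_res, map_zero]
      refine hker _ (haff i) _ ?_
      refine (res_pullSec g M (le_top : G.U i ≤ ⊤) _).symm.trans ?_
      rw [h0]
      exact map_zero _
    obtain ⟨m, hm⟩ := (hex _).1 hπs
    rw [show s = a • (show secA A M ⊤ from m) from hm.symm.trans (hφ ⊤ m), TensorProduct.tmul_smul,
      TensorProduct.smul_tmul', Algebra.smul_def, show algebraMap A B a = 0 from by
        rw [← RingHom.mem_ker, hk]; exact Ideal.mem_span_singleton_self a, zero_mul,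
      TensorProduct.zero_tmul]
  · let t' : Γ((Scheme.Modules.pullback g).obj M, g ⁻¹ᵁ (⊤ : X.Opens)) := t
    have hl : ∀ i, ∃ s : Γ(M, G.U i),
        pullSec g M s = res _ (g.preimage_mono (le_top : G.U i ≤ ⊤)) t' := fun i => by
      obtain ⟨z, hz⟩ := (bcLin_affine_bijective hsq M (haff i)).2
        (res _ (g.preimage_mono (le_top : G.U i ≤ ⊤)) t')
      obtain ⟨s, rfl⟩ := exists_one_tmul hs z
      exact ⟨s, (bcLin_one_tmul hsq M (G.U i) s).symm.trans hz⟩
    choose si hsi using hl
    obtain ⟨q, hq⟩ := CohTwo.exists_glue Q (W := ⊤) G.U (fun i => le_top)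
      (fun x _ => hcov x) (fun i => π.app (G.U i) (si i)) fun i j => by
        rw [← CohTwo.app_res, ← CohTwo.app_res]
        refine sub_eq_zero.1 ?_
        rw [← map_sub]
        refine hker _ ((haff i).inf (haff j)) _ ?_
        refine (map_sub (((Scheme.Modules.pullbackPushforwardAdjunction g).unit.app M).app _).hom
          _ _).trans (sub_eq_zero.2 ?_)
        change pullSec g M (res M inf_le_left (si i)) = pullSec g M (res M inf_le_right (si j))
        rw [← res_pullSec, ← res_pullSec, hsi, hsi, res_res, res_res]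
    obtain ⟨s, hs'⟩ := hsurj q
    refine ⟨1 ⊗ₜ (show secA A M ⊤ from s), ?_⟩
    refine (bcLin_one_tmul hsq M ⊤ s).trans ?_
    change pullSec g M s = t'
    refine CohTwo.eq_of_local ((Scheme.Modules.pullback g).obj M) _ _ fun x _ => ?_
    obtain ⟨i, hi⟩ := hcov (g x)
    refine ⟨g ⁻¹ᵁ G.U i, g.preimage_mono le_top, hi, ?_⟩
    change res _ (g.preimage_mono (le_top : G.U i ≤ ⊤)) (pullSec g M s) =
      res _ (g.preimage_mono (le_top : G.U i ≤ ⊤)) t'
    rw [res_pullSec, ← hsi i]
    have h1 : π.app (G.U i) (res M le_top s - si i) = 0 := by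
      rw [map_sub, sub_eq_zero]
      refine (CohTwo.app_res π (le_top : G.U i ≤ ⊤) s).trans ?_
      rw [hs']
      exact hq i
    obtain ⟨m, hm⟩ := QCohMod.exists_app_eq_of_exact hD (haff i) _ h1
    refine sub_eq_zero.1 ((map_sub (((Scheme.Modules.pullbackPushforwardAdjunction g).unit.app M).app
      _).hom _ _).symm.trans ?_)
    change pullSec g M (res M le_top s - si i) = 0
    rw [← hm]
    exact (congrArg (pullSec g M) (hφ _ m)).trans (hkill _ m)

/-- Eventual base change along a quotient by one element. -/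
theorem exists_bcBij_tw_principal [IsNoetherianRing A] [IsProper (X ↘ Spec (CommRingCat.of A))]
    (hs : Function.Surjective (algebraMap A B)) {a : A}
    (hk : RingHom.ker (algebraMap A B) = Ideal.span {a}) {L : X.Modules} (hL : CohB1.IsAmple L)
    (F : X.Modules) (hF : Coh.IsCoh F) : ∃ N : ℕ, ∀ d : ℕ, N ≤ d → BCBij hsq (tw F L d) := by
  let f := X ↘ Spec (CommRingCat.of A)
  have := CohFin.compactSpace_of_proper f
  have := CohFin.isSeparated_of_proper f
  have := hF.1
  let c := Coh.toGlobal f a
  let φ := HilbStab.scalar c F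
  let π := cokernel.π φ
  obtain ⟨N₁, h₁⟩ := exists_subsingleton_kernel f hL φ hF
  obtain ⟨N₂, h₂⟩ := exists_subsingleton_kernel f hL π hF
  refine ⟨max N₁ N₂, fun d hd => ?_⟩
  let T := DCoh.tensorRightMod (CohB1.tensorPow L d)
  have := isEquivalence_tensorRightMod_of_isInvertible (isInvertible_tensorPow hL.1 d)
  have : (tw F L d).IsQuasicoherent := isQCoh_tw hL.1 d
  have : (T.obj (cokernel φ)).IsQuasicoherent := isQCoh_tw hL.1 d
  have hT : T.map φ = HilbStab.scalar c (tw F L d) := HilbStab.tensor_scalar c F _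
  have w : HilbStab.scalar c (tw F L d) ≫ T.map π = 0 := by
    rw [← hT]
    exact (T.map_comp φ π).symm.trans (by rw [cokernel.condition, T.map_zero]; rfl)
  have hepi : Epi (T.map π) := inferInstance
  have hD : (ShortComplex.mk _ (T.map π) w).Exact := by
    have h := exact_twist hL.1 d (ShortComplex.mk φ π (cokernel.condition φ))
      (ShortComplex.exact_cokernel φ)
    refine ShortComplex.exact_of_iso ?_ h
    exact ShortComplex.isoMk (Iso.refl _) (Iso.refl _) (Iso.refl _)
      ((Category.id_comp _).trans (hT.symm.trans (Category.comp_id _).symm))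
      ((Category.id_comp _).trans (Category.comp_id _).symm)
  refine bcBij_of_exact hsq hs hk (tw F L d) (T.obj (cokernel φ)) (T.map π) w hD ?_ ?_
  · exact PnCoh.exact_app_top_of_subsingleton f (ShortComplex.mk _ (T.map π) w) hD
      (by
        change Subsingleton (Coh.HH X (kernel (HilbStab.scalar c (tw F L d))) 1)
        rw [← hT]
        exact h₁ d ((le_max_left _ _).trans hd) 1 Nat.one_pos)
  · intro q
    refine (PnCoh.exact_app_top_of_subsingleton f
      (ShortComplex.mk (T.map π) (0 : T.obj (cokernel φ) ⟶ T.obj (cokernel φ)) comp_zero)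
      ((ShortComplex.exact_iff_epi _ rfl).2 hepi)
      (h₂ d ((le_max_right _ _).trans hd) 1 Nat.one_pos) q).1 ?_
    rfl

end Groth.FlatStrata

namespace Groth.FlatStrata

/-- Eventual base change of global sections of twists along a closed immersion of the base. -/
theorem exists_bcBij_tw_of_surjective {A B : Type u} [CommRing A] [IsNoetherianRing A] [CommRing B]
    [Algebra A B] {X X₁ : Scheme.{u}} [X.Over (Spec (CommRingCat.of A))]
    [X₁.Over (Spec (CommRingCat.of B))] [IsProper (X ↘ Spec (CommRingCat.of A))] {g : X₁ ⟶ X}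
    (hsq : IsBC (A := A) (A' := B) g) (hs : Function.Surjective (algebraMap A B))
    {L : X.Modules} (hL : CohB1.IsAmple L) (F : X.Modules) (hF : Coh.IsCoh F) :
    ∃ N : ℕ, ∀ d : ℕ, N ≤ d → BCBij hsq (tw F L d) := by
  classical
  obtain ⟨t, ht⟩ := IsNoetherian.noetherian (RingHom.ker (algebraMap A B))
  suffices h : ∀ (k : ℕ) (A : Type u) [CommRing A] [IsNoetherianRing A] [Algebra A B]
      (X : Scheme.{u}) [X.Over (Spec (CommRingCat.of A))] [IsProper (X ↘ Spec (CommRingCat.of A))]
      (g : X₁ ⟶ X) (hsq : IsBC (A := A) (A' := B) g) (t : Finset A),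
      t.card ≤ k → Function.Surjective (algebraMap A B) →
      Ideal.span (t : Set A) = RingHom.ker (algebraMap A B) →
      ∀ {L : X.Modules}, CohB1.IsAmple L → ∀ F : X.Modules, Coh.IsCoh F →
        ∃ N : ℕ, ∀ d : ℕ, N ≤ d → BCBij hsq (tw F L d) from
    h t.card A X g hsq t le_rfl hs ht hL F hF
  intro k
  induction k with
  | zero =>
    intro A _ _ _ X _ _ g hsq t ht hs hk L hL F hF
    obtain rfl := Finset.card_eq_zero.1 (Nat.le_zero.1 ht)
    rw [Finset.coe_empty, Ideal.span_empty, eq_comm, ← RingHom.injective_iff_ker_eq_bot] at hk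
    have : Module.Flat A B :=
      Module.Flat.of_linearEquiv (LinearEquiv.ofBijective (Algebra.linearMap A B) ⟨hk, hs⟩).symm
    have := CohFin.compactSpace_of_proper (X ↘ Spec (CommRingCat.of A))
    have := CohFin.isSeparated_of_proper (X ↘ Spec (CommRingCat.of A))
    have := hF.1
    exact ⟨0, fun d _ => haveI := isQCoh_tw (F := F) hL.1 d; bcBij_of_flat hsq _⟩
  | succ k ih =>
    intro A _ _ _ X _ _ g hsq t ht hs hk L hL F hF
    rcases Nat.lt_or_ge t.card (k + 1) with hlt | hge
    · exact ih A X g hsq t (by omega) hs hk hL F hF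
    obtain ⟨a, ha⟩ := Finset.card_pos.1 (show 0 < t.card by omega)
    let I : Ideal A := Ideal.span {a}
    let A₁ := A ⧸ I
    have hle : I ≤ RingHom.ker (algebraMap A B) := by
      rw [← hk]; exact Ideal.span_mono (by simpa using ha)
    let : Algebra A₁ B := (Ideal.Quotient.lift I (algebraMap A B) fun x hx => hle hx).toAlgebra
    have : IsScalarTower A A₁ B := .of_algebraMap_eq fun x => rfl
    let Y := Limits.pullback (X ↘ Spec (CommRingCat.of A))
      (Spec.map (CommRingCat.ofHom (algebraMap A A₁)))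
    let : Y.Over (Spec (CommRingCat.of A₁)) := ⟨pullback.snd _ _⟩
    let p : Y ⟶ X := pullback.fst _ _
    have h₁ : IsBC (A := A) (A' := A₁) p := IsPullback.of_hasPullback _ _
    have : IsProper (Y ↘ Spec (CommRingCat.of A₁)) :=
      MorphismProperty.of_isPullback h₁ inferInstance
    have hfac : Spec.map (CommRingCat.ofHom (algebraMap A₁ B)) ≫
        Spec.map (CommRingCat.ofHom (algebraMap A A₁)) =
          Spec.map (CommRingCat.ofHom (algebraMap A B)) := by
      rw [← Spec.map_comp, ← CommRingCat.ofHom_comp, ← IsScalarTower.algebraMap_eq]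
    have hw : g ≫ (X ↘ Spec (CommRingCat.of A)) =
        ((X₁ ↘ Spec (CommRingCat.of B)) ≫ Spec.map (CommRingCat.ofHom (algebraMap A₁ B))) ≫
          Spec.map (CommRingCat.ofHom (algebraMap A A₁)) := by
      rw [Category.assoc, hfac]; exact hsq.w
    let q : X₁ ⟶ Y := h₁.lift g _ hw
    have hqp : q ≫ p = g := h₁.lift_fst _ _ _
    have h₂ : IsBC (A := A₁) (A' := B) q := by
      refine IsPullback.of_right ?_ (h₁.lift_snd _ _ _) h₁
      rw [hqp, hfac]; exact hsq
    let L₁ := (Scheme.Modules.pullback p).obj L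
    let F₁ := (Scheme.Modules.pullback p).obj F
    have := isAffineHom_of_bc h₁
    obtain ⟨N₂, hN₂⟩ := ih A₁ Y q h₂ ((t.erase a).image (algebraMap A A₁))
      (Finset.card_image_le.trans (by rw [Finset.card_erase_of_mem ha]; omega))
      (fun b => by
        obtain ⟨x, rfl⟩ := hs b
        exact ⟨Ideal.Quotient.mk I x, rfl⟩)
      (by
        rw [Finset.coe_image, ← Ideal.map_span]
        ext y
        obtain ⟨x, rfl⟩ := Ideal.Quotient.mk_surjective y
        change _ ↔ algebraMap A B x = 0
        rw [← RingHom.mem_ker, ← hk]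
        change Ideal.Quotient.mk I x ∈ Ideal.map (Ideal.Quotient.mk I) _ ↔ _
        rw [Ideal.mem_quotient_iff_mem_sup]
        rw [show (t : Set A) = insert a (↑(t.erase a) : Set A) by
          rw [← Finset.coe_insert, Finset.insert_erase ha]]
        rw [Ideal.span_insert, sup_comm])
      (Chow.isAmple_pullback_of_isAffineHom p hL) F₁ (isCoh_pullback p hF)
    obtain ⟨N₁, hN₁⟩ := exists_bcBij_tw_principal h₁ Ideal.Quotient.mk_surjective
      (Ideal.mk_ker (I := I)) hL F hF
    refine ⟨max N₁ N₂, fun d hd => ?_⟩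
    refine BCBij.congr_hom hqp (isBC_comp h₁ h₂) hsq ?_
    obtain ⟨e⟩ := nonempty_pullback_tw p F L d
    exact (bcBij_comp_iff h₁ h₂ _ (hN₁ d ((le_max_left _ _).trans hd))).2
      ((hN₂ d ((le_max_right _ _).trans hd)).of_iso h₂ e.symm)

end Groth.FlatStrata
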