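import Groth.Agent.FlatStrata.Model
import Groth.Agent.FlatStrata.Hilbert
import Groth.Agent.CohTwo.FieldExtension
import Groth.Agent.CohBase.AffineBC
import Groth.Agent.CohC3.ProperSupport
import Groth.Agent.PnCoh.AmpleVanishing
import Groth.Agent.PnCoh.ProjectionFormula
import Groth.Agent.PropsBasic2.Misc
import Mathlib.AlgebraicGeometry.Morphisms.FinitePresentation

/-!
# Noetherian models for the cohomology of the fibres of high twists
-/

set_option autoImplicit false

universe u

open CategoryTheory Limits AlgebraicGeometry TopologicalSpace Opposite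
open Groth.CohBase hiding res res_res
open Groth.PicAux

namespace Groth.FlatStrata

/-- Betti numbers only depend on the module up to isomorphism. -/
theorem betti_congr {X S : Scheme.{u}} (f : X ⟶ S) {F G : X.Modules} (e : F ≅ G) (s : S) (p : ℕ) :
    PerfAux.betti f F s p = PerfAux.betti f G s p :=
  (haIsoEquiv (f.fiberToSpecResidueField s)
    ((Scheme.Modules.pullback (f.fiberι s)).mapIso e) p).finrank_eq

/-- Betti numbers over affine opens of the base. -/
theorem betti_restrict {X S : Scheme.{u}} (f : X ⟶ S) [IsProper f] (M : X.Modules)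
    [M.IsQuasicoherent] {V : S.Opens} (hV : IsAffineOpen V) (y : Spec (CommRingCat.of Γ(S, V)))
    (p : ℕ) :
    PerfAux.betti (preimageToSpec f (V := V)) (M.restrict (f ⁻¹ᵁ V).ι) y p =
      PerfAux.betti f M (hV.fromSpec y) p := by
  rw [← CohTwo.betti_baseChange (isPullback_preimageToSpec f hV) M y p]
  exact betti_congr _ ((Scheme.Modules.restrictFunctorIsoPullback (f ⁻¹ᵁ V).ι).app M) y p

/-- Betti numbers of direct images along closed immersions. -/
theorem betti_push_closed {X P S : Scheme.{u}} (i : X ⟶ P) [IsClosedImmersion i] (π : P ⟶ S)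
    {f : X ⟶ S} (e : i ≫ π = f) (E : X.Modules) [E.IsQuasicoherent] (y : S) (p : ℕ) :
    PerfAux.betti π ((Scheme.Modules.pushforward i).obj E) y p = PerfAux.betti f E y p := by
  subst e
  let j : (i ≫ π).fiber y ⟶ π.fiber y :=
    pullback.map (i ≫ π) (S.fromSpecResidueField y) π (S.fromSpecResidueField y) i (𝟙 _) (𝟙 _)
      (by simp) (by simp)
  have hj₁ : j ≫ π.fiberι y = (i ≫ π).fiberι y ≫ i := pullback.lift_fst _ _ _
  have hj₂ : j ≫ π.fiberToSpecResidueField y = (i ≫ π).fiberToSpecResidueField y :=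
    (pullback.lift_snd _ _ _).trans (Category.comp_id _)
  have sq : IsPullback ((i ≫ π).fiberι y) j i (π.fiberι y) := by
    have h₁ : IsPullback ((i ≫ π).fiberι y) ((i ≫ π).fiberToSpecResidueField y) (i ≫ π)
        (S.fromSpecResidueField y) := IsPullback.of_hasPullback _ _
    rw [← hj₂] at h₁
    exact IsPullback.of_bot h₁ hj₁.symm (IsPullback.of_hasPullback π (S.fromSpecResidueField y))
  have : IsClosedImmersion j := MorphismProperty.of_isPullback sq ‹IsClosedImmersion i›
  obtain ⟨θ⟩ := AffineBC.nonempty_affine_bc sq E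
  obtain ⟨l⟩ := CohC3.nonempty_linearEquiv_push_closed j (π.fiberToSpecResidueField y) p
    ((Scheme.Modules.pullback ((i ≫ π).fiberι y)).obj E)
  let π' : π.fiber y ⟶ Spec (CommRingCat.of (S.residueField y)) := π.fiberToSpecResidueField y
  have h1 : PerfAux.betti π ((Scheme.Modules.pushforward i).obj E) y p =
      Module.finrank (S.residueField y) (CohFin.HA (j ≫ π')
        ((Scheme.Modules.pullback ((i ≫ π).fiberι y)).obj E) p) :=
    ((haIsoEquiv (π.fiberToSpecResidueField y) θ p).trans l).finrank_eq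
  rw [show j ≫ π' = (i ≫ π).fiberToSpecResidueField y from hj₂] at h1
  exact h1

/-- The direct image of a finitely presented module along a closed immersion of finite presentation
is finitely presented. -/
theorem isFP_push_closed {X P : Scheme.{u}} (i : X ⟶ P) [IsClosedImmersion i]
    [LocallyOfFinitePresentation i] (E : X.Modules) [E.IsQuasicoherent] (hE : CohB1.IsFP E) :
    CohB1.IsFP ((Scheme.Modules.pushforward i).obj E) := by
  have := QCohMod.isQCoh_pushforward E i
  refine LocFree.isFP_of_affine_cover _ fun x => ?_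
  obtain ⟨U, hU, hxU, -⟩ := exists_isAffineOpen_mem_and_subset (x := x) (U := (⊤ : P.Opens)) trivial
  let U' := i ⁻¹ᵁ U
  have hU' : IsAffineOpen U' := hU.preimage i
  have := Groth.PropsBasic.FPSections.finitePresentation_sections E hE hU'
  let : Algebra Γ(P, U) Γ(X, U') := (i.app U).hom.toAlgebra
  let : Module Γ(P, U) Γ(E, U') := Module.compHom _ (i.app U).hom
  have : IsScalarTower Γ(P, U) Γ(X, U') Γ(E, U') := .of_algebraMap_smul fun _ _ => rfl
  have hs : Function.Surjective (algebraMap Γ(P, U) Γ(X, U')) := i.app_surjective U hU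
  have : Algebra.FinitePresentation Γ(P, U) Γ(X, U') := by
    have h := HasRingHomProperty.appLE (P := @LocallyOfFinitePresentation) i inferInstance
      ⟨U, hU⟩ ⟨U', hU'⟩ le_rfl
    rw [← Scheme.Hom.app_eq_appLE] at h
    exact h
  have : Module.Finite Γ(P, U) Γ(X, U') :=
    Module.Finite.of_surjective (Algebra.linearMap Γ(P, U) Γ(X, U')) hs
  have : Module.FinitePresentation Γ(P, U) Γ(X, U') :=
    Module.FinitePresentation.of_finite_of_finitePresentation _ _
  have h2 : Module.FinitePresentation Γ(P, U) Γ(E, U') :=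
    Module.FinitePresentation.trans Γ(P, U) Γ(E, U') Γ(X, U')
  exact ⟨U, hU, hxU, h2⟩

/-- The cohomology of the fibres of the twists `F ⊗ L ^ (N k + r)` comes from Noetherian rings. -/
theorem exists_fibre_models {A : Type u} [CommRing A] {X : Scheme.{u}}
    (f : X ⟶ Spec (CommRingCat.of A)) [IsProper f] [LocallyOfFinitePresentation f] {L : X.Modules}
    (hL : CohB1.IsAmple L) (F : X.Modules) [F.IsQuasicoherent] (hF : CohB1.IsFP F) :
    ∃ (m N : ℕ), 0 < N ∧ ∀ r : ℕ, ∃ (A₀ : Type u) (_ : CommRing A₀) (_ : IsNoetherianRing A₀)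
      (φ : A₀ →+* A) (G₀ : (CohB1.ProjSpaceOver m (Spec (CommRingCat.of A₀))).Modules),
      Coh.IsCoh G₀ ∧ ∀ (y : Spec (CommRingCat.of A)) (k p : ℕ),
        PerfAux.betti f (tw F L (r + N * k)) y p =
          PerfAux.betti (CohB1.ProjSpaceOver.toBase m (Spec (CommRingCat.of A₀)))
            (CohB1.tensorMod G₀ (Twist.twistOver m (Spec (CommRingCat.of A₀)) (k : ℤ)))
            (Spec.map (CommRingCat.ofHom φ) y) p := by
  obtain ⟨m, N, j, hN, hj, hjf, ⟨eL⟩⟩ := PnCoh.exists_closedImmersion_of_isAmple f hL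
  refine ⟨m, N, hN, fun r => ?_⟩
  let S := Spec (CommRingCat.of A)
  let P := CohB1.ProjSpaceOver m S
  let π := CohB1.ProjSpaceOver.toBase m S
  let i : X ⟶ P := j ≫ (PnCoh.overIso m A).hom
  have hif : i ≫ π = f := by
    change (j ≫ _) ≫ _ = f
    rw [Category.assoc, PnCoh.overIso_hom_toBase, hjf]
  have : IsClosedImmersion i := inferInstance
  have : IsProper π := Groth.Variety2.isProper_projSpaceOver_toBase m S
  have : LocallyOfFinitePresentation (i ≫ π) := hif ▸ ‹LocallyOfFinitePresentation f›
  have : LocallyOfFinitePresentation i := Groth.PropsBasic2.lfp_of_comp i π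
  have eL' : Nonempty (CohB1.tensorPow L N ≅
      (Scheme.Modules.pullback i).obj (Twist.twistOver m S 1)) := by
    obtain ⟨e'⟩ := PnCoh.nonempty_pullback_overIso_twist m A 1
    exact ⟨eL ≪≫ (Scheme.Modules.pullback j).mapIso e'.symm ≪≫
      (Scheme.Modules.pullbackComp j (PnCoh.overIso m A).hom).app _⟩
  let E := tw F L r
  have : E.IsQuasicoherent := isQCoh_tw hL.1 r
  have hE : CohB1.IsFP E := isFP_tensorMod_of_isInvertible hF (isInvertible_tensorPow hL.1 r)
  let G := (Scheme.Modules.pushforward i).obj E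
  have : G.IsQuasicoherent := QCohMod.isQCoh_pushforward E i
  obtain ⟨A₀, i₁, i₂, φ, G₀, -, hG₀, ⟨eG⟩⟩ := exists_model m G (isFP_push_closed i E hE)
  let S₀ := Spec (CommRingCat.of A₀)
  let σ : S ⟶ S₀ := Spec.map (CommRingCat.ofHom φ)
  refine ⟨A₀, i₁, i₂, φ, G₀, hG₀, fun y k p => ?_⟩
  have hT : PicF.IsInvertible (Twist.twistOver m S (k : ℤ)) :=
    KTheory.RegSheaf.isInvertible_twistOver m S _
  obtain ⟨eT⟩ := Agent.S2427.nonempty_tensorPow_twistOver m S k
  obtain ⟨eLk⟩ := eL'
  let ek : tw F L (r + N * k) ≅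
      CohB1.tensorMod E ((Scheme.Modules.pullback i).obj (Twist.twistOver m S (k : ℤ))) :=
    (Ega2Proj.nonempty_twist_iso F L r N k _ rfl).some.symm ≪≫
      PicGrp.tensorModIso (Iso.refl E) ((nonempty_tensorPow_iso eLk k).some ≪≫
        (pullback_tensorPow i _ k).some.symm ≪≫ (Scheme.Modules.pullback i).mapIso eT)
  have := isQCoh_of_isInvertible (isInvertible_pullback i hT)
  have : (CohB1.tensorMod E ((Scheme.Modules.pullback i).obj
      (Twist.twistOver m S (k : ℤ)))).IsQuasicoherent := QCohMod.isQCoh_tensorMod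
  obtain ⟨eP, -⟩ := PnCoh.exists_projectionFormula i E hT
  obtain ⟨eTw⟩ := nonempty_pullback_projMap_twist m σ (k : ℤ)
  have : IsProper (CohB1.ProjSpaceOver.toBase m S₀) :=
    Groth.Variety2.isProper_projSpaceOver_toBase m S₀
  have := hG₀.1
  have := isQCoh_of_isInvertible (KTheory.RegSheaf.isInvertible_twistOver m S₀ (k : ℤ))
  have : (CohB1.tensorMod G₀ (Twist.twistOver m S₀ (k : ℤ))).IsQuasicoherent :=
    QCohMod.isQCoh_tensorMod
  rw [betti_congr f ek, ← betti_push_closed i π hif, ← betti_congr π eP,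
    ← CohTwo.betti_baseChange (isPullback_projMap m σ) _ y p]
  exact betti_congr π (PicGrp.tensorModIso eG.symm eTw.symm ≪≫
    (exists_pullback_tensorMod (FGA.projMap m σ) G₀ _).choose.symm) y p

end Groth.FlatStrata
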