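import Groth.Agent.FlatStrata.ClosedImm
import Groth.Agent.FlatStrata.Vanish
import Groth.Agent.FlatMorOne.GenFlatModule
import Groth.Agent.FlatMorOne.GoodLocus
import Groth.Agent.FlatMorOne.FlatBaseChangeScheme
import Groth.Agent.FlatTwist.Relative
import Mathlib.RingTheory.Spectrum.Prime.FreeLocus

/-!
# Uniform behaviour of high twists on all fibres
-/

set_option autoImplicit false

universe u

open CategoryTheory Limits AlgebraicGeometry TopologicalSpace Opposite
open scoped TensorProduct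
open Groth.CohBase hiding res res_res
open Groth.PicAux

namespace Groth.FlatStrata

/-- A base change square factors through an intermediate one. -/
theorem exists_bc_factor {A B C : Type u} [CommRing A] [CommRing B] [CommRing C] [Algebra A B]
    [Algebra A C] [Algebra B C] [IsScalarTower A B C] {X X₁ X₂ : Scheme.{u}}
    [X.Over (Spec (CommRingCat.of A))] [X₁.Over (Spec (CommRingCat.of B))]
    [X₂.Over (Spec (CommRingCat.of C))] {p : X₁ ⟶ X} {g : X₂ ⟶ X}
    (h₁ : IsBC (A := A) (A' := B) p) (hsq : IsBC (A := A) (A' := C) g) :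
    ∃ q : X₂ ⟶ X₁, q ≫ p = g ∧ IsBC (A := B) (A' := C) q := by
  have hfac : Spec.map (CommRingCat.ofHom (algebraMap B C)) ≫
      Spec.map (CommRingCat.ofHom (algebraMap A B)) =
        Spec.map (CommRingCat.ofHom (algebraMap A C)) := by
    rw [← Spec.map_comp, ← CommRingCat.ofHom_comp, ← IsScalarTower.algebraMap_eq]
  have hw : g ≫ (X ↘ Spec (CommRingCat.of A)) =
      ((X₂ ↘ Spec (CommRingCat.of C)) ≫ Spec.map (CommRingCat.ofHom (algebraMap B C))) ≫
        Spec.map (CommRingCat.ofHom (algebraMap A B)) := by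
    rw [Category.assoc, hfac]; exact hsq.w
  refine ⟨h₁.lift g _ hw, h₁.lift_fst _ _ _, IsPullback.of_right ?_ (h₁.lift_snd _ _ _) h₁⟩
  rw [h₁.lift_fst, hfac]
  exact hsq

variable {A : Type u} [CommRing A] {X : Scheme.{u}} [X.Over (Spec (CommRingCat.of A))]

/-- Generic flatness over a prime. -/
theorem exists_flat_piece [IsNoetherianRing A] [IsProper (X ↘ Spec (CommRingCat.of A))]
    (F : X.Modules) (hF : Coh.IsCoh F) (p : Ideal A) [p.IsPrime] :
    ∃ a ∉ p, ∀ (Z : Scheme.{u}) (b : A ⧸ p) (_ : b = Ideal.Quotient.mk p a)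
      [Z.Over (Spec (CommRingCat.of (Localization.Away b)))] (g : Z ⟶ X)
      (_ : IsBC (A := A) (A' := Localization.Away b) g),
      FlatMod.IsFlatOver (Z ↘ Spec (CommRingCat.of (Localization.Away b)))
        ((Scheme.Modules.pullback g).obj F) := by
  let A₁ := A ⧸ p
  let Y := Limits.pullback (X ↘ Spec (CommRingCat.of A))
    (Spec.map (CommRingCat.ofHom (algebraMap A A₁)))
  let : Y.Over (Spec (CommRingCat.of A₁)) := ⟨pullback.snd _ _⟩
  let q : Y ⟶ X := pullback.fst _ _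
  have h₁ : IsBC (A := A) (A' := A₁) q := IsPullback.of_hasPullback _ _
  let u₁ := Y ↘ Spec (CommRingCat.of A₁)
  have : IsProper u₁ := MorphismProperty.of_isPullback h₁ inferInstance
  let F₁ := (Scheme.Modules.pullback q).obj F
  have hF₁ : Coh.IsCoh F₁ := isCoh_pullback q hF
  have := hF₁.1
  obtain ⟨U, hUne, hU⟩ := FlatMorOne.exists_open_isFlatOverAt u₁ F₁ fun W hW =>
    QCohMod.finite_sections F₁ hF₁.2 hW
  obtain ⟨y, hy⟩ := hUne
  obtain ⟨_, ⟨b, rfl⟩, hyb, hbU⟩ :=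
    PrimeSpectrum.isTopologicalBasis_basic_opens.exists_subset_of_mem_open hy U.2
  obtain ⟨a, rfl⟩ := Ideal.Quotient.mk_surjective b
  refine ⟨a, fun ha => ?_, fun Z b hb _ g hg z => ?_⟩
  · rw [Ideal.Quotient.eq_zero_iff_mem.2 ha] at hyb
    exact hyb (Submodule.zero_mem _)
  subst hb
  obtain ⟨r, hrq, h₂⟩ := exists_bc_factor h₁ hg
  let u₂ := Z ↘ Spec (CommRingCat.of (Localization.Away (Ideal.Quotient.mk p a)))
  have hmem : u₁ (r z) ∈ U := by
    refine hbU ?_
    rw [← Scheme.Hom.comp_apply, h₂.w, Scheme.Hom.comp_apply]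
    have h := PrimeSpectrum.localization_away_comap_range
      (Localization.Away (Ideal.Quotient.mk p a)) (Ideal.Quotient.mk p a)
    exact h.le ⟨u₂ z, rfl⟩
  have h := FlatMorOne.isFlatOverAt_baseChange h₂ F₁ z (hU (r z) hmem)
  subst hrq
  exact (FlatMorOne.isFlatOverAt_congr _ ((Scheme.Modules.pullbackComp r q).app F) z).1 h

variable (A) in
/-- All high twists behave well on the point `A → K`. -/
def GoodPt (F L : X.Modules) (N : ℕ) (H : Set (ℕ → ℕ)) (K : Type u) [Field K] [Algebra A K] :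
    Prop :=
  ∀ (Z : Scheme.{u}) [Z.Over (Spec (CommRingCat.of K))] (g : Z ⟶ X)
    (hsq : IsBC (A := A) (A' := K) g),
    (∀ d : ℕ, N ≤ d → BCBij hsq (tw F L d) ∧
      ∀ p : ℕ, 1 ≤ p → Subsingleton (Coh.HH Z ((Scheme.Modules.pullback g).obj (tw F L d)) p)) ∧
    ∃ h ∈ H, ∀ d : ℕ, N ≤ d → Module.finrank K (K ⊗[A] secA A (tw F L d) ⊤) = h d

lemma GoodPt.mono {F L : X.Modules} {N N' : ℕ} {H H' : Set (ℕ → ℕ)} {K : Type u} [Field K]
    [Algebra A K] (hN : N ≤ N') (hH : H ⊆ H') (h : GoodPt A F L N H K) : GoodPt A F L N' H' K := by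
  intro Z _ g hsq
  obtain ⟨h₁, f, hf, h₂⟩ := h Z g hsq
  exact ⟨fun d hd => h₁ d (hN.trans hd), f, hH hf, fun d hd => h₂ d (hN.trans hd)⟩

/-- Uniform behaviour of the high twists at all points. -/
theorem exists_uniform [IsNoetherianRing A] [IsProper (X ↘ Spec (CommRingCat.of A))]
    {L : X.Modules} (hL : CohB1.IsAmple L) (F : X.Modules) (hF : Coh.IsCoh F) :
    ∃ (N : ℕ) (H : Set (ℕ → ℕ)), H.Finite ∧
      ∀ (K : Type u) [Field K] [Algebra A K], GoodPt A F L N H K := by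
  suffices h : ∀ I : Ideal A, ∃ (N : ℕ) (H : Set (ℕ → ℕ)), H.Finite ∧
      ∀ (K : Type u) [Field K] [Algebra A K], I ≤ RingHom.ker (algebraMap A K) →
        GoodPt A F L N H K by
    obtain ⟨N, H, hH, h⟩ := h ⊥
    exact ⟨N, H, hH, fun K _ _ => h K bot_le⟩
  intro I
  induction I using WellFoundedGT.induction with
  | ind I ih =>
  by_cases htop : I = ⊤
  · refine ⟨0, ∅, Set.finite_empty, fun K _ _ hK => ?_⟩
    exact absurd (top_le_iff.1 (htop ▸ hK)) (RingHom.ker_ne_top _)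
  by_cases hp : I.IsPrime
  swap
  · obtain ⟨x, hx, y, hy, hxy⟩ : ∃ x, x ∉ I ∧ ∃ y, y ∉ I ∧ x * y ∈ I := by
      by_contra hne
      push Not at hne
      exact hp ⟨htop, fun {x y} hxy => or_iff_not_imp_left.2 fun hx => by_contra fun hy => hne x hx y hy hxy⟩
    have hlt : ∀ x, x ∉ I → I < I ⊔ Ideal.span {x} := fun x hx =>
      lt_of_le_of_ne le_sup_left fun h => hx (h.ge (Ideal.mem_sup_right (Ideal.mem_span_singleton_self x)))
    obtain ⟨N₁, H₁, hH₁, h₁⟩ := ih _ (hlt x hx)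
    obtain ⟨N₂, H₂, hH₂, h₂⟩ := ih _ (hlt y hy)
    refine ⟨max N₁ N₂, H₁ ∪ H₂, hH₁.union hH₂, fun K _ _ hK => ?_⟩
    rcases (RingHom.ker_isPrime (algebraMap A K)).mem_or_mem (hK hxy) with h | h
    · exact (h₁ K (sup_le hK ((Ideal.span_singleton_le_iff_mem _).2 h))).mono (le_max_left _ _)
        Set.subset_union_left
    · exact (h₂ K (sup_le hK ((Ideal.span_singleton_le_iff_mem _).2 h))).mono (le_max_right _ _)
        Set.subset_union_right
  obtain ⟨a, ha, hflat⟩ := exists_flat_piece F hF I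
  obtain ⟨N₁, H₁, hH₁, hgood⟩ := ih _ (show I < I ⊔ Ideal.span {a} from
    lt_of_le_of_ne le_sup_left fun h => ha (h.ge (Ideal.mem_sup_right (Ideal.mem_span_singleton_self a))))
  let A₁ := A ⧸ I
  let b : A₁ := Ideal.Quotient.mk I a
  let B := Localization.Away b
  have hb0 : b ≠ 0 := fun h => ha (Ideal.Quotient.eq_zero_iff_mem.1 h)
  have : IsDomain B := IsLocalization.isDomain_localization
    (powers_le_nonZeroDivisors_of_noZeroDivisors hb0)
  have : IsNoetherianRing B := IsLocalization.isNoetherianRing (Submonoid.powers b) B inferInstance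
  let Y := Limits.pullback (X ↘ Spec (CommRingCat.of A))
    (Spec.map (CommRingCat.ofHom (algebraMap A A₁)))
  let : Y.Over (Spec (CommRingCat.of A₁)) := ⟨pullback.snd _ _⟩
  let q : Y ⟶ X := pullback.fst _ _
  have h₁ : IsBC (A := A) (A' := A₁) q := IsPullback.of_hasPullback _ _
  have : IsProper (Y ↘ Spec (CommRingCat.of A₁)) :=
    MorphismProperty.of_isPullback h₁ inferInstance
  let Z := Limits.pullback (Y ↘ Spec (CommRingCat.of A₁))
    (Spec.map (CommRingCat.ofHom (algebraMap A₁ B)))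
  let : Z.Over (Spec (CommRingCat.of B)) := ⟨pullback.snd _ _⟩
  let r : Z ⟶ Y := pullback.fst _ _
  have h₂ : IsBC (A := A₁) (A' := B) r := IsPullback.of_hasPullback _ _
  have h₁₂ : IsBC (A := A) (A' := B) (r ≫ q) := isBC_comp h₁ h₂
  have : IsProper (Z ↘ Spec (CommRingCat.of B)) :=
    MorphismProperty.of_isPullback h₁₂ inferInstance
  let g₁ := r ≫ q
  let L₁ := (Scheme.Modules.pullback g₁).obj L
  let F₁ := (Scheme.Modules.pullback g₁).obj F
  have := isAffineHom_of_bc h₁₂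
  have hL₁ : CohB1.IsAmple L₁ := Chow.isAmple_pullback_of_isAffineHom g₁ hL
  have hF₁ : Coh.IsCoh F₁ := isCoh_pullback g₁ hF
  have := hF₁.1
  have hfl : FlatMod.IsFlatOver (Z ↘ Spec (CommRingCat.of B)) F₁ := hflat Z b rfl g₁ h₁₂
  obtain ⟨N₂, hvan⟩ := PnCoh.exists_subsingleton_of_isAmple (Z ↘ Spec (CommRingCat.of B)) hL₁ F₁ hF₁
  obtain ⟨N₃, hsurj⟩ := exists_bcBij_tw_of_surjective h₁ Ideal.Quotient.mk_surjective hL F hF
  let M : ℕ → Z.Modules := fun d => (Scheme.Modules.pullback g₁).obj (tw F L d)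
  have hMc : ∀ d, Coh.IsCoh (M d) := fun d => isCoh_pullback g₁ (isCoh_tw hF hL.1 d)
  have hMv : ∀ d, N₂ ≤ d → ∀ p : ℕ, 1 ≤ p → Subsingleton (Coh.HH Z (M d) p) := fun d hd p hp =>
    PnCoh.subsingleton_HH_of_iso (Z ↘ Spec (CommRingCat.of B))
      (nonempty_pullback_tw g₁ F L d).some.symm (hvan d hd p hp)
  have hMfl : ∀ d, FlatMod.IsFlatOver (Z ↘ Spec (CommRingCat.of B)) (M d) := fun d z =>
    (FlatMorOne.isFlatOverAt_congr _ (nonempty_pullback_tw g₁ F L d).some.symm z).1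
      (FlatTwist.isFlatOver_tensorMod (isInvertible_tensorPow hL₁.1 d) hfl z)
  have hb₁₂ : ∀ d, N₃ ≤ d → BCBij h₁₂ (tw F L d) := fun d hd => by
    have := CohFin.compactSpace_of_proper (Y ↘ Spec (CommRingCat.of A₁))
    have := CohFin.isSeparated_of_proper (Y ↘ Spec (CommRingCat.of A₁))
    have := (isCoh_pullback q (isCoh_tw hF hL.1 d)).1
    have := IsLocalization.flat B (Submonoid.powers b)
    exact (bcBij_comp_iff h₁ h₂ h₁₂ (hsurj d hd)).2 (bcBij_of_flat h₂ _)
  have := CohFin.compactSpace_of_proper (Z ↘ Spec (CommRingCat.of B))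
  have := CohFin.isSeparated_of_proper (Z ↘ Spec (CommRingCat.of B))
  let h₀ : ℕ → ℕ := fun d => Module.rankAtStalk (R := B) (secA B (M d) ⊤) ⟨⊥, Ideal.isPrime_bot⟩
  refine ⟨max N₁ (max N₂ N₃), H₁ ∪ {h₀}, hH₁.union (Set.finite_singleton _),
    fun K _ _ hK => ?_⟩
  by_cases hak : a ∈ RingHom.ker (algebraMap A K)
  · exact (hgood K (sup_le hK ((Ideal.span_singleton_le_iff_mem _).2 hak))).mono (le_max_left _ _)
      Set.subset_union_left
  let φ₁ : A₁ →+* K := Ideal.Quotient.lift I (algebraMap A K) fun x hx => hK hx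
  have hu : IsUnit (φ₁ b) := IsUnit.mk0 _ hak
  let : Algebra B K := (IsLocalization.Away.lift (S := B) b hu).toAlgebra
  have : IsScalarTower A B K := .of_algebraMap_eq fun x => by
    rw [IsScalarTower.algebraMap_apply A A₁ B x]
    exact (IsLocalization.Away.lift_eq b hu (Ideal.Quotient.mk I x)).symm
  intro W _ g hsq
  obtain ⟨t, rfl, h₃⟩ := exists_bc_factor h₁₂ hsq
  have hd : ∀ d, max N₁ (max N₂ N₃) ≤ d → N₂ ≤ d ∧ N₃ ≤ d := fun d hd => by omega
  have hbij : ∀ d, max N₁ (max N₂ N₃) ≤ d → BCBij h₃ (M d) := fun d hd' => by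
    have := (hMc d).1
    exact bcBij_of_vanish h₃ (M d) (hMfl d) (hMv d (hd d hd').1)
  refine ⟨fun d hd' => ⟨?_, fun p hp => ?_⟩, h₀, Or.inr rfl, fun d hd' => ?_⟩
  · exact (bcBij_comp_iff h₁₂ h₃ hsq (hb₁₂ d (hd d hd').2)).2 (hbij d hd')
  · have := (hMc d).1
    have h := subsingleton_HH_bc_of_vanish (M d) h₃ (hMfl d) (hMv d (hd d hd').1) p hp
    exact PnCoh.subsingleton_HH_of_iso (W ↘ Spec (CommRingCat.of K))
      ((Scheme.Modules.pullbackComp t g₁).app _) h
  · have := (hMc d).1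
    have := finite_secA_top (A := B) (M d) (hMc d)
    have := flat_secA_top_of_vanish (A := B) (M d) (hMfl d) (hMv d (hd d hd').1)
    let e : K ⊗[A] secA A (tw F L d) ⊤ ≃ₗ[K] K ⊗[B] secA B (M d) ⊤ :=
      (TensorProduct.AlgebraTensorModule.cancelBaseChange A B K K _).symm ≪≫ₗ
        (LinearEquiv.ofBijective _ (hb₁₂ d (hd d hd').2)).baseChange B K _ _
    rw [e.finrank_eq]
    let x : PrimeSpectrum K := ⟨⊥, Ideal.isPrime_bot⟩
    have hr := Module.rankAtStalk_baseChange (R := B) (S := K) (M := secA B (M d) ⊤) x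
    rw [Module.rankAtStalk_eq_finrank_of_free] at hr
    refine hr.trans ?_
    exact (Module.rankAtStalk_eq_of_le_of_finite_of_flat (secA B (M d) ⊤)
      (p := ⟨⊥, Ideal.isPrime_bot⟩) bot_le).symm

end Groth.FlatStrata
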