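import Mathlib.RingTheory.Spectrum.Prime.FreeLocus
import Mathlib.RingTheory.Support
import Mathlib.RingTheory.Flat.FaithfullyFlat.Basic
import Mathlib.LinearAlgebra.FiniteDimensional.Lemmas

/-!
# Upper semicontinuity of the dimensions of the fibres of a finite module
-/

set_option autoImplicit false

universe u

open TensorProduct

namespace Groth.FlatStrata

variable {A : Type u} [CommRing A] (M : Type u) [AddCommGroup M] [Module A M]

/-- The fibre dimension does not go up on a neighbourhood of a point. -/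
theorem exists_finrank_tensor_le [Module.Finite A M] (K₀ : Type u) [Field K₀] [Algebra A K₀] :
    ∃ g : A, algebraMap A K₀ g ≠ 0 ∧ ∀ (K : Type u) [Field K] [Algebra A K],
      algebraMap A K g ≠ 0 → Module.finrank K (K ⊗[A] M) ≤ Module.finrank K₀ (K₀ ⊗[A] M) := by
  classical
  obtain ⟨k, v, hv⟩ := Module.Finite.exists_fin (R := A) (M := M)
  let v₀ : Fin k → K₀ ⊗[A] M := fun i => 1 ⊗ₜ v i
  obtain ⟨κ, a, ha, hspan, hli⟩ := exists_linearIndependent' K₀ v₀
  have : Finite κ := Finite.of_injective a ha
  have := Fintype.ofFinite κ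
  have htop : Submodule.span K₀ (Set.range v₀) = ⊤ := by
    refine top_le_iff.1 ?_
    rw [← Submodule.baseChange_top (R := A) (M := M) K₀, ← hv, Submodule.baseChange_span,
      ← Set.range_comp]
    exact le_rfl
  have hr : Fintype.card κ = Module.finrank K₀ (K₀ ⊗[A] M) := by
    rw [← finrank_span_eq_card hli, hspan, htop, finrank_top]
  let N := Submodule.span A (Set.range (v ∘ a))
  have hN : ∀ (K : Type u) [Field K] [Algebra A K],
      Subsingleton (K ⊗[A] (M ⧸ N)) → Submodule.span K (Set.range fun i => (1 : K) ⊗ₜ[A] v (a i)) = ⊤ :=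
    fun K _ _ hK => by
    have hex := lTensor_exact K (LinearMap.exact_subtype_mkQ N) (Submodule.mkQ_surjective N)
    rw [eq_top_iff]
    intro x _
    obtain ⟨y, rfl⟩ := (hex x).1 (Subsingleton.elim _ _)
    induction y using TensorProduct.induction_on with
    | zero => simp
    | tmul c n =>
      obtain ⟨w, hw⟩ := (Submodule.mem_span_range_iff_exists_fun A).1 n.2
      rw [LinearMap.lTensor_tmul, Submodule.subtype_apply, ← hw, TensorProduct.tmul_sum]
      refine Submodule.sum_mem _ fun i _ => ?_
      rw [TensorProduct.tmul_smul, Function.comp_apply,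
        show c ⊗ₜ[A] v (a i) = c • ((1 : K) ⊗ₜ[A] v (a i)) by rw [TensorProduct.smul_tmul', smul_eq_mul, mul_one]]
      exact Submodule.smul_of_tower_mem _ _ (Submodule.smul_mem _ _ (Submodule.subset_span ⟨i, rfl⟩))
    | add y y' hy hy' => rw [map_add]; exact add_mem (hy trivial) (hy' trivial)
  have hC : Subsingleton (K₀ ⊗[A] (M ⧸ N)) := by
    refine subsingleton_of_forall_eq 0 fun z => ?_
    obtain ⟨x, rfl⟩ := LinearMap.lTensor_surjective K₀ (Submodule.mkQ_surjective N) z
    have hker : Submodule.span K₀ (Set.range (v₀ ∘ a)) ≤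
        LinearMap.ker (N.mkQ.baseChange K₀) := Submodule.span_le.2 (by
      rintro _ ⟨i, rfl⟩
      change (1 : K₀) ⊗ₜ[A] N.mkQ (v (a i)) = 0
      rw [Submodule.mkQ_apply, (Submodule.Quotient.mk_eq_zero N).2 (Submodule.subset_span (⟨i, rfl⟩ : v (a i) ∈ Set.range (v ∘ a))),
        TensorProduct.tmul_zero])
    rw [hspan, htop] at hker
    exact hker (Submodule.mem_top (x := x))
  obtain ⟨g, hg, hg0⟩ : ∃ g ∈ Module.annihilator A (M ⧸ N), algebraMap A K₀ g ≠ 0 := by
    by_contra hne
    push Not at hne
    let p : PrimeSpectrum A := ⟨RingHom.ker (algebraMap A K₀), RingHom.ker_isPrime _⟩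
    have hp : p ∈ Module.support A (M ⧸ N) :=
      Module.mem_support_iff_of_finite.2 fun g hg => hne g hg
    rw [Module.mem_support_iff_nontrivial_residueField_tensorProduct] at hp
    have : p.asIdeal.IsPrime := p.isPrime
    let φ : p.asIdeal.ResidueField →+* K₀ := Ideal.ResidueField.lift p.asIdeal (algebraMap A K₀) le_rfl
      fun x hx => IsUnit.mk0 _ hx
    let := φ.toAlgebra
    have : IsScalarTower A p.asIdeal.ResidueField K₀ := .of_algebraMap_eq fun x => by
      change _ = φ _
      exact (Ideal.ResidueField.lift_algebraMap (I := p.asIdeal) (algebraMap A K₀) _ _ x).symm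
    have h2 : Nontrivial (K₀ ⊗[p.asIdeal.ResidueField] (p.asIdeal.ResidueField ⊗[A] (M ⧸ N))) :=
      (Module.FaithfullyFlat.nontrivial_tensorProduct_iff_right p.asIdeal.ResidueField K₀).2 hp
    exact not_nontrivial_iff_subsingleton.2 ((TensorProduct.AlgebraTensorModule.cancelBaseChange
      A p.asIdeal.ResidueField K₀ K₀ (M ⧸ N)).toEquiv.subsingleton) h2
  refine ⟨g, hg0, fun K _ _ hgK => hr ▸ ?_⟩
  have hK : Subsingleton (K ⊗[A] (M ⧸ N)) := by
    refine subsingleton_of_forall_eq 0 fun z => ?_
    induction z using TensorProduct.induction_on with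
    | zero => rfl
    | tmul c n =>
      rw [show c = g • ((algebraMap A K g)⁻¹ * c) by rw [Algebra.smul_def, mul_inv_cancel_left₀ hgK],
        TensorProduct.smul_tmul, Module.mem_annihilator.1 hg n, TensorProduct.tmul_zero]
    | add y y' hy hy' => rw [hy, hy', add_zero]
  have h := (finrank_range_le_card (R := K) fun i => (1 : K) ⊗ₜ[A] v (a i))
  rwa [Set.finrank, hN K hK, finrank_top] at h

end Groth.FlatStrata
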