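import Groth.Agent.FlatStrata.Chart
import Groth.Agent.S0036
import Groth.Agent.S5692
import Groth.Agent.LocFree.Rank

/-!
# Ranks of the inverse images of the direct images of high twists
-/

set_option autoImplicit false

universe u

open CategoryTheory Limits AlgebraicGeometry TopologicalSpace Opposite
open scoped TensorProduct
open Groth.CohBase hiding res res_res
open Groth.PicAux

namespace Groth.FlatStrata

variable {X S : Scheme.{u}} (f : X ⟶ S)

/-- The direct image of the `d`-th twist. -/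
noncomputable abbrev pushTw (F L : X.Modules) (d : ℕ) : S.Modules := (Coh.push f).obj (tw F L d)

theorem isCoh_pushTw [IsProper f] [IsLocallyNoetherian S] {F L : X.Modules} (hF : Coh.IsCoh F)
    (hL : PicF.IsInvertible L) (d : ℕ) : Coh.IsCoh (pushTw f F L d) :=
  QCohMod.isCoh_of_iso ((Coh.push f).rightDerivedZeroIsoSelf.app (tw F L d))
    (Groth.Agent.S0036.result f (tw F L d) (isCoh_tw hF hL d) 0)

section General

variable {T : Scheme.{u}}

/-- Local freeness of a given rank from the sections over affine opens. -/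
theorem isFinLocFreeOfRank_of_sections (N : T.Modules) [N.IsQuasicoherent] (r : ℕ)
    (h : ∀ t : T, ∃ W : T.Opens, IsAffineOpen W ∧ t ∈ W ∧ Module.Finite Γ(T, W) Γ(N, W) ∧
      Module.Projective Γ(T, W) Γ(N, W) ∧ ∀ q : PrimeSpectrum Γ(T, W), Module.rankAtStalk (R := Γ(T, W)) Γ(N, W) q = r) :
    FlatMod.IsFinLocFreeOfRank r N := by
  have hfree : FlatMod.IsFinLocFree N := LocFree.isFinLocFree_of_affine_cover fun t => by
    obtain ⟨W, hW, ht, h₁, h₂, -⟩ := h t
    exact ⟨W, hW, ht, h₁, h₂⟩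
  refine LocFree.isFinLocFreeOfRank_iff_finrank.2 ⟨hfree, fun t => ?_⟩
  obtain ⟨W, hW, ht, -, -, h₃⟩ := h t
  rw [← LocFree.rankAtStalk_sections hfree hW ht]
  exact h₃ _

/-- The rank of a module on a nonempty scheme is unique. -/
theorem rank_unique {N : T.Modules} {r r' : ℕ} (h : FlatMod.IsFinLocFreeOfRank r N)
    (h' : FlatMod.IsFinLocFreeOfRank r' N) (t : T) : r = r' :=
  (LocFree.finrank_stalk h t).symm.trans (LocFree.finrank_stalk h' t)

/-- The rank of a locally free module is locally constant. -/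
theorem exists_open_rank_eq {N : T.Modules} (h : FlatMod.IsFinLocFree N) (t : T) :
    ∃ U : T.Opens, t ∈ U ∧ ∀ t' ∈ U, Module.finrank (T.presheaf.stalk t') (N.presheaf.stalk t') =
      Module.finrank (T.presheaf.stalk t) (N.presheaf.stalk t) := by
  have := KTheory.LocFree.isQCoh h
  obtain ⟨U, n, s, ht, hs⟩ := exists_basis_of_isFinLocFree h t
  exact ⟨U, ht, fun t' ht' => (LocFree.finrank_stalk_of_basis hs ht').trans
    (LocFree.finrank_stalk_of_basis hs ht).symm⟩

end General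

/-- The inverse images along `g` of the direct images of the twists have the ranks prescribed by
`h`. -/
def HasRank (F L : X.Modules) (N : ℕ) (h : ℕ → ℕ) {T : Scheme.{u}} (g : T ⟶ S) : Prop :=
  ∀ d : ℕ, FlatMod.IsFinLocFreeOfRank (h d) ((Scheme.Modules.pullback g).obj (pushTw f F L (N + d)))

variable {f}

theorem HasRank.comp {F L : X.Modules} {N : ℕ} {h : ℕ → ℕ} {T T' : Scheme.{u}} {g : T ⟶ S}
    (hg : HasRank f F L N h g) (q : T' ⟶ T) : HasRank f F L N h (q ≫ g) := fun d =>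
  LocFree.isFinLocFreeOfRank_of_iso ((Scheme.Modules.pullbackComp q g).app _)
    (LocFree.isFinLocFreeOfRank_pullback q (hg d))

theorem HasRank.unique {F L : X.Modules} {N : ℕ} {h h' : ℕ → ℕ} {T : Scheme.{u}} {g : T ⟶ S}
    (hg : HasRank f F L N h g) (hg' : HasRank f F L N h' g) (t : T) : h = h' :=
  funext fun d => rank_unique (hg d) (hg' d) t

variable (f)

/-- Uniform data for the high twists on an affine cover. -/
theorem exists_cover_uniform [IsProper f] [IsNoetherian S] {L : X.Modules}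
    (hL : RelAmple.IsRelAmple f L) (F : X.Modules) (hF : Coh.IsCoh F) :
    ∃ (N : ℕ) (H : Set (ℕ → ℕ)), H.Finite ∧ ∀ s : S, ∃ V : S.Opens, IsAffineOpen V ∧ s ∈ V ∧
      letI : ((f ⁻¹ᵁ V : X.Opens) : Scheme.{u}).Over (Spec (CommRingCat.of Γ(S, V))) :=
        ⟨preimageToSpec f⟩
      ∀ (K : Type u) [Field K] [Algebra Γ(S, V) K],
        GoodPt Γ(S, V) (F.restrict (f ⁻¹ᵁ V).ι) (L.restrict (f ⁻¹ᵁ V).ι) N H K := by
  classical
  have : IsLocallyNoetherian X := LocallyOfFiniteType.isLocallyNoetherian f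
  choose B hB hyB _ using fun y : S =>
    exists_isAffineOpen_mem_and_subset (x := y) (U := (⊤ : S.Opens)) trivial
  obtain ⟨t, ht⟩ := isCompact_univ.elim_finite_subcover (fun y => (B y : Set S))
    (fun y => (B y).2) (fun y _ => Set.mem_iUnion.2 ⟨y, hyB y⟩)
  have hu : ∀ y : S, ∃ (N : ℕ) (H : Set (ℕ → ℕ)), H.Finite ∧
      letI : ((f ⁻¹ᵁ B y : X.Opens) : Scheme.{u}).Over (Spec (CommRingCat.of Γ(S, B y))) :=
        ⟨preimageToSpec f⟩
      ∀ (K : Type u) [Field K] [Algebra Γ(S, B y) K],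
        GoodPt Γ(S, B y) (F.restrict (f ⁻¹ᵁ B y).ι) (L.restrict (f ⁻¹ᵁ B y).ι) N H K := by
    intro y
    letI : ((f ⁻¹ᵁ B y : X.Opens) : Scheme.{u}).Over (Spec (CommRingCat.of Γ(S, B y))) :=
      ⟨preimageToSpec f⟩
    have : IsNoetherianRing Γ(S, B y) := IsLocallyNoetherian.component_noetherian ⟨B y, hB y⟩
    have : IsProper (((f ⁻¹ᵁ B y : X.Opens) : Scheme.{u}) ↘ Spec (CommRingCat.of Γ(S, B y))) :=
      MorphismProperty.of_isPullback (isPullback_preimageToSpec f (hB y)) ‹IsProper f›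
    exact exists_uniform (hL.2 ⟨B y, hB y⟩) _ (CohFin.isCoh_restrict hF _)
  choose N H hH hgood using hu
  refine ⟨t.sup N, ⋃ y ∈ t, H y, t.finite_toSet.biUnion fun y _ => hH y, fun s => ?_⟩
  obtain ⟨y, hy, hsy⟩ := Set.mem_iUnion₂.1 (ht (Set.mem_univ s))
  refine ⟨B y, hB y, hsy, ?_⟩
  letI : ((f ⁻¹ᵁ B y : X.Opens) : Scheme.{u}).Over (Spec (CommRingCat.of Γ(S, B y))) :=
    ⟨preimageToSpec f⟩
  exact fun K _ _ => (hgood y K).mono (Finset.le_sup hy) (Set.subset_biUnion_of_mem (u := H) hy)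

variable {F L : X.Modules} {N : ℕ} {H : Set (ℕ → ℕ)}

/-- At every point some rank function in the finite family occurs. -/
theorem exists_hasRank_point [IsProper f] [IsLocallyNoetherian S] (hF : Coh.IsCoh F)
    (hL : PicF.IsInvertible L) (s : S) {V : S.Opens} (hV : IsAffineOpen V) (hs : s ∈ V)
    (hgood : letI : ((f ⁻¹ᵁ V : X.Opens) : Scheme.{u}).Over (Spec (CommRingCat.of Γ(S, V))) :=
        ⟨preimageToSpec f⟩
      ∀ (K : Type u) [Field K] [Algebra Γ(S, V) K],
        GoodPt Γ(S, V) (F.restrict (f ⁻¹ᵁ V).ι) (L.restrict (f ⁻¹ᵁ V).ι) N H K) :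
    ∃ h ∈ H, HasRank f F L N (fun d => h (N + d)) (S.fromSpecResidueField s) := by
  letI : ((f ⁻¹ᵁ V : X.Opens) : Scheme.{u}).Over (Spec (CommRingCat.of Γ(S, V))) :=
    ⟨preimageToSpec f⟩
  let T := Spec (S.residueField s)
  let ι := S.fromSpecResidueField s
  have e : (⊤ : T.Opens) ≤ ι ⁻¹ᵁ V := fun x _ => by
    change ι x ∈ V
    rw [Scheme.fromSpecResidueField_apply]
    exact hs
  have hK : IsField Γ(T, (⊤ : T.Opens)) :=
    MulEquiv.isField (Field.toIsField (S.residueField s))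
      (Scheme.ΓSpecIso (S.residueField s)).commRingCatIsoToRingEquiv.toMulEquiv
  let := hK.toField
  let : Algebra Γ(S, V) Γ(T, (⊤ : T.Opens)) := (ι.appLE V ⊤ e).hom.toAlgebra
  let Z := Limits.pullback (((f ⁻¹ᵁ V : X.Opens) : Scheme.{u}) ↘ Spec (CommRingCat.of Γ(S, V)))
    (Spec.map (CommRingCat.ofHom (algebraMap Γ(S, V) Γ(T, (⊤ : T.Opens)))))
  let : Z.Over (Spec (CommRingCat.of Γ(T, (⊤ : T.Opens)))) := ⟨pullback.snd _ _⟩
  obtain ⟨-, h, hh, hfin⟩ :=
    hgood Γ(T, (⊤ : T.Opens)) Z (pullback.fst _ _) (IsPullback.of_hasPullback _ _)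
  refine ⟨h, hh, fun d => ?_⟩
  have := (isCoh_pushTw f hF hL (N + d)).1
  have : ((Scheme.Modules.pullback ι).obj (pushTw f F L (N + d))).IsQuasicoherent :=
    QCohMod.isQCoh_pullback_obj _ _
  obtain ⟨E⟩ := nonempty_chart_sections f ι F L (N + d) hV (isAffineOpen_top T) e
  have hft := QCohMod.isFT_pullback ι (pushTw f F L (N + d)) (isCoh_pushTw f hF hL (N + d)).2
  have := QCohMod.finite_sections _ hft (isAffineOpen_top T)
  refine isFinLocFreeOfRank_of_sections _ _ fun t => ⟨⊤, isAffineOpen_top T, trivial, this,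
    inferInstance, fun q => ?_⟩
  rw [Module.rankAtStalk_eq_finrank_of_free]
  exact E.finrank_eq.symm.trans (hfin (N + d) (Nat.le_add_right N d))

/-- If the base change of `F` is flat, the inverse images of the direct images of high twists are
finite locally free. -/
theorem isFinLocFree_pullback_pushTw [IsProper f] [IsNoetherian S]
    (hL : RelAmple.IsRelAmple f L) (hF : Coh.IsCoh F)
    (hcov : ∀ s : S, ∃ V : S.Opens, IsAffineOpen V ∧ s ∈ V ∧
      letI : ((f ⁻¹ᵁ V : X.Opens) : Scheme.{u}).Over (Spec (CommRingCat.of Γ(S, V))) :=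
        ⟨preimageToSpec f⟩
      ∀ (K : Type u) [Field K] [Algebra Γ(S, V) K],
        GoodPt Γ(S, V) (F.restrict (f ⁻¹ᵁ V).ι) (L.restrict (f ⁻¹ᵁ V).ι) N H K)
    {T X' : Scheme.{u}} [IsLocallyNoetherian T] {g : T ⟶ S} {p : X' ⟶ T} {g' : X' ⟶ X}
    (sq : IsPullback g' p f g)
    (hfl : FlatMod.IsFlatOver p ((Scheme.Modules.pullback g').obj F)) (d : ℕ) :
    FlatMod.IsFinLocFree ((Scheme.Modules.pullback g).obj (pushTw f F L (N + d))) := by
  have hLi := Ega2Proj.isInvertible_of_isRelAmple hL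
  have : IsLocallyNoetherian X := LocallyOfFiniteType.isLocallyNoetherian f
  have := (isCoh_pushTw f hF hLi (N + d)).1
  have : ((Scheme.Modules.pullback g).obj (pushTw f F L (N + d))).IsQuasicoherent :=
    QCohMod.isQCoh_pullback_obj _ _
  have := hF.1
  have := QCohMod.isQCoh_pullback_obj g' F
  refine LocFree.isFinLocFree_of_affine_cover fun t => ?_
  obtain ⟨V, hV, htV, hgood⟩ := hcov (g t)
  obtain ⟨W, hW, htW, hWV⟩ := exists_isAffineOpen_mem_and_subset (x := t) (U := g ⁻¹ᵁ V) htV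
  letI : ((f ⁻¹ᵁ V : X.Opens) : Scheme.{u}).Over (Spec (CommRingCat.of Γ(S, V))) :=
    ⟨preimageToSpec f⟩
  letI : ((p ⁻¹ᵁ W : X'.Opens) : Scheme.{u}).Over (Spec (CommRingCat.of Γ(T, W))) :=
    ⟨preimageToSpec p⟩
  letI := (g.appLE V W hWV).hom.toAlgebra
  have : IsNoetherianRing Γ(S, V) := IsLocallyNoetherian.component_noetherian ⟨V, hV⟩
  have : IsNoetherianRing Γ(T, W) := IsLocallyNoetherian.component_noetherian ⟨W, hW⟩
  have : IsProper (((f ⁻¹ᵁ V : X.Opens) : Scheme.{u}) ↘ Spec (CommRingCat.of Γ(S, V))) :=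
    MorphismProperty.of_isPullback (isPullback_preimageToSpec f hV) ‹IsProper f›
  obtain ⟨r, hr, ⟨er⟩⟩ := exists_chart f sq F hV hW hWV
  have hfl' : FlatMod.IsFlatOver (preimageToSpec p (V := W))
      ((Scheme.Modules.pullback r).obj (F.restrict (f ⁻¹ᵁ V).ι)) := fun z =>
    (FlatMorOne.isFlatOverAt_congr _ er z).2
      ((isFlatOver_chart_iff p _ hW).2 (fun x _ => hfl x) z)
  obtain ⟨h₁, h₂⟩ := finite_flat_tensor_of_flat (hL.2 ⟨V, hV⟩) _ (CohFin.isCoh_restrict hF _)
    hgood hr hfl' (N + d) (Nat.le_add_right N d)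
  obtain ⟨E⟩ := nonempty_chart_sections f g F L (N + d) hV hW hWV
  have := Module.Finite.equiv E
  have := Module.Flat.of_linearEquiv E.symm
  have := Module.finitePresentation_of_finite Γ(T, W)
    Γ((Scheme.Modules.pullback g).obj (pushTw f F L (N + d)), W)
  exact ⟨W, hW, htW, inferInstance, Module.Flat.projective_of_finitePresentation⟩

/-- If the inverse images of the direct images of high twists are finite locally free on a closed
subscheme of an affine open, then `F` is flat there. -/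
theorem isFlatOverAt_of_hasRank [IsProper f] [IsNoetherian S]
    (hL : RelAmple.IsRelAmple f L) (hF : Coh.IsCoh F) {T X' : Scheme.{u}} {g : T ⟶ S}
    [IsImmersion g] {p : X' ⟶ T} {g' : X' ⟶ X} (sq : IsPullback g' p f g) {h : ℕ → ℕ}
    (hg : HasRank f F L N h g) : FlatMod.IsFlatOver p ((Scheme.Modules.pullback g').obj F) := by
  have hLi := Ega2Proj.isInvertible_of_isRelAmple hL
  have : IsLocallyNoetherian X := LocallyOfFiniteType.isLocallyNoetherian f
  have := hF.1
  have := QCohMod.isQCoh_pullback_obj g' F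
  intro x
  obtain ⟨V, hV, hxV, hVU⟩ := exists_isAffineOpen_mem_and_subset (x := g (p x))
    (U := g.coborderRange) (subset_coborder ⟨p x, rfl⟩)
  let W := g ⁻¹ᵁ V
  let c := g.liftCoborder
  let V₀ := g.coborderRange.ι ⁻¹ᵁ V
  have hV₀ : IsAffineOpen V₀ := hV.preimage_of_isOpenImmersion g.coborderRange.ι (by simpa using hVU)
  have hWeq : c ⁻¹ᵁ V₀ = W := by
    change (c ≫ g.coborderRange.ι) ⁻¹ᵁ V = W
    rw [g.liftCoborder_ι]
  have hW : IsAffineOpen W := hWeq ▸ hV₀.preimage c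
  have hsurj : Function.Surjective (g.app V) := by
    have h1 := c.app_surjective V₀ hV₀
    have e1 : g.app V = g.coborderRange.ι.app V ≫ c.app V₀ ≫
        T.presheaf.map (eqToHom hWeq.symm).op := by
      rw [Scheme.Hom.congr_app g.liftCoborder_ι.symm V, Scheme.Hom.comp_app]
      rfl
    rw [e1]
    have h2 : Function.Surjective (g.coborderRange.ι.app V) := by
      have : IsIso (g.coborderRange.ι.app V) :=
        Scheme.Hom.isIso_app _ V (by simpa using hVU)
      exact (ConcreteCategory.bijective_of_isIso _).2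
    exact ((ConcreteCategory.bijective_of_isIso (T.presheaf.map (eqToHom hWeq.symm).op)).2.comp
      h1).comp h2
  letI : ((f ⁻¹ᵁ V : X.Opens) : Scheme.{u}).Over (Spec (CommRingCat.of Γ(S, V))) :=
    ⟨preimageToSpec f⟩
  letI : ((p ⁻¹ᵁ W : X'.Opens) : Scheme.{u}).Over (Spec (CommRingCat.of Γ(T, W))) :=
    ⟨preimageToSpec p⟩
  letI := (g.appLE V W le_rfl).hom.toAlgebra
  have hs : Function.Surjective (algebraMap Γ(S, V) Γ(T, W)) := by
    change Function.Surjective (g.appLE V (g ⁻¹ᵁ V) le_rfl)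
    rw [← Scheme.Hom.app_eq_appLE]
    exact hsurj
  have : IsNoetherianRing Γ(S, V) := IsLocallyNoetherian.component_noetherian ⟨V, hV⟩
  have : IsProper (((f ⁻¹ᵁ V : X.Opens) : Scheme.{u}) ↘ Spec (CommRingCat.of Γ(S, V))) :=
    MorphismProperty.of_isPullback (isPullback_preimageToSpec f hV) ‹IsProper f›
  obtain ⟨r, hr, ⟨er⟩⟩ := exists_chart f sq F hV hW le_rfl
  have hflr := isFlatOver_of_flat_tensor (hL.2 ⟨V, hV⟩) _ (CohFin.isCoh_restrict hF _) hs hr
    ⟨N, fun d hd => by
      obtain ⟨k, rfl⟩ := Nat.exists_eq_add_of_le hd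
      have := (isCoh_pushTw f hF hLi (N + k)).1
      obtain ⟨E⟩ := nonempty_chart_sections f g F L (N + k) hV hW (le_refl W)
      have := LocFree.projective_sections (LocFree.isFinLocFree_of_rank (hg k)) hW
      exact Module.Flat.of_linearEquiv E⟩
  exact (isFlatOver_chart_iff p _ hW).1
    (fun z => (FlatMorOne.isFlatOverAt_congr _ er z).1 (hflr z)) x hxV

end Groth.FlatStrata
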