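import Groth.Agent.Ega2Proj.SpanOn
import Groth.Agent.QCohMod.QCQS
import Groth.Agent.QCohMod.Affine
import Mathlib.AlgebraicGeometry.Morphisms.Flat

/-!
# Spanning of direct images along affine morphisms by sections over preimages
-/

set_option autoImplicit false

universe u

open CategoryTheory Limits AlgebraicGeometry TopologicalSpace Opposite

namespace Groth.FlatStrata

/-- Sections spanning all stalks over an affine open span the sections over it. -/
theorem span_eq_top_of_germ {X : Scheme.{u}} (M : X.Modules) [M.IsQuasicoherent] {U : X.Opens}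
    (hU : IsAffineOpen U) (S : Set Γ(M, U))
    (h : ∀ (x : X) (hx : x ∈ U),
      Submodule.span (X.presheaf.stalk x) (QCohMod.germ M x hx '' S) = ⊤) :
    Submodule.span Γ(X, U) S = ⊤ := by
  refine (Submodule.eq_top_iff' ).2 fun y => ?_
  let I : Ideal Γ(X, U) :=
    Submodule.comap (LinearMap.toSpanSingleton Γ(X, U) Γ(M, U) y) (Submodule.span Γ(X, U) S)
  suffices hI : I = ⊤ by
    have h1 : (1 : Γ(X, U)) • y ∈ Submodule.span Γ(X, U) S :=
      (Ideal.eq_top_iff_one I).1 hI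
    rwa [one_smul] at h1
  rw [← Ideal.span_eq (I := I), ← hU.self_le_iSup_basicOpen_iff]
  intro x hx
  suffices hP : ∀ t : M.presheaf.stalk x, t ∈ Submodule.span (X.presheaf.stalk x)
      (QCohMod.germ M x hx '' S) → ∃ a : Γ(X, U), x ∈ X.basicOpen a ∧
        ∃ n ∈ Submodule.span Γ(X, U) S,
          X.presheaf.germ U x hx a • t = QCohMod.germ M x hx n by
    obtain ⟨a, ha, n, hn, e⟩ := hP _ ((h x hx).ge (Submodule.mem_top (x := QCohMod.germ M x hx y)))
    obtain ⟨b, hb, e'⟩ := QCohMod.exists_smul_eq_zero_of_germ_eq_zero M hU x hx (a • y - n)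
      (by rw [map_sub, QCohMod.germ_smul, e, sub_self])
    rw [smul_sub, sub_eq_zero, ← mul_smul] at e'
    refine Opens.mem_iSup.2 ⟨⟨b * a, ?_⟩, ?_⟩
    · change (b * a) • y ∈ Submodule.span Γ(X, U) S
      rw [e']; exact Submodule.smul_mem _ b hn
    · rw [Scheme.basicOpen_mul]; exact ⟨hb, ha⟩
  intro t ht
  induction ht using Submodule.span_induction with
  | mem t ht =>
    obtain ⟨m, hm, rfl⟩ := ht
    exact ⟨1, by rw [Scheme.basicOpen_of_isUnit _ isUnit_one]; exact hx, m,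
      Submodule.subset_span hm, by rw [map_one, one_smul]⟩
  | zero =>
    exact ⟨1, by rw [Scheme.basicOpen_of_isUnit _ isUnit_one]; exact hx, 0, zero_mem _,
      by rw [map_zero, smul_zero]⟩
  | add t t' _ _ ih ih' =>
    obtain ⟨a, ha, n, hn, e⟩ := ih
    obtain ⟨a', ha', n', hn', e'⟩ := ih'
    refine ⟨a * a', by rw [Scheme.basicOpen_mul]; exact ⟨ha, ha'⟩, a' • n + a • n',
      add_mem (Submodule.smul_mem _ _ hn) (Submodule.smul_mem _ _ hn'), ?_⟩
    rw [map_add, QCohMod.germ_smul, QCohMod.germ_smul, ← e, ← e', map_mul, smul_add]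
    simp only [← mul_smul]
    rw [mul_comm]
  | smul r t _ ih =>
    obtain ⟨a, ha, n, hn, e⟩ := ih
    let := TopCat.Presheaf.algebra_section_stalk X.presheaf (⟨x, hx⟩ : U)
    have := hU.isLocalization_stalk ⟨x, hx⟩
    obtain ⟨⟨c, d⟩, hcd⟩ := IsLocalization.surj (hU.primeIdealOf ⟨x, hx⟩).asIdeal.primeCompl r
    refine ⟨d.1 * a, ?_, c • n, Submodule.smul_mem _ _ hn, ?_⟩
    · rw [Scheme.basicOpen_mul]
      exact ⟨(QCohMod.mem_basicOpen_iff_notMem_primeIdealOf hU d.1 x hx).2 d.2, ha⟩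
    · have hcd' : r * X.presheaf.germ U x hx d.1 = X.presheaf.germ U x hx c := hcd
      rw [QCohMod.germ_smul, ← e, ← hcd', map_mul]
      simp only [← mul_smul]
      congr 1
      ring

variable {X Y X' Y' : Scheme.{u}} {f : X ⟶ Y} {g : Y' ⟶ Y} {g' : X' ⟶ X} {f' : X' ⟶ Y'}

/-- If the sections over the preimage of `f ⁻¹ V` span `E`, then those over `f ⁻¹ V` span the direct
image along the base change of the affine morphism `g`. -/
theorem spanOn_pushforward_eq_top [IsAffineHom g] [IsAffineHom g'] (hsq : IsPullback g' f' f g)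
    (E : X'.Modules) [E.IsQuasicoherent] {V : Y.Opens} (hV : IsAffineOpen V)
    (hE : Ega2Proj.SpansStalks (E.restrict (g' ⁻¹ᵁ (f ⁻¹ᵁ V)).ι)) (z : X) (hz : z ∈ f ⁻¹ᵁ V) :
    Ega2Proj.spanOn ((Scheme.Modules.pushforward g').obj E) (f ⁻¹ᵁ V) z hz = ⊤ := by
  let P := (Scheme.Modules.pushforward g').obj E
  have : P.IsQuasicoherent := QCohMod.isQCoh_pushforward E g'
  obtain ⟨U, hU, hzU, hUD⟩ := exists_isAffineOpen_mem_and_subset (x := z) hz
  have hUD' : U ≤ f ⁻¹ᵁ V := hUD
  let U' := g' ⁻¹ᵁ U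
  let D' := g' ⁻¹ᵁ (f ⁻¹ᵁ V)
  have hU' : IsAffineOpen U' := hU.preimage g'
  let W := g ⁻¹ᵁ V
  have hW : IsAffineOpen W := hV.preimage g
  have hD'W : D' = f' ⁻¹ᵁ W := by
    change (g' ≫ f) ⁻¹ᵁ V = (f' ≫ g) ⁻¹ᵁ V
    rw [hsq.w]
  have hle : U' ≤ D' := g'.preimage_mono hUD'
  -- the sections over `D'` span over `U'`
  have hS : Submodule.span Γ(X', U') (Set.range fun s : Γ(E, D') => QCohMod.res E hle s) = ⊤ := by
    refine span_eq_top_of_germ E hU' _ fun x hx => ?_
    rw [eq_top_iff, ← Ega2Proj.spanOn_eq_top_of_restrict E D' hE x (hle hx)]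
    refine Submodule.span_le.2 ?_
    rintro _ ⟨s, rfl⟩
    exact Submodule.subset_span ⟨_, ⟨s, rfl⟩, QCohMod.germ_res E hle x hx s⟩
  -- functions on `U'` are generated by functions on `U` and `W`
  have hUY : U' = g' ⁻¹ᵁ U ⊓ f' ⁻¹ᵁ W := (inf_eq_left.2 (hle.trans hD'W.le)).symm
  have hpo := (isIso_pushoutSection_iff hsq (le_refl W) hUD' hUY).1
    (isIso_pushoutSection_of_isAffineOpen hsq (le_refl W) hUD' hUY hV hW hU)
  -- hence the sections over `D` span over `U`
  let S₀ : Set Γ(P, U) := Set.range fun s : Γ(P, f ⁻¹ᵁ V) => QCohMod.res P hUD' s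
  suffices hP : Submodule.span Γ(X, U) S₀ = ⊤ by
    rw [eq_top_iff]
    refine le_trans (Ega2Proj.span_germ_of_affine hU hP hzU).ge (Submodule.span_le.2 ?_)
    rintro _ ⟨_, ⟨s, rfl⟩, rfl⟩
    exact (QCohMod.germ_res P hUD' z hzU s).symm ▸ Ega2Proj.germ_mem_spanOn P hz s
  let alg₁ := (g'.appLE U U' le_rfl).hom.toAlgebra
  let alg₂ := (f'.appLE W U' (hle.trans hD'W.le)).hom.toAlgebra
  let alg₃ := (f.appLE V U hUD').hom.toAlgebra
  let alg₄ := (g.appLE V W le_rfl).hom.toAlgebra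
  let alg₅ : Algebra Γ(Y, V) Γ(X', U') :=
    ((g'.appLE U U' le_rfl).hom.comp (f.appLE V U hUD').hom).toAlgebra
  have : IsScalarTower Γ(Y, V) Γ(X, U) Γ(X', U') := .of_algebraMap_eq' rfl
  have : IsScalarTower Γ(Y, V) Γ(Y', W) Γ(X', U') :=
    .of_algebraMap_eq fun a => congr($(hpo.w) a)
  have hpo' : Algebra.IsPushout Γ(Y, V) Γ(X, U) Γ(Y', W) Γ(X', U') :=
    CommRingCat.isPushout_iff_isPushout.mp hpo
  have hmem : ∀ (b : Γ(X', U')) (s : Γ(E, D')),
      (show Γ(P, U) from b • QCohMod.res E hle s) ∈ Submodule.span Γ(X, U) S₀ := by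
    intro b s
    induction b using hpo'.out.inductionOn with
    | zero => rw [zero_smul]; exact zero_mem _
    | tmul w =>
      refine Submodule.subset_span ⟨(show Γ(P, f ⁻¹ᵁ V) from
        (f'.appLE W D' hD'W.le w) • s), ?_⟩
      change QCohMod.res E hle ((f'.appLE W D' hD'W.le w) • s) = _
      rw [QCohMod.res_smul]
      congr 1
      exact congr($(Scheme.Hom.appLE_map f' hD'W.le (homOfLE hle).op) w)
    | smul a b hb =>
      have h := Submodule.smul_mem _ a hb
      rw [Algebra.smul_def, mul_smul]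
      convert h using 1
      change g'.appLE U U' le_rfl a • b • QCohMod.res E hle s =
        g'.app U a • b • QCohMod.res E hle s
      rw [Scheme.Hom.app_eq_appLE]
    | add a b ha hb => rw [add_smul]; exact add_mem ha hb
  rw [eq_top_iff]
  intro y _
  have hy : (show Γ(E, U') from y) ∈ Submodule.span Γ(X', U')
      (Set.range fun s : Γ(E, D') => QCohMod.res E hle s) := hS.ge trivial
  obtain ⟨c, hc⟩ := (Finsupp.mem_span_range_iff_exists_finsupp).1 hy
  rw [show y = (show Γ(P, U) from c.sum fun s a => a • QCohMod.res E hle s) from hc.symm]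
  exact Submodule.sum_mem _ fun s _ => hmem _ _

end Groth.FlatStrata
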