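import Groth.Agent.CohBase.FlatCohBaseChange

/-!
# The canonical base change map on global sections
-/

set_option autoImplicit false

universe u

open CategoryTheory Limits AlgebraicGeometry TopologicalSpace Opposite
open scoped TensorProduct
open Groth.CohBase Groth.PicAux

namespace Groth.FlatStrata

section Algebra

variable {A : Type u} [CommRing A] {K C D : Type u} [AddCommGroup K] [Module A K]
  [AddCommGroup C] [Module A C] [AddCommGroup D] [Module A D] {i : K →ₗ[A] C} {d : C →ₗ[A] D}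

/-- A left exact sequence with flat cokernel and flat last term stays left exact after tensoring. -/
theorem exact_rTensor_of_flat_coker [Module.Flat A D] [Module.Flat A (D ⧸ LinearMap.range d)]
    (hi : Function.Injective i) (he : Function.Exact i d) (M : Type u) [AddCommGroup M]
    [Module A M] :
    Function.Injective (i.rTensor M) ∧ Function.Exact (i.rTensor M) (d.rTensor M) := by
  have := Groth.FlatCxBase.flat_range_of_flat_quot d
  let r := d.rangeRestrict
  let ι := (LinearMap.range d).subtype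
  have hex : Function.Exact i r := by
    rw [LinearMap.exact_iff, LinearMap.ker_rangeRestrict]
    exact LinearMap.exact_iff.1 he
  refine ⟨Groth.FlatCxBase.rTensor_injective_of_flat hi d.surjective_rangeRestrict hex M,
    fun x => ?_⟩
  have hι : Function.Injective (ι.rTensor M) :=
    Groth.FlatCxBase.rTensor_injective_of_flat (g := (LinearMap.range d).mkQ) Subtype.val_injective
      (Submodule.mkQ_surjective _) (LinearMap.exact_subtype_mkQ _) M
  rw [← (rTensor_exact M hex d.surjective_rangeRestrict x)]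
  rw [show d.rTensor M = (ι.rTensor M).comp (r.rTensor M) by
    rw [← LinearMap.rTensor_comp]; rfl, LinearMap.comp_apply]
  exact ⟨fun h => hι (h.trans (map_zero _).symm), fun h => by rw [h, map_zero]⟩

end Algebra

section Aug

variable (A : Type u) [CommRing A] {X : Scheme.{u}} [X.Over (Spec (CommRingCat.of A))]
  {ι : Type u} (U : ι → X.Opens) (F : X.Modules)

/-- The augmentation of the Čech complex over the base ring. -/
noncomputable def aug : secA A F ⊤ →ₗ[A] cxC A U F 0 :=
  LinearMap.pi fun x => secRes A F (le_top : tupOpen U x ≤ ⊤)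

variable {A U F} {M : Type u} [AddCommGroup M] [Module A M] {X' : Scheme.{u}} {g : X' ⟶ X}
  {G : X'.Modules} (Ψ : SecModel A U F M g G)

lemma toTop_aug (z : secA A F ⊤ ⊗[A] M) :
    Ψ.toTop 0 ((aug A U F).rTensor M z) =
      (show CsSec (fun i => g ⁻¹ᵁ U i) G 0 ⊤ from
        (csι (fun i => g ⁻¹ᵁ U i) G).app ⊤ (Ψ.Φ ⊤ z)) := by
  funext x
  refine Eq.trans ?_ (csι_app (fun i => g ⁻¹ᵁ U i) G ⊤ (Ψ.Φ ⊤ z) x).symm
  rw [SecModel.toTop_apply, ← LinearMap.rTensor_comp_apply, aug, LinearMap.proj_pi, ← Ψ.nat,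
    QCohMod.res_res]
  rfl

variable [Finite ι] (hcov : ⨆ i, U i = ⊤)

include hcov in
/-- The comparison of global sections is injective if the tensored augmentation is. -/
theorem exact_of_Φ_bijective (h : Function.Bijective (Ψ.Φ ⊤)) :
    Function.Injective ((aug A U F).rTensor M) ∧
      Function.Exact ((aug A U F).rTensor M) ((cxD A U F 0).rTensor M) := by
  let R := cechRes (fun i => g ⁻¹ᵁ U i) G (preimage_iSup_eq_top g hcov)
  refine ⟨fun z w e => h.1 (R.ι_app_injective ⊤ ?_), fun w => ⟨fun hw => ?_, ?_⟩⟩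
  · exact ((toTop_aug Ψ z).symm.trans (congrArg (Ψ.toTop 0) e)).trans (toTop_aug Ψ w)
  · have hc : (show Γ(R.A 0, (⊤ : X'.Opens)) from Ψ.toTop 0 w) ∈ R.Cyc ⊤ 0 := by
      change csd (fun i => g ⁻¹ᵁ U i) G 0 ⊤ (Ψ.toTop 0 w) = 0
      rw [← SecModel.toTop_d, hw, map_zero]
    obtain ⟨m, hm⟩ := R.mem_cyc_zero_iff.1 hc
    obtain ⟨z, hz⟩ := h.2 m
    refine ⟨z, (Ψ.toTop_bijective 0).1 ((toTop_aug Ψ z).trans ?_)⟩
    rw [hz]
    exact hm
  · rintro ⟨z, rfl⟩
    apply (Ψ.toTop_bijective 1).1
    rw [SecModel.toTop_d, toTop_aug, map_zero]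
    exact congr(($(csι_csD (fun i => g ⁻¹ᵁ U i) G)).app ⊤ (Ψ.Φ ⊤ z))

include hcov in
/-- The comparison of global sections is bijective if the tensored sequence is left exact. -/
theorem Φ_bijective_of_exact (hinj : Function.Injective ((aug A U F).rTensor M))
    (hex : Function.Exact ((aug A U F).rTensor M) ((cxD A U F 0).rTensor M)) :
    Function.Bijective (Ψ.Φ ⊤) := by
  let R := cechRes (fun i => g ⁻¹ᵁ U i) G (preimage_iSup_eq_top g hcov)
  refine ⟨fun z w e => hinj ((Ψ.toTop_bijective 0).1 ?_), fun m => ?_⟩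
  · rw [toTop_aug, toTop_aug, e]
  · obtain ⟨w, hw⟩ := (Ψ.toTop_bijective 0).2 ((csι (fun i => g ⁻¹ᵁ U i) G).app ⊤
      (show Γ(G, (⊤ : X'.Opens)) from m))
    obtain ⟨z, rfl⟩ := (hex w).1 ((Ψ.toTop_bijective 1).1 (by
      rw [SecModel.toTop_d, hw, map_zero]
      exact congr(($(csι_csD (fun i => g ⁻¹ᵁ U i) G)).app ⊤ (show Γ(G, (⊤ : X'.Opens)) from m))))
    exact ⟨z, R.ι_app_injective ⊤ ((toTop_aug Ψ z).symm.trans hw)⟩

end Aug

variable {A A' : Type u} [CommRing A] [CommRing A'] [Algebra A A'] {X X' : Scheme.{u}}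
  [X.Over (Spec (CommRingCat.of A))] [X'.Over (Spec (CommRingCat.of A'))] {g : X' ⟶ X}
  (hsq : IsBC (A := A) (A' := A') g) (F : X.Modules)

lemma aug_exact (G : GoodCover X) :
    Function.Injective (aug A G.U F) ∧ Function.Exact (aug A G.U F) (cxD A G.U F 0) := by
  have h := exact_of_Φ_bijective (selfModel A G.U F) G.hcov
    (TensorProduct.rid A (secA A F ⊤)).bijective
  have e : ∀ {P Q : Type u} [AddCommGroup P] [Module A P] [AddCommGroup Q] [Module A Q]
      (φ : P →ₗ[A] Q) (z : P ⊗[A] A),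
      TensorProduct.rid A Q (φ.rTensor A z) = φ (TensorProduct.rid A P z) := fun φ z => by
    induction z using TensorProduct.induction_on with
    | zero => simp
    | tmul s a => simp
    | add p q hp hq => simp [hp, hq]
  refine ⟨fun s t hst => ?_, fun w => ?_⟩
  · refine (TensorProduct.rid A _).symm.injective (h.1 ((TensorProduct.rid A _).injective ?_))
    rw [e, e, LinearEquiv.apply_symm_apply, LinearEquiv.apply_symm_apply, hst]
  · constructor
    · intro hw
      obtain ⟨z, hz⟩ := (h.2 ((TensorProduct.rid A _).symm w)).1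
        ((TensorProduct.rid A _).injective (by
          rw [e, LinearEquiv.apply_symm_apply, hw, map_zero]))
      exact ⟨TensorProduct.rid A _ z, by rw [← e, hz, LinearEquiv.apply_symm_apply]⟩
    · rintro ⟨s, rfl⟩
      have h2 := (h.2 ((aug A G.U F).rTensor A ((TensorProduct.rid A _).symm s))).2 ⟨_, rfl⟩
      have h3 := congrArg (TensorProduct.rid A (cxC A G.U F 1)) h2
      rw [e, e, LinearEquiv.apply_symm_apply, map_zero] at h3
      exact h3

/-- The canonical map `A' ⊗ Γ(W, F) → Γ(g⁻¹W, g^* F)`. -/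
noncomputable def bcLin (W : X.Opens) :
    A' ⊗[A] secA A F W →ₗ[A'] secA A' ((Scheme.Modules.pullback g).obj F) (g ⁻¹ᵁ W) where
  toFun z := bcSec hsq F W (TensorProduct.comm A A' (secA A F W) z)
  map_add' z w := by rw [map_add, map_add]; rfl
  map_smul' b z := by
    change bcSec hsq F W _ = toSec A' (g ⁻¹ᵁ W) b •
      (show Γ((Scheme.Modules.pullback g).obj F, g ⁻¹ᵁ W) from bcSec hsq F W _)
    refine Eq.trans (congrArg (bcSec hsq F W) ?_) (bcSec_smul hsq F W b _)
    induction z using TensorProduct.induction_on with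
    | zero => simp
    | tmul c s => rfl
    | add p q hp hq => rw [smul_add, map_add, map_add, map_add, hp, hq]

lemma bcLin_tmul (W : X.Opens) (b : A') (s : secA A F W) :
    bcLin hsq F W (b ⊗ₜ s) = (show secA A' ((Scheme.Modules.pullback g).obj F) (g ⁻¹ᵁ W) from
      toSec A' (g ⁻¹ᵁ W) b • pullSec g F (show Γ(F, W) from s)) := rfl

lemma bcLin_one_tmul (W : X.Opens) (s : secA A F W) :
    (show Γ((Scheme.Modules.pullback g).obj F, g ⁻¹ᵁ W) from bcLin hsq F W (1 ⊗ₜ s)) =
      pullSec g F (show Γ(F, W) from s) := by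
  rw [bcLin_tmul, map_one]
  exact one_smul _ _

/-- The base change map is bijective on global sections. -/
def BCBij : Prop := Function.Bijective (bcLin hsq F ⊤)

lemma bcBij_iff : BCBij hsq F ↔ Function.Bijective (bcSec hsq F ⊤) :=
  Function.Bijective.of_comp_iff _ (TensorProduct.comm A A' (secA A F ⊤)).bijective

/-- Base change of global sections along a flat map. -/
theorem bcBij_of_flat [F.IsQuasicoherent] [CompactSpace X] [X.IsSeparated] [Module.Flat A A'] :
    BCBij hsq F := by
  obtain ⟨G⟩ := exists_goodCover X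
  obtain ⟨h₁, h₂⟩ := aug_exact (A := A) F G
  rw [bcBij_iff]
  exact Φ_bijective_of_exact (bcModel hsq F G) G.hcov
    (Module.Flat.rTensor_preserves_injective_linearMap _ h₁) (Module.Flat.rTensor_exact A' h₂)

/-- Base change of global sections of a flat module without higher cohomology. -/
theorem bcBij_of_vanish [F.IsQuasicoherent] [CompactSpace X] [X.IsSeparated]
    (hfl : FlatMod.IsFlatOver (X ↘ Spec (CommRingCat.of A)) F)
    (hH : ∀ p : ℕ, 1 ≤ p → Subsingleton (Coh.HH X F p)) : BCBij hsq F := by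
  obtain ⟨G⟩ := exists_goodCover X
  let L := cxA A G.U F
  have : ∀ i, Module.Flat A (L.X i) := flat_cxA A G.U F fun x => flat_secA A F hfl (G.affine x)
  obtain ⟨b, hb⟩ := exists_isZero_T A G F
  have hQ := CxRank.flat_Qc_of_flat_Hk' L b hb 1 fun i hi => by
    obtain ⟨p, rfl⟩ : ∃ p : ℕ, i = p := ⟨i.toNat, by omega⟩
    have := hH p (by omega)
    have : Subsingleton (CxRank.Hk L (p : ℤ)) :=
      ((CxRank.tOneEquiv L (p : ℤ)).symm.trans (selfLinIso A G F p)).toEquiv.subsingleton
    infer_instance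
  have hQ1 : Module.Flat A (CxRank.Qc L (((0 : ℕ) : ℤ) + 1)) := hQ _ (by simp)
  have hr : LinearMap.range (CxRank.dq L ((0 : ℕ) : ℤ)) = LinearMap.range (cxD A G.U F 0) := by
    rw [CxRank.range_dq, cxA_d]
    rfl
  have : Module.Flat A (cxC A G.U F 1) := this 1
  have : Module.Flat A (cxC A G.U F 1 ⧸ LinearMap.range (cxD A G.U F 0)) :=
    Module.Flat.of_linearEquiv ((Submodule.quotEquivOfEq _ _ hr.symm).trans
      (CxRank.cokerDqEquiv L ((0 : ℕ) : ℤ)))
  obtain ⟨h₁, h₂⟩ := aug_exact (A := A) F G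
  obtain ⟨k₁, k₂⟩ := exact_rTensor_of_flat_coker h₁ h₂ A'
  rw [bcBij_iff]
  exact Φ_bijective_of_exact (bcModel hsq F G) G.hcov k₁ k₂

variable {F}

/-- The base change map is natural. -/
lemma bcLin_map {F₁ : X.Modules} (φ : F ⟶ F₁) (W : X.Opens) (b : A') (s : secA A F W) :
    ((Scheme.Modules.pullback g).map φ).app (g ⁻¹ᵁ W)
        (show Γ((Scheme.Modules.pullback g).obj F, g ⁻¹ᵁ W) from bcLin hsq F W (b ⊗ₜ s)) =
      toSec A' (g ⁻¹ᵁ W) b • pullSec g F₁ (φ.app W (show Γ(F, W) from s)) := by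
  rw [bcLin_tmul]
  refine (Scheme.Modules.Hom.app_smul _ _ _).trans ?_
  rw [pullSec_map]

/-- Bijectivity of the base change map only depends on the module up to isomorphism. -/
theorem BCBij.of_iso {F₁ : X.Modules} (e : F ≅ F₁) (h : BCBij hsq F) : BCBij hsq F₁ := by
  let U := g ⁻¹ᵁ (⊤ : X.Opens)
  let G := (Scheme.Modules.pullback g).mapIso e
  let t : secA A F ⊤ → secA A F₁ ⊤ := fun s => e.hom.app ⊤ (show Γ(F, (⊤ : X.Opens)) from s)
  let t' : secA A F₁ ⊤ → secA A F ⊤ := fun s => e.inv.app ⊤ (show Γ(F₁, (⊤ : X.Opens)) from s)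
  let tl : secA A F₁ ⊤ →ₗ[A] secA A F ⊤ :=
    { toFun := t'
      map_add' := fun a b => map_add (e.inv.app ⊤).hom _ _
      map_smul' := fun a s => Scheme.Modules.Hom.app_smul e.inv _ _ }
  let te : secA A F₁ ⊤ ≃ₗ[A] secA A F ⊤ :=
    { tl with
      invFun := t
      left_inv := fun s => congr(($(e.inv_hom_id)).app ⊤ (show Γ(F₁, (⊤ : X.Opens)) from s))
      right_inv := fun s => congr(($(e.hom_inv_id)).app ⊤ (show Γ(F, (⊤ : X.Opens)) from s)) }
  have key : ∀ z, bcLin hsq F₁ ⊤ z = G.hom.app U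
      (show Γ((Scheme.Modules.pullback g).obj F, U) from
        bcLin hsq F ⊤ (te.toLinearMap.lTensor A' z)) := by
    intro z
    induction z using TensorProduct.induction_on with
    | zero => simp only [map_zero]; exact (map_zero (G.hom.app U).hom).symm
    | tmul b s =>
      rw [LinearMap.lTensor_tmul]
      refine Eq.trans ?_ (bcLin_map hsq e.hom ⊤ b (te s)).symm
      rw [bcLin_tmul]
      exact congrArg (fun v : Γ(F₁, (⊤ : X.Opens)) =>
        toSec A' (g ⁻¹ᵁ (⊤ : X.Opens)) b • pullSec g F₁ v) (te.left_inv s).symm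
    | add p q hp hq => simp only [map_add, hp, hq]; exact (map_add (G.hom.app U).hom _ _).symm
  have hb : Function.Bijective (G.hom.app U) :=
    ConcreteCategory.bijective_of_isIso (G.hom.app U)
  rw [BCBij, show (bcLin hsq F₁ ⊤ : _ → _) = (G.hom.app U) ∘
    (fun z => (show Γ((Scheme.Modules.pullback g).obj F, U) from
      bcLin hsq F ⊤ (te.toLinearMap.lTensor A' z))) from funext key]
  exact hb.comp (h.comp (te.lTensor A').bijective)

/-- Bijectivity only depends on the morphism. -/
theorem BCBij.congr_hom {g₂ : X' ⟶ X} (e : g₂ = g) (h₂ : IsBC (A := A) (A' := A') g₂)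
    (h₁ : IsBC (A := A) (A' := A') g) {M : X.Modules} (hb : BCBij h₂ M) : BCBij h₁ M := by
  subst e; exact hb

end Groth.FlatStrata
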