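import Groth.Agent.FlatStrata.Criterion
import Groth.Agent.CohBase.FibreBC
import Groth.Agent.Flatmor4.FlatModAffine

/-!
# Affine charts of a base change
-/

set_option autoImplicit false

universe u

open CategoryTheory Limits AlgebraicGeometry TopologicalSpace Opposite
open scoped TensorProduct
open Groth.CohBase hiding res res_res
open Groth.PicAux

namespace Groth.FlatStrata

variable {X S : Scheme.{u}} (f : X ⟶ S)

/-- Flatness above an affine open is flatness of the restriction over its ring of functions. -/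
theorem isFlatOver_chart_iff (M : X.Modules) [M.IsQuasicoherent] {V : S.Opens} (hV : IsAffineOpen V) :
    FlatMod.IsFlatOver (preimageToSpec f (V := V)) (M.restrict (f ⁻¹ᵁ V).ι) ↔
      ∀ x : X, f x ∈ V → FlatMod.IsFlatOverAt f M x := by
  let U := f ⁻¹ᵁ V
  let q := preimageToSpec f (V := V)
  have key : ∀ z : (U : Scheme.{u}),
      FlatMod.IsFlatOverAt f M (U.ι z) ↔ FlatMod.IsFlatOverAt q (M.restrict U.ι) z := by
    intro z
    have hflat : (U.ι.stalkMap z).hom.Flat :=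
      RingHom.Flat.of_bijective (ConcreteCategory.bijective_of_isIso (U.ι.stalkMap z))
    rw [Flatmor4.isFlatOverAt_pullback_iff U.ι f M z hflat,
      ← FlatMorOne.isFlatOverAt_congr (U.ι ≫ f)
        ((Scheme.Modules.restrictFunctorIsoPullback U.ι).app M) z,
      (isPullback_preimageToSpec f hV).w]
    exact FlatMorOne.isFlatOverAt_comp_openImmersion q hV.fromSpec _ z
  exact ⟨fun h x hx => (key ⟨x, hx⟩).2 (h _), fun h z => (key z).1 (h _ z.2)⟩

variable {T X' : Scheme.{u}} {g : T ⟶ S} {p : X' ⟶ T} {g' : X' ⟶ X}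

/-- An affine chart of a base change. -/
theorem exists_chart (H : IsPullback g' p f g) (F : X.Modules) {V : S.Opens} (hV : IsAffineOpen V)
    {W : T.Opens} (hW : IsAffineOpen W) (e : W ≤ g ⁻¹ᵁ V) :
    letI : ((f ⁻¹ᵁ V : X.Opens) : Scheme.{u}).Over (Spec (CommRingCat.of Γ(S, V))) :=
      ⟨preimageToSpec f⟩
    letI : ((p ⁻¹ᵁ W : X'.Opens) : Scheme.{u}).Over (Spec (CommRingCat.of Γ(T, W))) :=
      ⟨preimageToSpec p⟩
    letI := (g.appLE V W e).hom.toAlgebra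
    ∃ r : ((p ⁻¹ᵁ W : X'.Opens) : Scheme.{u}) ⟶ ((f ⁻¹ᵁ V : X.Opens) : Scheme.{u}),
      IsBC (A := Γ(S, V)) (A' := Γ(T, W)) r ∧
        Nonempty ((Scheme.Modules.pullback r).obj (F.restrict (f ⁻¹ᵁ V).ι) ≅
          ((Scheme.Modules.pullback g').obj F).restrict (p ⁻¹ᵁ W).ι) := by
  letI : ((f ⁻¹ᵁ V : X.Opens) : Scheme.{u}).Over (Spec (CommRingCat.of Γ(S, V))) :=
    ⟨preimageToSpec f⟩
  letI : ((p ⁻¹ᵁ W : X'.Opens) : Scheme.{u}).Over (Spec (CommRingCat.of Γ(T, W))) :=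
    ⟨preimageToSpec p⟩
  letI := (g.appLE V W e).hom.toAlgebra
  let s := Spec.map (CommRingCat.ofHom (algebraMap Γ(S, V) Γ(T, W)))
  have hA := isPullback_preimageToSpec f hV
  have hB := isPullback_preimageToSpec p hW
  have hcomp := hB.paste_horiz H
  have hs : s ≫ hV.fromSpec = hW.fromSpec ≫ g :=
    IsAffineOpen.SpecMap_appLE_fromSpec g hV hW e
  rw [← hs] at hcomp
  have hw : ((p ⁻¹ᵁ W).ι ≫ g') ≫ f = (preimageToSpec p (V := W) ≫ s) ≫ hV.fromSpec := by
    rw [Category.assoc, Category.assoc]; exact (Category.assoc _ _ _).symm.trans hcomp.w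
  let r := hA.lift ((p ⁻¹ᵁ W).ι ≫ g') (preimageToSpec p (V := W) ≫ s) hw
  refine ⟨r, IsPullback.of_right ?_ (hA.lift_snd _ _ _) hA, ⟨?_⟩⟩
  · rw [hA.lift_fst]; exact hcomp
  · exact (Scheme.Modules.pullback r).mapIso
        ((Scheme.Modules.restrictFunctorIsoPullback (f ⁻¹ᵁ V).ι).app F) ≪≫
      (Scheme.Modules.pullbackComp r (f ⁻¹ᵁ V).ι).app F ≪≫
      (Scheme.Modules.pullbackCongr (hA.lift_fst _ _ _)).app F ≪≫
      ((Scheme.Modules.pullbackComp (p ⁻¹ᵁ W).ι g').app F).symm ≪≫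
      ((Scheme.Modules.restrictFunctorIsoPullback (p ⁻¹ᵁ W).ι).app _).symm

variable (g)

/-- Sections over affine opens of the inverse image of the direct image of a twist. -/
theorem nonempty_chart_sections [QuasiCompact f] [QuasiSeparated f] (F L : X.Modules) (d : ℕ)
    [((Coh.push f).obj (tw F L d)).IsQuasicoherent]
    {V : S.Opens} (hV : IsAffineOpen V) {W : T.Opens} (hW : IsAffineOpen W) (e : W ≤ g ⁻¹ᵁ V) :
    letI : ((f ⁻¹ᵁ V : X.Opens) : Scheme.{u}).Over (Spec (CommRingCat.of Γ(S, V))) :=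
      ⟨preimageToSpec f⟩
    letI := (g.appLE V W e).hom.toAlgebra
    Nonempty (Γ(T, W) ⊗[Γ(S, V)]
        secA Γ(S, V) (tw (F.restrict (f ⁻¹ᵁ V).ι) (L.restrict (f ⁻¹ᵁ V).ι) d) ⊤ ≃ₗ[Γ(T, W)]
      Γ((Scheme.Modules.pullback g).obj ((Coh.push f).obj (tw F L d)), W)) := by
  letI : ((f ⁻¹ᵁ V : X.Opens) : Scheme.{u}).Over (Spec (CommRingCat.of Γ(S, V))) :=
    ⟨preimageToSpec f⟩
  letI := (g.appLE V W e).hom.toAlgebra
  obtain ⟨e₀⟩ := nonempty_push_secA f (tw F L d) V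
  let e₁ := e₀.trans (secLin Γ(S, V) (nonempty_restrict_tw F L (f ⁻¹ᵁ V) d).some ⊤)
  exact ⟨(e₁.symm.baseChange Γ(S, V) Γ(T, W) _ _).trans
    (QCohMod.pullSecEquiv g ((Coh.push f).obj (tw F L d)) e hV hW)⟩

end Groth.FlatStrata
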