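import Groth.Agent.FlatStrata.Canonical

/-!
# Transitivity of the base change map on global sections
-/

set_option autoImplicit false

universe u

open CategoryTheory Limits AlgebraicGeometry TopologicalSpace Opposite
open scoped TensorProduct
open Groth.CohBase Groth.PicAux

namespace Groth.FlatStrata

variable {A B C : Type u} [CommRing A] [CommRing B] [CommRing C] [Algebra A B] [Algebra A C]
  [Algebra B C] [IsScalarTower A B C] {X X₁ X₂ : Scheme.{u}}
  [X.Over (Spec (CommRingCat.of A))] [X₁.Over (Spec (CommRingCat.of B))]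
  [X₂.Over (Spec (CommRingCat.of C))] {g : X₁ ⟶ X} {g' : X₂ ⟶ X₁}

/-- Base change squares compose. -/
theorem isBC_comp (h₁ : IsBC (A := A) (A' := B) g) (h₂ : IsBC (A := B) (A' := C) g') :
    IsBC (A := A) (A' := C) (g' ≫ g) := by
  have h := h₂.paste_horiz h₁
  have e : Spec.map (CommRingCat.ofHom (algebraMap B C)) ≫
      Spec.map (CommRingCat.ofHom (algebraMap A B)) =
        Spec.map (CommRingCat.ofHom (algebraMap A C)) := by
    rw [← Spec.map_comp, ← CommRingCat.ofHom_comp, ← IsScalarTower.algebraMap_eq]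
  rw [e] at h
  exact h

variable (h₁ : IsBC (A := A) (A' := B) g) (h₂ : IsBC (A := B) (A' := C) g')
  (h₁₂ : IsBC (A := A) (A' := C) (g' ≫ g)) (F : X.Modules)

lemma bcLin_comp (z : C ⊗[A] secA A F ⊤) :
    (show Γ((Scheme.Modules.pullback (g' ≫ g)).obj F, (g' ≫ g) ⁻¹ᵁ (⊤ : X.Opens)) from
      bcLin h₁₂ F ⊤ z) =
    ((Scheme.Modules.pullbackComp g' g).hom.app F).app (g' ⁻¹ᵁ g ⁻¹ᵁ (⊤ : X.Opens))
      (show Γ((Scheme.Modules.pullback g').obj ((Scheme.Modules.pullback g).obj F),
          g' ⁻¹ᵁ g ⁻¹ᵁ (⊤ : X.Opens)) from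
        bcLin h₂ ((Scheme.Modules.pullback g).obj F) (g ⁻¹ᵁ (⊤ : X.Opens))
          ((bcLin h₁ F ⊤).lTensor C
            ((TensorProduct.AlgebraTensorModule.cancelBaseChange A B C C (secA A F ⊤)).symm z))) := by
  induction z using TensorProduct.induction_on with
  | zero =>
    simp only [map_zero]
    exact (map_zero (((Scheme.Modules.pullbackComp g' g).hom.app F).app _).hom).symm
  | tmul c s =>
    rw [TensorProduct.AlgebraTensorModule.cancelBaseChange_symm_tmul, LinearMap.lTensor_tmul,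
      bcLin_tmul, bcLin_tmul]
    refine Eq.trans ?_ (Scheme.Modules.Hom.app_smul _ _ _).symm
    refine congrArg (fun v : Γ((Scheme.Modules.pullback (g' ≫ g)).obj F,
      (g' ≫ g) ⁻¹ᵁ (⊤ : X.Opens)) => toSec C ((g' ≫ g) ⁻¹ᵁ (⊤ : X.Opens)) c • v) ?_
    refine (pullSec_comp g' g F (show Γ(F, (⊤ : X.Opens)) from s)).symm.trans ?_
    exact congrArg (fun v => ((Scheme.Modules.pullbackComp g' g).hom.app F).app _ (pullSec g' _ v))
      (bcLin_one_tmul h₁ F ⊤ s).symm
  | add p q hp hq =>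
    simp only [map_add, hp, hq]
    exact (map_add (((Scheme.Modules.pullbackComp g' g).hom.app F).app _).hom _ _).symm

variable {F}

/-- If the first step is bijective, so is the composite exactly when the second step is. -/
theorem bcBij_comp_iff (hb : BCBij h₁ F) :
    BCBij h₁₂ F ↔ BCBij h₂ ((Scheme.Modules.pullback g).obj F) := by
  let φ := ((Scheme.Modules.pullbackComp g' g).hom.app F).app (g' ⁻¹ᵁ g ⁻¹ᵁ (⊤ : X.Opens))
  have hφ : Function.Bijective φ := ConcreteCategory.bijective_of_isIso φ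
  let e : C ⊗[A] secA A F ⊤ ≃ C ⊗[B] secA B ((Scheme.Modules.pullback g).obj F) (g ⁻¹ᵁ ⊤) :=
    (TensorProduct.AlgebraTensorModule.cancelBaseChange A B C C (secA A F ⊤)).symm.toEquiv.trans
      ((LinearEquiv.ofBijective _ hb).lTensor C).toEquiv
  rw [BCBij, show (bcLin h₁₂ F ⊤ : _ → _) = φ ∘
    (fun w => (show Γ((Scheme.Modules.pullback g').obj ((Scheme.Modules.pullback g).obj F),
      g' ⁻¹ᵁ g ⁻¹ᵁ (⊤ : X.Opens)) from
        bcLin h₂ ((Scheme.Modules.pullback g).obj F) (g ⁻¹ᵁ (⊤ : X.Opens)) w)) ∘ e from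
    funext (bcLin_comp h₁ h₂ h₁₂ F)]
  exact (Function.Bijective.of_comp_iff' hφ _).trans (Function.Bijective.of_comp_iff _ e.bijective)


/-- If the composite and the second step are bijective, the first step is bijective after
extension of scalars. -/
theorem lTensor_bcLin_bijective (h : BCBij h₁₂ F)
    (h' : BCBij h₂ ((Scheme.Modules.pullback g).obj F)) :
    Function.Bijective ((bcLin h₁ F ⊤).lTensor C) := by
  let φ := ((Scheme.Modules.pullbackComp g' g).hom.app F).app (g' ⁻¹ᵁ g ⁻¹ᵁ (⊤ : X.Opens))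
  have hφ : Function.Bijective φ := ConcreteCategory.bijective_of_isIso φ
  let e := (TensorProduct.AlgebraTensorModule.cancelBaseChange A B C C (secA A F ⊤)).symm
  rw [BCBij, show (bcLin h₁₂ F ⊤ : _ → _) = φ ∘
    (fun w => (show Γ((Scheme.Modules.pullback g').obj ((Scheme.Modules.pullback g).obj F),
      g' ⁻¹ᵁ g ⁻¹ᵁ (⊤ : X.Opens)) from
        bcLin h₂ ((Scheme.Modules.pullback g).obj F) (g ⁻¹ᵁ (⊤ : X.Opens)) w)) ∘
      ((bcLin h₁ F ⊤).lTensor C) ∘ e from funext (bcLin_comp h₁ h₂ h₁₂ F)] at h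
  exact (Function.Bijective.of_comp_iff _ e.bijective).1
    ((Function.Bijective.of_comp_iff' h' _).1 ((Function.Bijective.of_comp_iff' hφ _).1 h))

end Groth.FlatStrata
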