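import Groth.Agent.FlatStrata.Twist
import Groth.Agent.FlatTwist.Relative
import Groth.Agent.Ega4Algebra2.FlatRegular

/-!
# Sections of modules on schemes over an affine scheme
-/

set_option autoImplicit false

universe u

open CategoryTheory Limits AlgebraicGeometry TopologicalSpace Opposite
open Groth.CohBase hiding res res_res
open Groth.PicAux

namespace Groth.FlatStrata

variable (A : Type u) [CommRing A] {X : Scheme.{u}} [X.Over (Spec (CommRingCat.of A))]

/-- An isomorphism of modules on sections, linear over the base. -/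
noncomputable def secLin {M N : X.Modules} (e : M ≅ N) (W : X.Opens) :
    secA A M W ≃ₗ[A] secA A N W where
  toFun s := (show secA A N W from e.hom.app W (show Γ(M, W) from s))
  map_add' a b := map_add (e.hom.app W).hom _ _
  map_smul' a s := Scheme.Modules.Hom.app_smul e.hom _ _
  invFun s := (show secA A M W from e.inv.app W (show Γ(N, W) from s))
  left_inv s := congr(($(e.hom_inv_id)).app W (show Γ(M, W) from s))
  right_inv s := congr(($(e.inv_hom_id)).app W (show Γ(N, W) from s))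

variable {A}

/-- Global sections are the sections of the direct image. -/
theorem flat_push_top (M : X.Modules) (h : Module.Flat A (secA A M ⊤)) :
    Module.Flat Γ(Spec (CommRingCat.of A), (⊤ : (Spec (CommRingCat.of A)).Opens))
      Γ((Coh.push (X ↘ Spec (CommRingCat.of A))).obj M,
        (⊤ : (Spec (CommRingCat.of A)).Opens)) := by
  let u := X ↘ Spec (CommRingCat.of A)
  let σ : A ≃+* Γ(Spec (CommRingCat.of A), (⊤ : (Spec (CommRingCat.of A)).Opens)) :=
    (Scheme.ΓSpecIso (CommRingCat.of A)).symm.commRingCatIsoToRingEquiv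
  let e : secA A M ⊤ ≃+ Γ((Coh.push u).obj M, (⊤ : (Spec (CommRingCat.of A)).Opens)) :=
    AddEquiv.refl (Γ(M, (⊤ : X.Opens)) : Type u)
  exact Groth.Ega4b.flat_of_semilinear σ e fun a s => by
    change toSec A (⊤ : X.Opens) a • (show Γ(M, (⊤ : X.Opens)) from s) =
      (show Γ(X, (⊤ : X.Opens)) from u.app ⊤ (σ a)) • (show Γ(M, (⊤ : X.Opens)) from s)
    congr 1
    exact QCohMod.resFun_self _

variable {S : Scheme.{u}} (f : X ⟶ S)

omit [X.Over (Spec (CommRingCat.of A))] in
/-- The functions on the base acting on the preimage. -/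
theorem toGlobal_preimageToSpec (V : S.Opens) (a : Γ(S, V)) :
    Coh.toGlobal (preimageToSpec f (V := V)) a = (f ⁻¹ᵁ V).topIso.inv ((f.app V).hom a) := by
  have h := congr($(Scheme.ΓSpecIso_inv_naturality (f.app V)) a)
  change ((f ⁻¹ᵁ V).toSpecΓ ≫ Spec.map (f.app V)).appTop
    ((Scheme.ΓSpecIso _).inv a) = _
  rw [Scheme.Hom.comp_appTop, CommRingCat.comp_apply]
  refine (congrArg _ h.symm).trans ?_
  change (((Scheme.ΓSpecIso Γ(X, f ⁻¹ᵁ V)).inv ≫ (f ⁻¹ᵁ V).toSpecΓ.appTop) ((f.app V).hom a)) = _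
  rw [Scheme.Opens.toSpecΓ_appTop, Iso.inv_hom_id_assoc]

omit [X.Over (Spec (CommRingCat.of A))] in
/-- Sections of a direct image over `V` as global sections over the preimage. -/
theorem nonempty_push_secA (M : X.Modules) (V : S.Opens) :
    letI : ((f ⁻¹ᵁ V : X.Opens) : Scheme.{u}).Over (Spec (CommRingCat.of Γ(S, V))) :=
      ⟨preimageToSpec f⟩
    Nonempty (Γ((Coh.push f).obj M, V) ≃ₗ[Γ(S, V)] secA Γ(S, V) (M.restrict (f ⁻¹ᵁ V).ι) ⊤) := by
  letI : ((f ⁻¹ᵁ V : X.Opens) : Scheme.{u}).Over (Spec (CommRingCat.of Γ(S, V))) :=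
    ⟨preimageToSpec f⟩
  letI := FlatTwist.secModule (FlatTwist.pullFun f V) (M.restrict (f ⁻¹ᵁ V).ι) ⊤
  obtain ⟨e⟩ := FlatTwist.nonempty_push_sections f M V
  let e' : Γ(M.restrict (f ⁻¹ᵁ V).ι, ⊤) ≃ₗ[Γ(S, V)] secA Γ(S, V) (M.restrict (f ⁻¹ᵁ V).ι) ⊤ :=
    { AddEquiv.refl (Γ(M.restrict (f ⁻¹ᵁ V).ι, ⊤) : Type u) with
      map_smul' := fun a s => by
        change resX _ le_rfl (FlatTwist.pullFun f V a) • s =
          QCohMod.resFun _ le_rfl (Coh.toGlobal (preimageToSpec f (V := V)) a) • s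
        rw [toGlobal_preimageToSpec, resX_self, QCohMod.resFun_self]
        rfl }
  exact ⟨e.trans e'⟩

omit [X.Over (Spec (CommRingCat.of A))] in
/-- Restriction commutes with twists. -/
theorem nonempty_restrict_tw (F L : X.Modules) (W : X.Opens) (d : ℕ) :
    Nonempty ((tw F L d).restrict W.ι ≅ tw (F.restrict W.ι) (L.restrict W.ι) d) := by
  obtain ⟨e₂⟩ := Ega2Proj.exists_tensorPow_restrict (L := L) W.ι d
  obtain ⟨e₃⟩ := Ega2Proj.exists_tensorMod_restrict (L := F) (M := CohB1.tensorPow L d) W.ι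
  exact ⟨e₃ ≪≫ PicGrp.tensorModIso (Iso.refl _) e₂⟩

end Groth.FlatStrata
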