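import Groth.Agent.FlatStrata.Uniform
import Groth.Agent.CohTwo.ExchangeFibre
import Groth.Agent.CohBase.FlatBC.AffineBase
import Groth.Agent.FlatStrata.Sections

/-!
# Flatness of a module and local freeness of the base changed direct images of its high twists
-/

set_option autoImplicit false

universe u

open CategoryTheory Limits AlgebraicGeometry TopologicalSpace Opposite
open scoped TensorProduct
open Groth.CohBase hiding res res_res
open Groth.PicAux

namespace Groth.FlatStrata

/-- A map to a finite flat module which is bijective at all residue fields is bijective. -/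
theorem bijective_of_residueField {B : Type u} [CommRing B] [IsNoetherianRing B] {P Q : Type u}
    [AddCommGroup P] [Module B P] [AddCommGroup Q] [Module B Q] [Module.Finite B P]
    [Module.Finite B Q] [Module.Flat B Q] (θ : P →ₗ[B] Q)
    (h : ∀ x : PrimeSpectrum B, Function.Bijective (θ.lTensor x.asIdeal.ResidueField)) :
    Function.Bijective θ := by
  have hC : Subsingleton (Q ⧸ LinearMap.range θ) := by
    rw [← Module.support_eq_empty_iff (R := B), Set.eq_empty_iff_forall_notMem]
    intro x
    rw [Module.mem_support_iff_nontrivial_residueField_tensorProduct, not_nontrivial_iff_subsingleton]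
    refine subsingleton_of_forall_eq 0 fun z => ?_
    obtain ⟨w, rfl⟩ := LinearMap.lTensor_surjective x.asIdeal.ResidueField
      (Submodule.mkQ_surjective (LinearMap.range θ)) z
    obtain ⟨v, rfl⟩ := (h x).2 w
    rw [← LinearMap.lTensor_comp_apply, LinearMap.range_mkQ_comp, LinearMap.lTensor_zero]
    rfl
  have hs : Function.Surjective θ := by
    rw [← LinearMap.range_eq_top]
    exact (Submodule.Quotient.subsingleton_iff).1 hC
  have hK : Subsingleton (LinearMap.ker θ) := by
    rw [← Module.support_eq_empty_iff (R := B), Set.eq_empty_iff_forall_notMem]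
    intro x
    rw [Module.mem_support_iff_nontrivial_residueField_tensorProduct, not_nontrivial_iff_subsingleton]
    refine subsingleton_of_forall_eq 0 fun z => ?_
    have hi : Function.Injective ((LinearMap.ker θ).subtype.lTensor x.asIdeal.ResidueField) :=
      LinearMap.lTensor_injective_of_exact_of_flat θ hs _ Subtype.val_injective
        (LinearMap.exact_subtype_ker_map θ) _
    refine hi ((h x).1 ?_)
    rw [map_zero, map_zero, ← LinearMap.lTensor_comp_apply,
      show θ.comp (LinearMap.ker θ).subtype = 0 from LinearMap.ext fun v => v.2,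
      LinearMap.lTensor_zero]
    rfl
  exact ⟨LinearMap.ker_eq_bot.1 (Submodule.eq_bot_of_subsingleton), hs⟩

variable {A B : Type u} [CommRing A] [CommRing B] [Algebra A B] {X Z : Scheme.{u}}
  [X.Over (Spec (CommRingCat.of A))] [Z.Over (Spec (CommRingCat.of B))] {g : Z ⟶ X}

/-- Higher cohomology of a flat module vanishes when that of all fibres does. -/
theorem subsingleton_HH_of_fibres [IsNoetherianRing B] [IsProper (Z ↘ Spec (CommRingCat.of B))]
    (M : Z.Modules) (hM : Coh.IsCoh M)
    (hfl : FlatMod.IsFlatOver (Z ↘ Spec (CommRingCat.of B)) M) (p : ℕ)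
    (h : ∀ y : Spec (CommRingCat.of B),
      Subsingleton (CohIII.fiberH (Z ↘ Spec (CommRingCat.of B)) M y p)) :
    Subsingleton (Coh.HH Z M p) := by
  let u := Z ↘ Spec (CommRingCat.of B)
  have := hM.1
  obtain ⟨L, hL⟩ := exists_isModel u M (isAffineOpen_top (Spec (CommRingCat.of B))) hM hfl
  have := hL.subsingleton_Hk (isAffineOpen_top _) p fun y _ => h y
  obtain ⟨e⟩ := hL.sections p
  have : Subsingleton Γ((Coh.Rpush u p).obj M, (⊤ : (Spec (CommRingCat.of B)).Opens)) :=
    e.toEquiv.subsingleton
  obtain ⟨e', -⟩ := FlatBC.exists_Rpush_top_equiv B Z M p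
  exact e'.symm.toEquiv.subsingleton

/-- If the base change of `F` is flat, then the base changed sections of high twists are finite
projective. -/
theorem finite_flat_tensor_of_flat [IsNoetherianRing A] [IsNoetherianRing B]
    [IsProper (X ↘ Spec (CommRingCat.of A))] {L : X.Modules} (hL : CohB1.IsAmple L) (F : X.Modules)
    (hF : Coh.IsCoh F) {N : ℕ} {H : Set (ℕ → ℕ)}
    (hgood : ∀ (K : Type u) [Field K] [Algebra A K], GoodPt A F L N H K)
    (hsq : IsBC (A := A) (A' := B) g)
    (hfl : FlatMod.IsFlatOver (Z ↘ Spec (CommRingCat.of B)) ((Scheme.Modules.pullback g).obj F))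
    (d : ℕ) (hd : N ≤ d) :
    Module.Finite B (B ⊗[A] secA A (tw F L d) ⊤) ∧ Module.Flat B (B ⊗[A] secA A (tw F L d) ⊤) := by
  let u := Z ↘ Spec (CommRingCat.of B)
  have : IsProper u := MorphismProperty.of_isPullback hsq inferInstance
  have := CohFin.compactSpace_of_proper u
  have := CohFin.isSeparated_of_proper u
  let M := (Scheme.Modules.pullback g).obj (tw F L d)
  have hMc : Coh.IsCoh M := isCoh_pullback g (isCoh_tw hF hL.1 d)
  have := hMc.1
  have := hF.1
  have := QCohMod.isQCoh_pullback_obj g F
  have hMfl : FlatMod.IsFlatOver u M := fun z =>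
    (FlatMorOne.isFlatOverAt_congr _ (nonempty_pullback_tw g F L d).some.symm z).1
      (FlatTwist.isFlatOver_tensorMod
        (isInvertible_tensorPow (isInvertible_pullback g hL.1) d) hfl z)
  let θ := bcLin hsq (tw F L d) ⊤
  have hpt : ∀ (K : Type u) [Field K] [Algebra A K] [Algebra B K] [IsScalarTower A B K]
      (W : Scheme.{u}) [W.Over (Spec (CommRingCat.of K))] (q : W ⟶ Z)
      (h₂ : IsBC (A := B) (A' := K) q),
      BCBij (isBC_comp hsq h₂) (tw F L d) ∧
        ∀ p : ℕ, 1 ≤ p → Subsingleton (Coh.HH W ((Scheme.Modules.pullback q).obj M) p) := by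
    intro K _ _ _ _ W _ q h₂
    obtain ⟨hb, hv⟩ := (hgood K W (q ≫ g) (isBC_comp hsq h₂)).1 d hd
    exact ⟨hb, fun p hp => PnCoh.subsingleton_HH_of_iso (W ↘ Spec (CommRingCat.of K))
      ((Scheme.Modules.pullbackComp q g).app _).symm (hv p hp)⟩
  have hMv : ∀ p : ℕ, 1 ≤ p → Subsingleton (Coh.HH Z M p) := fun p hp =>
    subsingleton_HH_of_fibres M hMc hMfl p fun y => by
      let k := (Spec (CommRingCat.of B)).residueField y
      let : Algebra B k := (CohTwo.resHom B y).hom.toAlgebra
      let : Algebra A k := ((algebraMap B k).comp (algebraMap A B)).toAlgebra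
      have : IsScalarTower A B k := .of_algebraMap_eq fun _ => rfl
      let : (u.fiber y).Over (Spec (CommRingCat.of k)) := ⟨u.fiberToSpecResidueField y⟩
      have h₂ : IsBC (A := B) (A' := k) (u.fiberι y) := by
        change IsPullback (u.fiberι y) (u.fiberToSpecResidueField y) u (Spec.map (CohTwo.resHom B y))
        rw [CohTwo.map_resHom]
        exact IsPullback.of_hasPullback u _
      exact (hpt k (u.fiber y) (u.fiberι y) h₂).2 p hp
  have : Module.Finite B (secA B M (g ⁻¹ᵁ (⊤ : X.Opens))) := finite_secA_top (A := B) M hMc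
  have : Module.Flat B (secA B M (g ⁻¹ᵁ (⊤ : X.Opens))) :=
    flat_secA_top_of_vanish (A := B) M hMfl hMv
  have := finite_secA_top (A := A) (tw F L d) (isCoh_tw hF hL.1 d)
  have hθ : Function.Bijective θ := bijective_of_residueField θ fun x => by
    let K := x.asIdeal.ResidueField
    let W := Limits.pullback u (Spec.map (CommRingCat.ofHom (algebraMap B K)))
    let : W.Over (Spec (CommRingCat.of K)) := ⟨pullback.snd _ _⟩
    let q : W ⟶ Z := pullback.fst _ _
    have h₂ : IsBC (A := B) (A' := K) q := IsPullback.of_hasPullback _ _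
    exact lTensor_bcLin_bijective hsq h₂ (isBC_comp hsq h₂) (hpt K W q h₂).1
      (bcBij_of_vanish h₂ M hMfl hMv)
  exact ⟨inferInstance, Module.Flat.of_linearEquiv (LinearEquiv.ofBijective θ hθ)⟩

/-- Conversely, flatness of the base changed sections of high twists gives flatness of `F` on a
closed subscheme of the base. -/
theorem isFlatOver_of_flat_tensor [IsNoetherianRing A]
    [IsProper (X ↘ Spec (CommRingCat.of A))] {L : X.Modules} (hL : CohB1.IsAmple L) (F : X.Modules)
    (hF : Coh.IsCoh F) (hs : Function.Surjective (algebraMap A B))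
    (hsq : IsBC (A := A) (A' := B) g)
    (h : ∃ N : ℕ, ∀ d : ℕ, N ≤ d → Module.Flat B (B ⊗[A] secA A (tw F L d) ⊤)) :
    FlatMod.IsFlatOver (Z ↘ Spec (CommRingCat.of B)) ((Scheme.Modules.pullback g).obj F) := by
  let u := Z ↘ Spec (CommRingCat.of B)
  have : IsProper u := MorphismProperty.of_isPullback hsq inferInstance
  have := isAffineHom_of_bc hsq
  let L₁ := (Scheme.Modules.pullback g).obj L
  let F₁ := (Scheme.Modules.pullback g).obj F
  have := hF.1
  have := QCohMod.isQCoh_pullback_obj g F
  have hL₁ : CohB1.IsAmple L₁ := Chow.isAmple_pullback_of_isAffineHom g hL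
  have hrel : RelAmple.IsRelAmple u L₁ := Ega2Proj.isRelAmple_of_local u fun z =>
    ⟨⊤, Z, 𝟙 Z, inferInstance, trivial, fun w _ => ⟨w, rfl⟩,
      Ega2Proj.isAmple_of_iso (Scheme.Modules.restrictFunctorId.app L₁).symm hL₁⟩
  obtain ⟨N, hN⟩ := h
  obtain ⟨N', hN'⟩ := exists_bcBij_tw_of_surjective hsq hs hL F hF
  intro z
  refine FlatTwist.isFlatOverAt_of_push u hrel F₁ (isAffineOpen_top _) ⟨max N N', fun d hd => ?_⟩ z
    trivial
  have := hN d ((le_max_left _ _).trans hd)
  have hflat : Module.Flat B (secA B ((Scheme.Modules.pullback g).obj (tw F L d)) (⊤ : Z.Opens)) :=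
    Module.Flat.of_linearEquiv
      (LinearEquiv.ofBijective _ (hN' d ((le_max_right _ _).trans hd))).symm
  exact flat_push_top (tw F₁ L₁ d) (Module.Flat.of_linearEquiv
    (secLin B (nonempty_pullback_tw g F L d).some ⊤).symm)

end Groth.FlatStrata
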