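import Groth.Agent.FlatStrata.HilbertFibre
import Groth.Agent.Inter.EulerFamily
import Groth.Agent.FibreDim.Constructible

/-!
# The Hilbert function of a fibre is polynomial
-/

set_option autoImplicit false

universe u

open CategoryTheory Limits AlgebraicGeometry TopologicalSpace Opposite
open Groth.PicAux

namespace Groth.FlatStrata

/-- `n ↦ χ(X_s, F(n))` is a polynomial function on the natural numbers. -/
theorem exists_eulerChar_poly {X S : Scheme.{u}} (f : X ⟶ S) [IsProper f] {L : X.Modules}
    (hL : PicF.IsInvertible L) (F : X.Modules) (hF : CohB1.IsFP F) (s : S) :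
    ∃ P : Polynomial ℚ, ∀ n : ℕ, (PerfAux.eulerChar f (tw F L n) s : ℚ) = P.eval (n : ℚ) := by
  have : F.IsQuasicoherent := by
    have := hF
    infer_instance
  let κ := S.residueField s
  let Z := f.fiber s
  let : Z.Over (Spec (CommRingCat.of κ)) := ⟨f.fiberToSpecResidueField s⟩
  have hpr : IsProper (Z ↘ Spec (CommRingCat.of κ)) :=
    inferInstanceAs (IsProper (pullback.snd f (S.fromSpecResidueField s)))
  let Fs := (Scheme.Modules.pullback (f.fiberι s)).obj F
  let Ls := (Scheme.Modules.pullback (f.fiberι s)).obj L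
  have hFs : Coh.IsCoh Fs := isCoh_pullback _
    ⟨inferInstance, Groth.PropsBasic.LocFree.isFT_of_isFP _ hF⟩
  have hLs : PicF.IsInvertible Ls := isInvertible_pullback _ hL
  obtain ⟨d, hd⟩ : ∃ d : ℕ, topologicalKrullDim (CohB1.support Fs) ≤ (d : ℕ) := by
    have h := (Topology.IsInducing.subtypeVal (t := CohB1.support Fs)).topologicalKrullDim_le
    rcases hb : topologicalKrullDim ↥Z with _ | _ | d
    · exact ⟨0, h.trans (hb.le.trans bot_le)⟩
    · exact absurd hb (Groth.FibreDim.dim_fiber_ne_top f s)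
    · exact ⟨d, h.trans hb.le⟩
  obtain ⟨P, -, hP⟩ := Inter.exists_poly κ d 1 ![Ls] (fun i => by fin_cases i; exact hLs) []
    (by simp) (by simp) Fs hFs hd
  let Q : Polynomial ℚ := MvPolynomial.aeval (fun _ : Fin 1 => (Polynomial.X : Polynomial ℚ)) P
  refine ⟨Q, fun n => ?_⟩
  have hQ : Q.eval (n : ℚ) =
      (Curv2.euler κ Z (CohB1.tensorMod (CohB1.tensorPow Ls n) Fs) : ℚ) := by
    rw [← Inter.delta_multiTwist_one κ Z Ls Fs n, hP ![n]]
    change (Polynomial.aeval (n : ℚ)) (MvPolynomial.aeval _ P) = _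
    rw [← AlgHom.comp_apply, MvPolynomial.comp_aeval, ← MvPolynomial.eval₂_id,
      MvPolynomial.aeval_def]
    congr 1
    funext i
    fin_cases i
    simp
  rw [hQ]
  refine congrArg Int.cast ?_
  change Curv2.euler κ Z ((Scheme.Modules.pullback (f.fiberι s)).obj (tw F L n)) = _
  exact EulerDeg.euler_congr κ ((nonempty_pullback_tw (f.fiberι s) F L n).some ≪≫
    (exists_braiding Fs _).choose)

end Groth.FlatStrata
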