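import Groth.Agent.FlatStrata.FibreModels
import Groth.Prelude.Def_CurvBase

/-!
# Hilbert functions of fibres
-/

set_option autoImplicit false

universe u

open CategoryTheory Limits AlgebraicGeometry TopologicalSpace Opposite
open Groth.CohBase hiding res res_res
open Groth.PicAux

namespace Groth.FlatStrata

/-- A sum of Betti numbers which vanish outside degree zero. -/
theorem eulerChar_eq_of_betti {X S : Scheme.{u}} (f : X ⟶ S) (F : X.Modules) (s : S) {r : ℕ}
    (h : ∀ p : ℕ, PerfAux.betti f F s p = if p = 0 then r else 0) :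
    PerfAux.eulerChar f F s = r := by
  unfold PerfAux.eulerChar
  rw [finsum_eq_single _ 0 fun p hp => by rw [h p, if_neg hp]; simp, h 0]
  simp

/-- Euler characteristics only depend on the module up to isomorphism. -/
theorem eulerChar_congr {X S : Scheme.{u}} (f : X ⟶ S) {F G : X.Modules} (e : F ≅ G) (s : S) :
    PerfAux.eulerChar f F s = PerfAux.eulerChar f G s :=
  finsum_congr fun p => by rw [betti_congr f e s p]

section ProjSpace

variable (m : ℕ) {S : Scheme.{u}} (G : (CohB1.ProjSpaceOver m S).Modules)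

/-- The Euler characteristic of the `k`-th twist on the fibre at `s`. -/
noncomputable def chiFibre (k : ℤ) (s : S) : ℤ :=
  PerfAux.eulerChar (CohB1.ProjSpaceOver.toBase m S) (CohB1.tensorMod G (Twist.twistOver m S k)) s

variable {G}

/-- The Hilbert function of a fibre is a polynomial. -/
theorem exists_chiFibre_poly (hG : Coh.IsCoh G) (s : S) :
    ∃ P : Polynomial ℚ, ∀ k : ℤ, (chiFibre m G k s : ℚ) = P.eval (k : ℚ) := by
  let π := CohB1.ProjSpaceOver.toBase m S
  let κ := S.residueField s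
  let Z := π.fiber s
  let : Z.Over (Spec (CommRingCat.of κ)) := ⟨π.fiberToSpecResidueField s⟩
  have sq : IsPullback (π.fiberι s) (Z ↘ Spec (CommRingCat.of κ)) π (S.fromSpecResidueField s) :=
    IsPullback.of_hasPullback _ _
  obtain ⟨P, hP⟩ := exists_fibre_poly m G hG κ (S.fromSpecResidueField s) Z (π.fiberι s) sq
  refine ⟨P, fun k => ?_⟩
  rw [← hP k]
  let E := (Scheme.Modules.pullback (π.fiberι s)).obj (CohB1.tensorMod G (Twist.twistOver m S k))
  let θ : E ≅ _ := (exists_pullback_tensorMod (π.fiberι s) G (Twist.twistOver m S k)).choose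
  rw [← eulerCharLE_congr (K := κ) (Z := Z) θ m]
  congr 1
  change (finsum fun p : ℕ => (-1 : ℤ) ^ p * (Module.finrank κ (Coh.HH Z E p) : ℤ)) = _
  unfold FGA.eulerCharLE
  refine finsum_eq_finsetSum_of_support_subset _ fun p hp => ?_
  rw [Finset.coe_range, Set.mem_Iio]
  by_contra hlt
  refine hp ?_
  -- the fibre is a projective space
  have : IsProper π := Groth.Variety2.isProper_projSpaceOver_toBase m S
  have : IsProper (Z ↘ Spec (CommRingCat.of κ)) := MorphismProperty.of_isPullback sq ‹IsProper π›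
  have := CohFin.compactSpace_of_proper (Z ↘ Spec (CommRingCat.of κ))
  have := CohFin.isSeparated_of_proper (Z ↘ Spec (CommRingCat.of κ))
  have := hG.1
  have := isQCoh_of_isInvertible (KTheory.RegSheaf.isInvertible_twistOver m S k)
  have : (CohB1.tensorMod G (Twist.twistOver m S k)).IsQuasicoherent := QCohMod.isQCoh_tensorMod
  have : E.IsQuasicoherent := QCohMod.isQCoh_pullback_obj _ _
  let PK := CohB1.ProjSpace m κ
  let : PK.Over (Spec (CommRingCat.of κ)) := ⟨CohB1.ProjSpace.toSpec m κ⟩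
  have hq₀ : IsPullback ((PnCoh.overIso m κ).hom ≫ FGA.projMap m (S.fromSpecResidueField s))
      (CohB1.ProjSpace.toSpec m κ) π (S.fromSpecResidueField s) := by
    refine (isPullback_projMap m (S.fromSpecResidueField s)).of_iso (PnCoh.overIso m κ).symm
      (Iso.refl _) (Iso.refl _) (Iso.refl _) ?_ ?_ ?_ ?_ <;>
        simp [π, Iso.eq_inv_comp] <;>
        exact PnCoh.overIso_hom_toBase m κ
  let q : PK ≅ Z := IsPullback.isoIsPullback _ _ hq₀ sq
  have hbc : IsBC (A := κ) (A' := κ) q.hom := by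
    change IsPullback q.hom _ _ (Spec.map (CommRingCat.ofHom (algebraMap κ κ)))
    rw [Algebra.algebraMap_self, CommRingCat.ofHom_id, Spec.map_id]
    refine IsPullback.of_horiz_isIso ⟨?_⟩
    exact (IsPullback.isoIsPullback_hom_snd _ _ hq₀ sq).trans (Category.comp_id _).symm
  have hqc : Coh.IsQCoh (X := CohB1.ProjSpace m κ) ((Scheme.Modules.pullback q.hom).obj E) :=
    QCohMod.isQCoh_pullback_obj _ _
  have hz := @PnCoh.subsingleton_HH_of_lt m κ _ ((Scheme.Modules.pullback q.hom).obj E) hqc p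
    (by omega)
  show (-1 : ℤ) ^ p * (Module.finrank κ (Coh.HH Z E p) : ℤ) = 0
  rw [← HilbStab.BC.finrank_HH_baseChange hbc E p]
  have h0 : Module.finrank κ (Coh.HH PK ((Scheme.Modules.pullback q.hom).obj E) p) = 0 :=
    Module.finrank_zero_of_subsingleton
  rw [h0]
  simp

/-- Hilbert functions are given by finitely many rank functions, which vary upper
semicontinuously. -/
theorem exists_chiFibre_ranks [IsNoetherian S] (hG : Coh.IsCoh G) :
    ∃ (N₀ : ℕ) (Hs : Set (ℕ → ℕ)) (h : S → ℕ → ℕ), Hs.Finite ∧ (∀ s, h s ∈ Hs) ∧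
      (∀ s (d : ℕ), chiFibre m G ((N₀ + d : ℕ) : ℤ) s = h s d) ∧
      ∀ s d, ∃ O : S.Opens, s ∈ O ∧ ∀ t ∈ O, h t d ≤ h s d := by
  let π := CohB1.ProjSpaceOver.toBase m S
  have : IsProper π := Groth.Variety2.isProper_projSpaceOver_toBase m S
  have hLr := isRelAmple_twistOne m S
  have hL := Ega2Proj.isInvertible_of_isRelAmple hLr
  obtain ⟨N₀, I, St, e, -, hpt, -, -, -, hcov, -⟩ := exists_flatStrata π hLr G hG
  choose h hh using hpt
  refine ⟨N₀, (I : Set (ℕ → ℕ)), fun s => h s, I.finite_toSet, fun s => (h s).2, fun s d => ?_,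
    fun s d => ?_⟩
  · let : (π.fiber s).Over (Spec (CommRingCat.of (S.residueField s))) :=
      ⟨π.fiberToSpecResidueField s⟩
    have sq : IsPullback (π.fiberι s)
        (π.fiber s ↘ Spec (CommRingCat.of (S.residueField s))) π (S.fromSpecResidueField s) :=
      IsPullback.of_hasPullback _ _
    obtain ⟨V, hV, hs, H, hgood⟩ := hcov s
    obtain ⟨a⟩ := Agent.S2427.nonempty_tensorPow_twistOver m S (N₀ + d)
    refine (eulerChar_congr π (PicGrp.tensorModIso (Iso.refl G) a.symm) s).trans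
      (eulerChar_eq_of_betti π _ s fun p => ?_)
    exact finrank_HH_fibre_tw π hG hL ⟨V, hV, hs, H, hgood⟩ (hh s) sq d p
  · obtain ⟨O, hsO, hO⟩ := exists_open_rank_le π hG hL (hh s) d
    exact ⟨O, hsO, fun t ht => hO t _ ht (hh t)⟩

/-- Only finitely many Hilbert functions occur. -/
theorem finite_range_chiFibre [IsNoetherian S] (hG : Coh.IsCoh G) :
    (Set.range fun s : S => fun k : ℕ => chiFibre m G (k : ℤ) s).Finite := by
  obtain ⟨N₀, Hs, h, hHs, hmem, hval, -⟩ := exists_chiFibre_ranks m hG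
  choose P hP using exists_chiFibre_poly m hG
  have heq : ∀ s t, h s = h t → P s = P t := fun s t hst => by
    refine Polynomial.eq_of_infinite_eval_eq _ _ ((Set.infinite_range_of_injective
      (f := fun d : ℕ => (((N₀ + d : ℕ) : ℤ) : ℚ)) fun a b hab => by simpa using hab).mono ?_)
    rintro _ ⟨d, rfl⟩
    change (P s).eval _ = (P t).eval _
    rw [← hP, ← hP, hval, hval, hst]
  rcases isEmpty_or_nonempty S with _ | _
  · exact Set.finite_range _
  refine (hHs.image fun a => fun k : ℕ => chiFibre m G (k : ℤ) (Function.invFun h a)).subset ?_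
  rintro _ ⟨s, rfl⟩
  refine ⟨h s, hmem s, funext fun k => ?_⟩
  have h1 := heq _ s (Function.invFun_eq ⟨s, rfl⟩ : h (Function.invFun h (h s)) = h s)
  have : ((chiFibre m G (k : ℤ) (Function.invFun h (h s)) : ℤ) : ℚ) = chiFibre m G (k : ℤ) s := by
    rw [hP, hP, h1]
  exact_mod_cast this

/-- The locus where the Hilbert function is eventually at least a given one is closed. -/
theorem isClosed_chiFibre_ge [IsNoetherian S] (hG : Coh.IsCoh G) (ψ : ℕ → ℚ) :
    IsClosed {s : S | ∃ K : ℕ, ∀ k : ℕ, K ≤ k → ψ k ≤ (chiFibre m G (k : ℤ) s : ℚ)} := by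
  obtain ⟨N₀, Hs, h, hHs, hmem, hval, hsemi⟩ := exists_chiFibre_ranks m hG
  have hiff : ∀ s : S, (∃ K : ℕ, ∀ k : ℕ, K ≤ k → ψ k ≤ (chiFibre m G (k : ℤ) s : ℚ)) ↔
      ∃ K : ℕ, ∀ d : ℕ, K ≤ d → ψ (N₀ + d) ≤ (h s d : ℚ) := by
    refine fun s => ⟨fun ⟨K, hK⟩ => ⟨K, fun d hd => ?_⟩, fun ⟨K, hK⟩ => ⟨N₀ + K, fun k hk => ?_⟩⟩
    · have := hK (N₀ + d) (by omega)
      rw [hval] at this
      exact_mod_cast this
    · obtain ⟨d, rfl⟩ := Nat.exists_eq_add_of_le (show N₀ ≤ k by omega)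
      rw [hval]
      exact_mod_cast hK d (by omega)
  refine isClosed_of_closure_subset fun s hs => (hiff s).2 ?_
  obtain ⟨a, ⟨K, hK⟩, hsa⟩ : ∃ a : ℕ → ℕ, (∃ K : ℕ, ∀ d : ℕ, K ≤ d → ψ (N₀ + d) ≤ (a d : ℚ)) ∧
      s ∈ closure (h ⁻¹' {a}) := by
    have hfin := hHs.subset (Set.sep_subset Hs
      fun a => ∃ K : ℕ, ∀ d : ℕ, K ≤ d → ψ (N₀ + d) ≤ (a d : ℚ))
    have hsub : {s : S | ∃ K : ℕ, ∀ k : ℕ, K ≤ k → ψ k ≤ (chiFibre m G (k : ℤ) s : ℚ)} ⊆
        ⋃ a ∈ {a ∈ Hs | ∃ K : ℕ, ∀ d : ℕ, K ≤ d → ψ (N₀ + d) ≤ (a d : ℚ)}, h ⁻¹' {a} :=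
      fun t ht => Set.mem_biUnion (x := h t) ⟨hmem t, (hiff t).1 ht⟩ rfl
    have h1 := closure_mono hsub hs
    rw [hfin.closure_biUnion] at h1
    obtain ⟨a, ha, hsa⟩ := Set.mem_iUnion₂.1 h1
    exact ⟨a, ha.2, hsa⟩
  refine ⟨K, fun d hd => (hK d hd).trans ?_⟩
  obtain ⟨O, hsO, hO⟩ := hsemi s d
  obtain ⟨t, htO, hta⟩ := mem_closure_iff.1 hsa O O.2 hsO
  rw [← show h t = a from hta]
  exact_mod_cast hO t htO

end ProjSpace

/-- Hilbert functions of fibres over an affine base are given by Noetherian models. -/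
theorem exists_eulerChar_models {A : Type u} [CommRing A] {X : Scheme.{u}}
    (f : X ⟶ Spec (CommRingCat.of A)) [IsProper f] [LocallyOfFinitePresentation f] {L : X.Modules}
    (hL : CohB1.IsAmple L) (F : X.Modules) [F.IsQuasicoherent] (hF : CohB1.IsFP F) :
    ∃ (m N : ℕ), 0 < N ∧ ∀ r : ℕ, ∃ (S₀ : Scheme.{u}) (_ : IsNoetherian S₀)
      (σ : Spec (CommRingCat.of A) ⟶ S₀) (G₀ : (CohB1.ProjSpaceOver m S₀).Modules),
      Coh.IsCoh G₀ ∧ ∀ (y : Spec (CommRingCat.of A)) (k : ℕ),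
        PerfAux.eulerChar f (tw F L (r + N * k)) y = chiFibre m G₀ (k : ℤ) (σ y) := by
  obtain ⟨m, N, hN, h⟩ := exists_fibre_models f hL F hF
  refine ⟨m, N, hN, fun r => ?_⟩
  obtain ⟨A₀, i₁, i₂, φ, G₀, hG₀, hb⟩ := h r
  exact ⟨Spec (CommRingCat.of A₀), inferInstance, Spec.map (CommRingCat.ofHom φ), G₀, hG₀,
    fun y k => finsum_congr fun p => by rw [hb y k p]⟩

/-- Euler characteristics over an affine open of the base. -/
theorem eulerChar_restrict_tw {X S : Scheme.{u}} (f : X ⟶ S) [IsProper f] {L : X.Modules}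
    (hL : PicF.IsInvertible L) (F : X.Modules) [F.IsQuasicoherent] {V : S.Opens}
    (hV : IsAffineOpen V) (y : Spec (CommRingCat.of Γ(S, V))) (n : ℕ) :
    PerfAux.eulerChar (preimageToSpec f (V := V))
        (tw (F.restrict (f ⁻¹ᵁ V).ι) (L.restrict (f ⁻¹ᵁ V).ι) n) y =
      PerfAux.eulerChar f (tw F L n) (hV.fromSpec y) := by
  have := isQCoh_tw (F := F) hL n
  refine (eulerChar_congr _ (nonempty_restrict_tw F L (f ⁻¹ᵁ V) n).some.symm y).trans ?_
  exact finsum_congr fun p => by rw [betti_restrict f (tw F L n) hV y p]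

end Groth.FlatStrata
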