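import Groth.Agent.FlatStrata.Strata

/-!
# The universal property of the flattening stratification
-/

set_option autoImplicit false

universe u

open CategoryTheory Limits AlgebraicGeometry TopologicalSpace Opposite
open Groth.CohBase hiding res res_res
open Groth.PicAux

namespace Groth.FlatStrata

variable {X S : Scheme.{u}} (f : X ⟶ S)

/-- The flattening stratification of a coherent module for a proper morphism with a relatively
ample invertible module, indexed by the rank functions of the direct images of high twists. -/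
theorem exists_flatStrata [IsProper f] [IsNoetherian S] {L : X.Modules}
    (hL : RelAmple.IsRelAmple f L) (F : X.Modules) (hF : Coh.IsCoh F) :
    ∃ (N : ℕ) (I : Finset (ℕ → ℕ)) (St : ↥I → Scheme.{u}) (e : ∀ h, St h ⟶ S),
      (∀ h, IsImmersion (e h)) ∧
      (∀ s : S, ∃ h : ↥I, HasRank f F L N h (S.fromSpecResidueField s)) ∧
      (∀ h : ↥I, ∃ s : S, HasRank f F L N h (S.fromSpecResidueField s)) ∧
      (∀ (h : ↥I) (s : S), s ∈ Set.range (e h) ↔ HasRank f F L N h (S.fromSpecResidueField s)) ∧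
      (∀ (h : ↥I) (T : Scheme.{u}) (g : T ⟶ S),
        (∃ k : T ⟶ St h, k ≫ e h = g) ↔ HasRank f F L N h g) ∧
      (∀ s : S, ∃ V : S.Opens, IsAffineOpen V ∧ s ∈ V ∧ ∃ H : Set (ℕ → ℕ),
        letI : ((f ⁻¹ᵁ V : X.Opens) : Scheme.{u}).Over (Spec (CommRingCat.of Γ(S, V))) :=
          ⟨preimageToSpec f⟩
        ∀ (K : Type u) [Field K] [Algebra Γ(S, V) K],
          GoodPt Γ(S, V) (F.restrict (f ⁻¹ᵁ V).ι) (L.restrict (f ⁻¹ᵁ V).ι) N H K) ∧
      ∀ (T : Scheme.{u}) [IsLocallyNoetherian T] (φ : T ⟶ S) (X' : Scheme.{u}) (g' : X' ⟶ X)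
        (p : X' ⟶ T), IsPullback g' p f φ →
          (FlatMod.IsFlatOver p ((Scheme.Modules.pullback g').obj F) ↔
            ∃ k : T ⟶ ∐ St, k ≫ Sigma.desc e = φ) := by
  classical
  have hLi := Ega2Proj.isInvertible_of_isRelAmple hL
  have := hF.1
  obtain ⟨N, H, hH, hcov⟩ := exists_cover_uniform f hL F hF
  let H' : Set (ℕ → ℕ) := (fun h d => h (N + d)) '' H
  let Iset : Set (ℕ → ℕ) := {h | h ∈ H' ∧ ∃ s : S, HasRank f F L N h (S.fromSpecResidueField s)}
  have hI : Iset.Finite := (hH.image _).subset fun h hh => hh.1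
  have hpt : ∀ s : S, ∃ h ∈ Iset, HasRank f F L N h (S.fromSpecResidueField s) := fun s => by
    obtain ⟨V, hV, hs, hgood⟩ := hcov s
    obtain ⟨h, hh, hr⟩ := exists_hasRank_point f hF hLi s hV hs hgood
    exact ⟨_, ⟨⟨h, hh, rfl⟩, s, hr⟩, hr⟩
  let I := hI.toFinset
  have hmem : ∀ h, h ∈ I ↔ h ∈ Iset := fun h => hI.mem_toFinset
  have hsep : ∀ h h' : ℕ → ℕ, ∃ d, h' ≠ h → h' d ≠ h d := fun h h' => by
    by_cases e : h' = h
    · exact ⟨0, fun h => absurd e h⟩
    · obtain ⟨d, hd⟩ := Function.ne_iff.1 e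
      exact ⟨d, fun _ => hd⟩
  choose sep hsep using hsep
  have hst : ∀ h : ↥I, _ := fun h => exists_stratum f hF hLi hpt (h := (h : ℕ → ℕ))
    (I.image (sep h)) fun h' hh' heq => by_contra fun hne =>
      hsep h h' hne (heq _ (Finset.mem_image_of_mem _ ((hmem h').2 hh')))
  choose St e he huniv hrange using hst
  refine ⟨N, I, St, e, he, fun s => ?_, fun h => ((hmem h).1 h.2).2, hrange, huniv, fun s => ?_, ?_⟩
  · obtain ⟨h, hh, hr⟩ := hpt s
    exact ⟨⟨h, (hmem h).2 hh⟩, hr⟩
  · obtain ⟨V, hV, hs, hgood⟩ := hcov s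
    exact ⟨V, hV, hs, H, hgood⟩
  intro T _ φ X' g' p sq
  have := QCohMod.isQCoh_pullback_obj g' F
  constructor
  · intro hfl
    have hfree : ∀ d, FlatMod.IsFinLocFree
        ((Scheme.Modules.pullback φ).obj (pushTw f F L (N + d))) :=
      isFinLocFree_pullback_pushTw f hL hF hcov sq hfl
    let rk : ℕ → T → ℕ := fun d t => Module.finrank (T.presheaf.stalk t)
      (((Scheme.Modules.pullback φ).obj (pushTw f F L (N + d))).presheaf.stalk t)
    let stk : ↥I → Set T := fun h => {t | ∀ d, rk d t = (h : ℕ → ℕ) d}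
    have hrk : ∀ t, ∃ h : ↥I, t ∈ stk h := fun t => by
      obtain ⟨h, hh, hr⟩ := hpt (φ t)
      obtain ⟨q, hq⟩ := exists_fac_point φ t
      refine ⟨⟨h, (hmem h).2 hh⟩, fun d => ?_⟩
      have h1 := hr.comp q
      rw [hq] at h1
      obtain ⟨U, n, s, ht, hs⟩ := exists_basis_of_isFinLocFree (hfree d) t
      have := KTheory.LocFree.isQCoh (hfree d)
      have hn : rk d t = n := LocFree.finrank_stalk_of_basis hs ht
      have h2 : FlatMod.IsFinLocFreeOfRank n ((Scheme.Modules.pullback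
          (T.fromSpecResidueField t ≫ φ)).obj (pushTw f F L (N + d))) := by
        refine LocFree.isFinLocFreeOfRank_of_iso
          ((Scheme.Modules.pullbackComp (T.fromSpecResidueField t) φ).app _) ?_
        refine LocFree.isFinLocFreeOfRank_iff.2 fun z => ?_
        exact ⟨_, _, (by
          change T.fromSpecResidueField t z ∈ U
          rw [Scheme.fromSpecResidueField_apply]; exact ht), hs.pull _⟩
      exact hn.trans (rank_unique h2 (h1 d) (IsLocalRing.closedPoint (T.residueField t)))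
    have hsame : ∀ (h h' : ↥I) (t : T), t ∈ stk h →
        (∀ d ∈ I.image (sep h), rk d t = (h' : ℕ → ℕ) d) → h' = h := fun h h' t ht ht' =>
      Subtype.ext (by_contra fun hne => hsep h h' hne
        (((ht' _ (Finset.mem_image_of_mem _ h'.2))).symm.trans (ht _)))
    have hopen : ∀ h, IsOpen (stk h) := fun h => isOpen_iff_forall_mem_open.2 fun t ht => by
      choose U hU hUeq using fun d => exists_open_rank_eq (hfree d) t
      refine ⟨⋂ d ∈ I.image (sep h), (U d : Set T), fun t' ht' => ?_,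
        isOpen_biInter_finset fun d _ => (U d).2, Set.mem_iInter₂.2 fun d _ => hU d⟩
      obtain ⟨h', hh'⟩ := hrk t'
      obtain rfl : h' = h := hsame h h' t ht fun d hd =>
        (hUeq d t' (Set.mem_iInter₂.1 ht' d hd)).symm.trans (hh' d)
      exact hh'
    let O : ↥I → T.Opens := fun h => ⟨stk h, hopen h⟩
    have hlift : ∀ h, ∃ k : (O h : Scheme.{u}) ⟶ St h, k ≫ e h = (O h).ι ≫ φ := fun h =>
      (huniv h _ _).2 fun d => by
        refine LocFree.isFinLocFreeOfRank_of_iso ((Scheme.Modules.pullbackComp (O h).ι φ).app _) ?_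
        have hf' := LocFree.isFinLocFree_pullback (O h).ι (hfree d)
        refine LocFree.isFinLocFreeOfRank_iff.2 fun z => ?_
        obtain ⟨U, n, s, hz, hs⟩ := exists_basis_of_isFinLocFree (hfree d) z.1
        have := KTheory.LocFree.isQCoh (hfree d)
        obtain rfl : n = (h : ℕ → ℕ) d :=
          (LocFree.finrank_stalk_of_basis hs hz).symm.trans (z.2 d)
        exact ⟨_, _, hz, hs.pull _⟩
    choose k hk using hlift
    let 𝒰 := T.openCoverOfIsOpenCover O (TopologicalSpace.IsOpenCover.of_sets hopen (by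
      exact Set.eq_univ_of_forall fun t => Set.mem_iUnion.2 (hrk t)))
    refine ⟨𝒰.glueMorphisms (fun h => k h ≫ Sigma.ι St h) fun h h' => ?_, ?_⟩
    · by_cases hh : h = h'
      · subst hh
        have : pullback.fst (𝒰.f h) (𝒰.f h) = pullback.snd (𝒰.f h) (𝒰.f h) := by
          have : Mono (𝒰.f h) := inferInstanceAs (Mono (O h).ι)
          exact fst_eq_snd_of_mono_eq _
        rw [this]
      · have : IsEmpty (pullback (O h).ι (O h').ι : Scheme.{u}) := ⟨fun z => by
          let a := (pullback.fst (O h).ι (O h').ι) z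
          let b := (pullback.snd (O h).ι (O h').ι) z
          have eab : a.1 = b.1 := by
            change (O h).ι _ = (O h').ι _
            rw [← Scheme.Hom.comp_apply, pullback.condition, Scheme.Hom.comp_apply]
          exact hh (hsame h' h b.1 b.2 fun d _ => eab ▸ a.2 d)⟩
        exact (isInitialOfIsEmpty (X := (pullback (O h).ι (O h').ι : Scheme.{u}))).hom_ext _ _
    · refine 𝒰.hom_ext _ _ fun h => ?_
      rw [← Category.assoc, Scheme.Cover.ι_glueMorphisms, Category.assoc, colimit.ι_desc]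
      exact hk h
  · rintro ⟨k, rfl⟩ x
    obtain ⟨h, w, hw⟩ : ∃ h, p x ∈ k ⁻¹ᵁ (Sigma.ι St h).opensRange ∧ True := by
      obtain ⟨h, w, hw⟩ := (sigmaOpenCover St).exists_eq (k (p x))
      exact ⟨h, ⟨w, hw⟩, trivial⟩
    let U := k ⁻¹ᵁ (Sigma.ι St h).opensRange
    let k' : (U : Scheme.{u}) ⟶ St h := IsOpenImmersion.lift (Sigma.ι St h) (U.ι ≫ k) (by
      rintro _ ⟨z, rfl⟩
      exact z.2)
    have hk' : k' ≫ e h = U.ι ≫ k ≫ Sigma.desc e := by
      have h0 : e h = Sigma.ι St h ≫ Sigma.desc e := (Sigma.ι_desc e h).symm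
      rw [h0, ← Category.assoc, IsOpenImmersion.lift_fac, Category.assoc]
    let Y := pullback f (e h)
    have sqY : IsPullback (pullback.fst f (e h)) (pullback.snd f (e h)) f (e h) :=
      IsPullback.of_hasPullback _ _
    have := he h
    have hY := isFlatOverAt_of_hasRank f hL hF sqY ((huniv h _ _).1 ⟨𝟙 _, Category.id_comp _⟩)
    have sqU := (isPullback_morphismRestrict p U).flip.paste_horiz sq
    rw [← hk'] at sqU
    let q := sqY.lift ((p ⁻¹ᵁ U).ι ≫ g') ((p ∣_ U) ≫ k') (by
      rw [sqU.w, Category.assoc])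
    have sqq : IsPullback q (p ∣_ U) (pullback.snd f (e h)) k' := by
      refine IsPullback.of_right ?_ (sqY.lift_snd _ _ _) sqY
      rw [sqY.lift_fst]; exact sqU
    have := QCohMod.isQCoh_pullback_obj (pullback.fst f (e h)) F
    let x' : ((p ⁻¹ᵁ U : X'.Opens) : Scheme.{u}) := ⟨x, w⟩
    have h1 := FlatMorOne.isFlatOverAt_baseChange sqq _ x' (hY _)
    have h2 : FlatMod.IsFlatOverAt (p ∣_ U)
        ((Scheme.Modules.pullback (p ⁻¹ᵁ U).ι).obj ((Scheme.Modules.pullback g').obj F)) x' := by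
      refine (FlatMorOne.isFlatOverAt_congr _ ((Scheme.Modules.pullbackComp q _).app F ≪≫
        (Scheme.Modules.pullbackCongr (sqY.lift_fst _ _ _)).app F ≪≫
        ((Scheme.Modules.pullbackComp (p ⁻¹ᵁ U).ι g').app F).symm) x').1 h1
    have hflat : ((p ⁻¹ᵁ U).ι.stalkMap x').hom.Flat :=
      RingHom.Flat.of_bijective (ConcreteCategory.bijective_of_isIso ((p ⁻¹ᵁ U).ι.stalkMap x'))
    refine (Flatmor4.isFlatOverAt_pullback_iff (p ⁻¹ᵁ U).ι p _ x' hflat).2 ?_
    rw [← morphismRestrict_ι]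
    exact (FlatMorOne.isFlatOverAt_comp_openImmersion (p ∣_ U) U.ι
      ((Scheme.Modules.pullback (p ⁻¹ᵁ U).ι).obj ((Scheme.Modules.pullback g').obj F)) x').2 h2

end Groth.FlatStrata
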