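import Groth.Agent.FlatStrata.Compose
import Mathlib.RingTheory.FiniteType
import Mathlib.LinearAlgebra.TensorProduct.Finiteness

/-!
# Sections of inverse images coming from finitely generated subalgebras
-/

set_option autoImplicit false

universe u

open CategoryTheory Limits AlgebraicGeometry TopologicalSpace Opposite
open scoped TensorProduct
open Groth.CohBase Groth.PicAux

namespace Groth.FlatStrata

variable {R A : Type u} [CommRing R] [CommRing A] [Algebra R A] {X X₂ : Scheme.{u}}
  [X.Over (Spec (CommRingCat.of R))] [X₂.Over (Spec (CommRingCat.of A))] {g : X₂ ⟶ X}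

/-- If base change of global sections is bijective, finitely many global sections of an inverse
image are defined over a finitely generated subalgebra. -/
theorem exists_stage_sections (hsq : IsBC (A := R) (A' := A) g) (T : X.Modules) (hb : BCBij hsq T)
    {ι : Type*} [Fintype ι] (s : ι → Γ((Scheme.Modules.pullback g).obj T, (⊤ : X₂.Opens))) :
    ∃ B : Subalgebra R A, B.FG ∧ ∀ (X₁ : Scheme.{u}) [X₁.Over (Spec (CommRingCat.of B))]
      (p : X₁ ⟶ X) (q : X₂ ⟶ X₁) (_ : IsBC (A := R) (A' := B) p) (_ : IsBC (A := B) (A' := A) q)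
      (e : q ≫ p = g) (j : ι), ∃ t : Γ((Scheme.Modules.pullback p).obj T, (⊤ : X₁.Opens)),
        (((Scheme.Modules.pullbackComp q p) ≪≫ Scheme.Modules.pullbackCongr e).app T).hom.app ⊤
          (pullSec q ((Scheme.Modules.pullback p).obj T) t) = s j := by
  classical
  choose z hz using fun j => hb.2 (show secA A ((Scheme.Modules.pullback g).obj T)
    (g ⁻¹ᵁ (⊤ : X.Opens)) from s j)
  choose S hS using fun j => TensorProduct.exists_finset (z j)
  let G : Finset A := Finset.univ.biUnion fun j => (S j).image Prod.fst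
  let B := Algebra.adjoin R (G : Set A)
  have hB : ∀ j, ∀ i ∈ S j, i.1 ∈ B := fun j i hi =>
    Algebra.subset_adjoin (Finset.mem_biUnion.2
      ⟨j, Finset.mem_univ _, Finset.mem_image_of_mem _ hi⟩)
  refine ⟨B, Subalgebra.fg_adjoin_finset G, fun X₁ _ p q h₁ h₂ e j => ?_⟩
  let φ := B.val.toLinearMap.rTensor (secA R T ⊤)
  let z₁ : B ⊗[R] secA R T ⊤ := ∑ i ∈ (S j).attach, (⟨i.1.1, hB j i.1 i.2⟩ : B) ⊗ₜ i.1.2
  have hz₁ : φ z₁ = z j := by
    rw [hS j, map_sum, ← Finset.sum_attach (S j)]
    rfl
  have hc : ∀ w : B ⊗[R] secA R T ⊤,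
      (TensorProduct.AlgebraTensorModule.cancelBaseChange R B A A (secA R T ⊤)).symm (φ w) =
        1 ⊗ₜ w := by
    intro w
    induction w using TensorProduct.induction_on with
    | zero => simp
    | tmul b m =>
      rw [LinearMap.rTensor_tmul, TensorProduct.AlgebraTensorModule.cancelBaseChange_symm_tmul,
        show b ⊗ₜ[R] m = b • ((1 : B) ⊗ₜ[R] m) by
          rw [TensorProduct.smul_tmul', smul_eq_mul, mul_one],
        ← TensorProduct.smul_tmul, Algebra.smul_def, mul_one]
      rfl
    | add p q hp hq => rw [map_add, map_add, hp, hq, TensorProduct.tmul_add]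
  subst e
  refine ⟨(show Γ((Scheme.Modules.pullback p).obj T, (⊤ : X₁.Opens)) from bcLin h₁ T ⊤ z₁), ?_⟩
  have key := bcLin_comp h₁ h₂ hsq T (φ z₁)
  rw [hc, LinearMap.lTensor_tmul, bcLin_one_tmul, hz₁, hz j] at key
  refine Eq.trans ?_ key.symm
  simp only [Scheme.Modules.pullbackCongr, eqToIso_refl, Iso.trans_refl]
  rfl

end Groth.FlatStrata
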