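import Groth.Agent.FlatStrata.Rank
import Groth.Agent.HilbPts.Basic
import Mathlib.AlgebraicGeometry.Limits

/-!
# The flattening stratification
-/

set_option autoImplicit false

universe u

open CategoryTheory Limits AlgebraicGeometry TopologicalSpace Opposite
open Groth.PicAux

namespace Groth.FlatStrata

variable {X S : Scheme.{u}} (f : X ⟶ S)

/-- The point `y` is hit by any morphism through which its residue field factors. -/
theorem mem_range_of_lift {Y Z : Scheme.{u}} {e : Z ⟶ Y} {y : Y}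
    {k : Spec (Y.residueField y) ⟶ Z} (h : k ≫ e = Y.fromSpecResidueField y) :
    y ∈ Set.range e := by
  let z : ↥(Spec (Y.residueField y)) := IsLocalRing.closedPoint (Y.residueField y)
  exact ⟨k z, by rw [← Scheme.Hom.comp_apply, h, Scheme.fromSpecResidueField_apply]⟩

/-- A point of the source as a point of the residue field of its image. -/
theorem exists_fac_point {Y Z : Scheme.{u}} (e : Z ⟶ Y) (z : Z) :
    ∃ q : Spec (Z.residueField z) ⟶ Spec (Y.residueField (e z)),
      q ≫ Y.fromSpecResidueField (e z) = Z.fromSpecResidueField z ≫ e :=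
  ⟨Spec.map (e.residueFieldMap z), Scheme.Hom.SpecMap_residueFieldMap_fromSpecResidueField e z⟩

variable [IsLocallyNoetherian S] {F L : X.Modules}

/-- Finitely many rank conditions are represented by an immersion. -/
theorem exists_rank_stratum_finite {M : ℕ → S.Modules} (hM : ∀ d, Coh.IsCoh (M d)) (r : ℕ → ℕ)
    (D : Finset ℕ) :
    ∃ (Z : Scheme.{u}) (e : Z ⟶ S), IsImmersion e ∧ ∀ (T : Scheme.{u}) (g : T ⟶ S),
      (∃ k : T ⟶ Z, k ≫ e = g) ↔
        ∀ d ∈ D, FlatMod.IsFinLocFreeOfRank (r d) ((Scheme.Modules.pullback g).obj (M d)) := by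
  classical
  induction D using Finset.induction_on with
  | empty => exact ⟨S, 𝟙 S, inferInstance, fun T g => by simp⟩
  | insert d D _ ih =>
    obtain ⟨Z, e, he, hZ⟩ := ih
    obtain ⟨Z', e', he', hZ', -⟩ := Groth.Agent.S5692.result S (M d) (hM d) (r d)
    refine ⟨pullback e e', pullback.fst e e' ≫ e, inferInstance, fun T g => ?_⟩
    rw [Finset.forall_mem_insert, hZ' T g, ← hZ T g]
    constructor
    · rintro ⟨k, rfl⟩
      refine ⟨⟨k ≫ pullback.snd e e', ?_⟩, k ≫ pullback.fst e e', by rw [Category.assoc]⟩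
      rw [Category.assoc, ← pullback.condition]
    · rintro ⟨⟨k', hk'⟩, k, hk⟩
      exact ⟨pullback.lift k k' (hk.trans hk'.symm), by rw [← Category.assoc, pullback.lift_fst, hk]⟩

variable [IsProper f] {N : ℕ}

/-- The stratum of a rank function which is determined by finitely many of its values. -/
theorem exists_stratum (hF : Coh.IsCoh F) (hL : PicF.IsInvertible L) {I : Set (ℕ → ℕ)}
    (hpt : ∀ s : S, ∃ h ∈ I, HasRank f F L N h (S.fromSpecResidueField s)) {h : ℕ → ℕ}
    (D : Finset ℕ) (hD : ∀ h' ∈ I, (∀ d ∈ D, h' d = h d) → h' = h) :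
    ∃ (Z : Scheme.{u}) (e : Z ⟶ S), IsImmersion e ∧
      (∀ (T : Scheme.{u}) (g : T ⟶ S), (∃ k : T ⟶ Z, k ≫ e = g) ↔ HasRank f F L N h g) ∧
      ∀ s : S, s ∈ Set.range e ↔ HasRank f F L N h (S.fromSpecResidueField s) := by
  obtain ⟨Z₀, e₀, he₀, hZ₀⟩ := exists_rank_stratum_finite
    (fun d => isCoh_pushTw f hF hL (N + d)) h D
  have hh : ∀ y : Z₀, HasRank f F L N h (Z₀.fromSpecResidueField y ≫ e₀) := by
    intro y
    obtain ⟨h', hh', hs⟩ := hpt (e₀ y)
    obtain ⟨q, hq⟩ := exists_fac_point e₀ y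
    have h1 := hs.comp q
    rw [hq] at h1
    have h2 := (hZ₀ _ (Z₀.fromSpecResidueField y ≫ e₀)).1 ⟨_, rfl⟩
    rwa [hD h' hh' fun d hd => rank_unique (h1 d) (h2 d hd)
      (IsLocalRing.closedPoint (Z₀.residueField y))] at h1
  choose Zd ed hed hZd _ using fun d : ℕ =>
    Groth.Agent.S5692.result S (pushTw f F L (N + d)) (isCoh_pushTw f hF hL (N + d)) (h d)
  have hcl : ∀ d, IsClosedImmersion (pullback.fst e₀ (ed d)) := fun d => by
    have := hed d
    refine IsClosedImmersion.of_isPreimmersion _ ?_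
    rw [show Set.range (pullback.fst e₀ (ed d)) = Set.univ from Set.eq_univ_of_forall fun y => ?_]
    · exact isClosed_univ
    obtain ⟨k, hk⟩ := (hZd d _ _).1 (hh y d)
    exact mem_range_of_lift (pullback.lift_fst (Z₀.fromSpecResidueField y) k hk.symm)
  let J : Z₀.IdealSheafData := ⨆ d : ℕ, (pullback.fst e₀ (ed d)).ker
  have key : ∀ (T : Scheme.{u}) (g : T ⟶ S),
      (∃ k : T ⟶ J.subscheme, k ≫ J.subschemeι ≫ e₀ = g) ↔ HasRank f F L N h g := by
    intro T g
    constructor
    · rintro ⟨k, rfl⟩ d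
      refine (hZd d T _).2 ?_
      have hle : (pullback.fst e₀ (ed d)).ker ≤ (k ≫ J.subschemeι).ker :=
        (le_iSup (fun d => (pullback.fst e₀ (ed d)).ker) d).trans
          ((Groth.HilbPts.le_ker_iff J _).2 ⟨k, rfl⟩)
      have := hcl d
      refine ⟨IsClosedImmersion.lift (pullback.fst e₀ (ed d)) (k ≫ J.subschemeι) hle ≫
        pullback.snd e₀ (ed d), ?_⟩
      rw [Category.assoc, ← pullback.condition, IsClosedImmersion.lift_fac_assoc, Category.assoc]
    · intro hg
      obtain ⟨k₀, hk₀⟩ := (hZ₀ T g).2 fun d _ => hg d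
      obtain ⟨k, hk⟩ := (Groth.HilbPts.le_ker_iff J k₀).1 (iSup_le fun d => by
        obtain ⟨kd, hkd⟩ := (hZd d T g).1 (hg d)
        have e1 : pullback.lift k₀ kd (hk₀.trans hkd.symm) ≫ pullback.fst e₀ (ed d) = k₀ :=
          pullback.lift_fst _ _ _
        rw [← e1]
        exact Scheme.Hom.le_ker_comp _ _)
      exact ⟨k, by rw [← Category.assoc, hk, hk₀]⟩
  refine ⟨J.subscheme, J.subschemeι ≫ e₀, inferInstance, key, fun s => ⟨?_, fun hs => ?_⟩⟩
  · rintro ⟨z, rfl⟩
    obtain ⟨h', hh', hs⟩ := hpt ((J.subschemeι ≫ e₀) z)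
    obtain ⟨q, hq⟩ := exists_fac_point (J.subschemeι ≫ e₀) z
    have h1 := hs.comp q
    rw [hq] at h1
    have h2 := (key _ (J.subscheme.fromSpecResidueField z ≫ J.subschemeι ≫ e₀)).1 ⟨_, rfl⟩
    rwa [h1.unique h2 (IsLocalRing.closedPoint (J.subscheme.residueField z))] at hs
  · obtain ⟨k, hk⟩ := (key _ _).2 hs
    exact mem_range_of_lift hk

end Groth.FlatStrata
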