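import Groth.Agent.FlatStrata.FlatModel
import Groth.Agent.FlatStrata.FibreModels
import Groth.Agent.Flatmor4.FlatModAffine

/-!
# Sections of high twists of flat finitely presented modules
-/

set_option autoImplicit false

universe u

open CategoryTheory Limits AlgebraicGeometry TopologicalSpace Opposite
open scoped TensorProduct
open Groth.CohBase hiding res res_res
open Groth.PicAux

namespace Groth.FlatStrata

/-- The twisting sheaf of projective space over an affine base is ample. -/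
theorem isAmple_twistOne (m : ℕ) (A : Type u) [CommRing A] :
    CohB1.IsAmple (Twist.twistOver m (Spec (CommRingCat.of A)) 1) := by
  let S := Spec (CommRingCat.of A)
  let P := CohB1.ProjSpaceOver m S
  let U := CohB1.ProjSpaceOver.toBase m S ⁻¹ᵁ (⊤ : S.Opens)
  have h := (isRelAmple_twistOne m S).2 ⟨⊤, isAffineOpen_top _⟩
  let ι' : P ⟶ (U : Scheme.{u}) := P.topIso.inv
  refine Ega2Proj.isAmple_of_iso ?_ (Chow.isAmple_pullback_of_isAffineHom ι' h)
  exact (Scheme.Modules.pullback ι').mapIso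
      ((Scheme.Modules.restrictFunctorIsoPullback U.ι).app _) ≪≫
    (Scheme.Modules.pullbackComp ι' U.ι).app _ ≪≫
    (Scheme.Modules.pullbackCongr (show ι' ≫ U.ι = 𝟙 P from P.topIso.inv_hom_id)).app _ ≪≫
    (Scheme.Modules.pullbackId P).app _

/-- Global sections of a direct image. -/
theorem nonempty_secA_push {A : Type u} [CommRing A] {X P : Scheme.{u}}
    [X.Over (Spec (CommRingCat.of A))] [P.Over (Spec (CommRingCat.of A))] (i : X ⟶ P)
    (e : i ≫ (P ↘ Spec (CommRingCat.of A)) = X ↘ Spec (CommRingCat.of A)) (M : X.Modules) :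
    Nonempty (secA A ((Scheme.Modules.pushforward i).obj M) ⊤ ≃ₗ[A] secA A M ⊤) := by
  refine ⟨{ toFun := fun s => (show secA A M ⊤ from s)
            map_add' := fun _ _ => rfl
            map_smul' := fun a s => ?_
            invFun := fun s => (show secA A ((Scheme.Modules.pushforward i).obj M) ⊤ from s)
            left_inv := fun _ => rfl
            right_inv := fun _ => rfl }⟩
  change (show Γ(X, (⊤ : X.Opens)) from i.app ⊤ (toSec A (⊤ : P.Opens) a)) •
      (show Γ(M, (⊤ : X.Opens)) from s) =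
    toSec A (⊤ : X.Opens) a • (show Γ(M, (⊤ : X.Opens)) from s)
  congr 1
  change i.app ⊤ (QCohMod.resFun P (le_refl (⊤ : P.Opens)) _) =
    QCohMod.resFun X (le_refl (⊤ : X.Opens)) _
  rw [QCohMod.resFun_self, QCohMod.resFun_self, ← e]
  rfl

/-- High twists of flat coherent modules on projective space have finite projective sections,
compatible with base change. -/
theorem exists_bound_sections {A A₁ : Type u} [CommRing A] [CommRing A₁] [IsNoetherianRing A₁]
    (φ : A₁ →+* A) (m : ℕ) (G₁ : (CohB1.ProjSpaceOver m (Spec (CommRingCat.of A₁))).Modules)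
    (hG : Coh.IsCoh G₁)
    (hfl : FlatMod.IsFlatOver (CohB1.ProjSpaceOver.toBase m (Spec (CommRingCat.of A₁))) G₁) :
    letI : (CohB1.ProjSpaceOver m (Spec (CommRingCat.of A))).Over (Spec (CommRingCat.of A)) :=
      ⟨CohB1.ProjSpaceOver.toBase m (Spec (CommRingCat.of A))⟩
    ∃ K : ℕ, ∀ k : ℕ, K ≤ k →
      Module.Finite A (secA A (CohB1.tensorMod
        ((Scheme.Modules.pullback (FGA.projMap m (Spec.map (CommRingCat.ofHom φ)))).obj G₁)
        (Twist.twistOver m (Spec (CommRingCat.of A)) (k : ℤ))) ⊤) ∧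
      Module.Projective A (secA A (CohB1.tensorMod
        ((Scheme.Modules.pullback (FGA.projMap m (Spec.map (CommRingCat.ofHom φ)))).obj G₁)
        (Twist.twistOver m (Spec (CommRingCat.of A)) (k : ℤ))) ⊤) := by
  let := φ.toAlgebra
  let S := Spec (CommRingCat.of A)
  let S₁ := Spec (CommRingCat.of A₁)
  let P := CohB1.ProjSpaceOver m S
  let P₁ := CohB1.ProjSpaceOver m S₁
  let π₁ := CohB1.ProjSpaceOver.toBase m S₁
  let : P.Over (Spec (CommRingCat.of A)) := ⟨CohB1.ProjSpaceOver.toBase m S⟩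
  let : P₁.Over (Spec (CommRingCat.of A₁)) := ⟨π₁⟩
  let q : P ⟶ P₁ := FGA.projMap m (Spec.map (CommRingCat.ofHom φ))
  have hsq : IsBC (A := A₁) (A' := A) q := isPullback_projMap m _
  have : IsProper π₁ := Groth.Variety2.isProper_projSpaceOver_toBase m S₁
  have : IsProper (P₁ ↘ Spec (CommRingCat.of A₁)) := ‹IsProper π₁›
  have := CohFin.compactSpace_of_proper (P₁ ↘ Spec (CommRingCat.of A₁))
  have := CohFin.isSeparated_of_proper (P₁ ↘ Spec (CommRingCat.of A₁))
  obtain ⟨K, hK⟩ := PnCoh.exists_subsingleton_of_isAmple (P₁ ↘ Spec (CommRingCat.of A₁))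
    (isAmple_twistOne m A₁) G₁ hG
  refine ⟨K, fun k hk => ?_⟩
  have hT := KTheory.RegSheaf.isInvertible_twistOver m S₁ (k : ℤ)
  have := hG.1
  let M₁ := CohB1.tensorMod G₁ (Twist.twistOver m S₁ (k : ℤ))
  have hM₁ : Coh.IsCoh M₁ := RefRank.isCoh_tensorMod hG (Inter.isCoh_of_isInvertible hT)
  have := hM₁.1
  have hv : ∀ p : ℕ, 1 ≤ p → Subsingleton (Coh.HH P₁ M₁ p) := fun p hp => by
    obtain ⟨eT⟩ := Agent.S2427.nonempty_tensorPow_twistOver m S₁ k
    exact PnCoh.subsingleton_HH_of_iso (P₁ ↘ Spec (CommRingCat.of A₁))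
      (PicGrp.tensorModIso (Iso.refl G₁) eT) (hK k hk p hp)
  have hf₁ : FlatMod.IsFlatOver (P₁ ↘ Spec (CommRingCat.of A₁)) M₁ :=
    FlatTwist.isFlatOver_tensorMod hT hfl
  have := hG.1
  have hfin : Module.Finite A₁ (secA A₁ M₁ ⊤) := finite_secA_top _ hM₁
  have hflat : Module.Flat A₁ (secA A₁ M₁ ⊤) := flat_secA_top_of_vanish _ hf₁ hv
  have : Module.FinitePresentation A₁ (secA A₁ M₁ ⊤) := Module.finitePresentation_of_finite _ _
  have : Module.Projective A₁ (secA A₁ M₁ ⊤) := Module.Flat.projective_of_finitePresentation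
  let E := LinearEquiv.ofBijective (bcLin hsq M₁ ⊤) (bcBij_of_vanish hsq M₁ hf₁ hv)
  obtain ⟨eTw⟩ := nonempty_pullback_projMap_twist m (Spec.map (CommRingCat.ofHom φ)) (k : ℤ)
  let E' : secA A ((Scheme.Modules.pullback q).obj M₁) ⊤ ≃ₗ[A] _ :=
    secLin A ((exists_pullback_tensorMod q G₁ _).choose ≪≫
      PicGrp.tensorModIso (Iso.refl _) eTw) ⊤
  exact ⟨Module.Finite.equiv (E.trans E'), Module.Projective.of_equiv (E.trans E')⟩

/-- High twists of a flat finitely presented module have finite projective sections. -/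
theorem exists_bound_finite_projective {A : Type u} [CommRing A] {X : Scheme.{u}}
    [X.Over (Spec (CommRingCat.of A))] [IsProper (X ↘ Spec (CommRingCat.of A))]
    [LocallyOfFinitePresentation (X ↘ Spec (CommRingCat.of A))] {L : X.Modules}
    (hL : CohB1.IsAmple L) (F : X.Modules) [F.IsQuasicoherent] (hF : CohB1.IsFP F)
    (hfl : FlatMod.IsFlatOver (X ↘ Spec (CommRingCat.of A)) F) :
    ∃ N : ℕ, ∀ n : ℕ, N ≤ n →
      Module.Finite A (secA A (tw F L n) ⊤) ∧ Module.Projective A (secA A (tw F L n) ⊤) := by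
  let f := X ↘ Spec (CommRingCat.of A)
  obtain ⟨m, N, j, hN, hj, hjf, ⟨eL⟩⟩ := PnCoh.exists_closedImmersion_of_isAmple f hL
  let S := Spec (CommRingCat.of A)
  let P := CohB1.ProjSpaceOver m S
  let π := CohB1.ProjSpaceOver.toBase m S
  let : P.Over (Spec (CommRingCat.of A)) := ⟨π⟩
  let i : X ⟶ P := j ≫ (PnCoh.overIso m A).hom
  have hif : i ≫ π = f := by
    change (j ≫ _) ≫ _ = f
    rw [Category.assoc, PnCoh.overIso_hom_toBase, hjf]
  have : IsClosedImmersion i := inferInstance
  have : IsProper π := Groth.Variety2.isProper_projSpaceOver_toBase m S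
  have : LocallyOfFinitePresentation (i ≫ π) := hif ▸ ‹LocallyOfFinitePresentation f›
  have : LocallyOfFinitePresentation i := Groth.PropsBasic2.lfp_of_comp i π
  have eL' : Nonempty (CohB1.tensorPow L N ≅
      (Scheme.Modules.pullback i).obj (Twist.twistOver m S 1)) := by
    obtain ⟨e'⟩ := PnCoh.nonempty_pullback_overIso_twist m A 1
    exact ⟨eL ≪≫ (Scheme.Modules.pullback j).mapIso e'.symm ≪≫
      (Scheme.Modules.pullbackComp j (PnCoh.overIso m A).hom).app _⟩
  obtain ⟨eLk⟩ := eL'
  have key : ∀ r : ℕ, ∃ K : ℕ, ∀ k : ℕ, K ≤ k →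
      Module.Finite A (secA A (tw F L (r + N * k)) ⊤) ∧
        Module.Projective A (secA A (tw F L (r + N * k)) ⊤) := by
    intro r
    let E := tw F L r
    have : E.IsQuasicoherent := isQCoh_tw hL.1 r
    have hE : CohB1.IsFP E := isFP_tensorMod_of_isInvertible hF (isInvertible_tensorPow hL.1 r)
    have hEfl : FlatMod.IsFlatOver (i ≫ π) E :=
      hif ▸ FlatTwist.isFlatOver_tensorMod (isInvertible_tensorPow hL.1 r) hfl
    let G := (Scheme.Modules.pushforward i).obj E
    have : G.IsQuasicoherent := QCohMod.isQCoh_pushforward E i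
    obtain ⟨A₁, i₁, i₂, φ, G₁, hG₁, hfl₁, ⟨eG⟩⟩ := exists_flat_model m G
      (isFP_push_closed i E hE) ((Groth.Flatmor4.isFlatOver_push_iff E i π).1 hEfl)
    obtain ⟨K, hK⟩ := exists_bound_sections φ m G₁ hG₁ hfl₁
    refine ⟨K, fun k hk => ?_⟩
    obtain ⟨hfin, hproj⟩ := hK k hk
    have hT : PicF.IsInvertible (Twist.twistOver m S (k : ℤ)) :=
      KTheory.RegSheaf.isInvertible_twistOver m S _
    obtain ⟨eT⟩ := Agent.S2427.nonempty_tensorPow_twistOver m S k
    let ek : tw F L (r + N * k) ≅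
        CohB1.tensorMod E ((Scheme.Modules.pullback i).obj (Twist.twistOver m S (k : ℤ))) :=
      (Ega2Proj.nonempty_twist_iso F L r N k _ rfl).some.symm ≪≫
        PicGrp.tensorModIso (Iso.refl E) ((nonempty_tensorPow_iso eLk k).some ≪≫
          (pullback_tensorPow i _ k).some.symm ≪≫ (Scheme.Modules.pullback i).mapIso eT)
    obtain ⟨eP, -⟩ := PnCoh.exists_projectionFormula i E hT
    obtain ⟨l⟩ := nonempty_secA_push (A := A) i hif
      (CohB1.tensorMod E ((Scheme.Modules.pullback i).obj (Twist.twistOver m S (k : ℤ))))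
    let T := (((secLin A (PicGrp.tensorModIso eG (Iso.refl _)) ⊤).trans (secLin A eP ⊤)).trans l).trans
      (secLin A ek ⊤).symm
    exact ⟨Module.Finite.equiv T, Module.Projective.of_equiv T⟩
  choose K hK using key
  refine ⟨N * (∑ r ∈ Finset.range N, K r) + N, fun n hn => ?_⟩
  have h1 := hK (n % N) (n / N) ((Finset.single_le_sum (fun r _ => Nat.zero_le (K r))
    (Finset.mem_range.2 (Nat.mod_lt _ hN))).trans
      ((Nat.le_div_iff_mul_le hN).2 (by rw [mul_comm]; omega)))
  rwa [Nat.mod_add_div] at h1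

end Groth.FlatStrata
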